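import Cfsg.Agent.Lib.Phan.Step

/-!
Gluing the rank two (and three) pieces of a Phan system.
-/

namespace Cfsg.Lib.Phan

open Module Cfsg.Lib.Forms Cfsg.Lib.Forms.Form

universe u
variable {F : Type*} [Field F] {σ : F →+* F} {q : ℕ} {h : IsConj σ q}
  {V : Type u} [AddCommGroup V] [Module F V] {D : Form h.kind V}

/-- `Γ` maps isomorphically onto `A` -/
structure Gr {Ω S : Type*} [Group Ω] [Group S] (p : Ω →* S) (Γ : Subgroup Ω) (A : Subgroup S) :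
    Prop where
  mem : ∀ x ∈ Γ, p x ∈ A
  ex : ∀ s ∈ A, ∃ x ∈ Γ, p x = s
  inj : ∀ x ∈ Γ, p x = 1 → x = 1

section
variable {Ω S : Type*} [Group Ω] [Group S] {p : Ω →* S} {Γ Γ' : Subgroup Ω} {A A' : Subgroup S}

theorem Gr.eq (H : Gr p Γ A) {x y : Ω} (hx : x ∈ Γ) (hy : y ∈ Γ) (e : p x = p y) : x = y :=
  (inv_mul_eq_one.1 (H.inj _ (mul_mem (inv_mem hx) hy) (by simp [e])))

theorem Gr.mem_of_le (H : Gr p Γ A) (H' : Gr p Γ' A') (le : Γ' ≤ Γ) {x : Ω} (hx : x ∈ Γ)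
    (e : p x ∈ A') : x ∈ Γ' := by
  obtain ⟨y, hy, e'⟩ := H'.ex _ e
  rwa [H.eq hx (le hy) e'.symm]

theorem Gr.exists_hom {G : Type*} [Group G] (H : Gr p Γ A) (r : Ω →* G) :
    ∃ f : A →* G, f.range = Γ.map r := by
  let φ : Γ →* A := (p.comp Γ.subtype).codRestrict A fun x => H.mem x x.2
  have hφ : Function.Bijective φ := ⟨(injective_iff_map_eq_one φ).2 fun x e =>
    Subtype.ext (H.inj x x.2 (congrArg Subtype.val e)), fun s => by
      obtain ⟨x, hx, e⟩ := H.ex s s.2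
      exact ⟨⟨x, hx⟩, Subtype.ext e⟩⟩
  refine ⟨(r.comp Γ.subtype).comp (MulEquiv.ofBijective φ hφ).symm.toMonoidHom, ?_⟩
  rw [MonoidHom.range_comp, MonoidHom.range_eq_top.2 (MulEquiv.surjective _),
    ← MonoidHom.range_eq_map, MonoidHom.range_comp, Subgroup.range_subtype]

/-- elementwise commuting subgroups -/
def Cm (Γ Γ' : Subgroup Ω) : Prop := ∀ x ∈ Γ, ∀ y ∈ Γ', x * y = y * x

theorem Cm.symm (H : Cm Γ Γ') : Cm Γ' Γ := fun x hx y hy => (H y hy x hx).symm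

theorem cm_iff : Cm Γ Γ' ↔ Γ' ≤ Subgroup.centralizer Γ :=
  ⟨fun H y hy x hx => H x hx y hy, fun H x hx y hy => H hy x hx⟩

theorem Cm.mono (H : Cm Γ Γ') {Δ Δ' : Subgroup Ω} (h1 : Δ ≤ Γ) (h2 : Δ' ≤ Γ') : Cm Δ Δ' :=
  fun x hx y hy => H x (h1 hx) y (h2 hy)

theorem Cm.sup {Δ : Subgroup Ω} (H : Cm Γ Γ') (H' : Cm Γ Δ) : Cm Γ (Γ' ⊔ Δ) :=
  cm_iff.2 (sup_le (cm_iff.1 H) (cm_iff.1 H'))

end

variable [FiniteDimensional F V] (hD : D.Nondeg) {Ω : Type*} [Group Ω] {p : Ω →* D.isom}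
include hD

theorem step {Y Y' W : Submodule F V} {H T : Subgroup Ω} {a b c : V} (hY : Nd D Y) (hW : Nd D W)
    (le : W ≤ Y) (dY : 4 ≤ finrank F Y) (dW : 4 ≤ finrank F W ∨ 3 ≤ finrank F W ∧ 3 ≤ q)
    (on : On D ![a, b, c]) (ha : a ∈ W) (hb : b ∈ W) (hc : c ∈ W)
    (hY' : ∀ s, s ∈ SUb D Y' ↔ s ∈ SUb D Y ∧ s.1 c = c) (gH : Gr p H (SUb D Y'))
    (gT : Gr p T (SUb D W)) (T3 : ∀ t ∈ T, (p t).1 c = c → t ∈ H)
    (C2 : ∀ t ∈ T, p t ∈ SUb D (Submodule.span F {b, c}) → ∀ x ∈ H, (p x).1 b = b → t * x = x * t)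
    (H0 : 4 ≤ q ∨ 5 ≤ finrank F Y ∧ (∃ a' ∈ W, D.Q a' = 1 ∧ D.B c a' = 0 ∧ D.B b a' = 0 ∧
      D.B a a' = 0) ∧ ∀ t ∈ T, p t ∈ SUb D (Submodule.span F {a, b, c}) → ∀ x ∈ H,
        (p x).1 b = b → (p x).1 a = a → t * x = x * t) : Gr p (H ⊔ T) (SUb D Y) := by
  have ub : D.Q b = 1 := on.unit 1
  have uc : D.Q c = 1 := on.unit 2
  have o : D.B b c = 0 := on.orth 1 2 (by decide)
  obtain ⟨n1, n2⟩ := nd_pair ub uc o
  obtain ⟨g, g2, g3⟩ := trans0 hD n1 n2.ge (a := c) (b := b) (Submodule.subset_span (by simp))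
    (Submodule.subset_span (by simp)) uc ub
  obtain ⟨g, g1, rfl⟩ := gT.ex g (SUb_mono (Submodule.span_le.2 (by
    rintro _ (rfl | rfl); exacts [hb, hc])) g2)
  have m1 : ∀ x ∈ H ⊔ T, p x ∈ SUb D Y := fun x hx => (sup_le (fun x hx => ((hY' _).1
    (gH.mem x hx)).1) (fun x hx => SUb_mono le (gT.mem x hx)) : H ⊔ T ≤ (SUb D Y).comap p) hx
  have d : Dat (p.comp (H ⊔ T).subtype) Y W (H.subgroupOf _) (T.subgroupOf _) a b c
      ⟨g, Subgroup.mem_sup_right g1⟩ :=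
    { hD := hD, hY := hY, hW := hW, le := le, dY := dY, dW := dW, on := on, ha := ha, hb := hb
      hc := hc, hp := fun m => m1 m m.2, H1 := fun x hx => ((hY' _).1 (gH.mem x hx)).2
      H2 := fun s s1 s2 => by
        obtain ⟨x, hx, e⟩ := gH.ex s ((hY' s).2 ⟨s1, s2⟩)
        exact ⟨⟨x, Subgroup.mem_sup_left hx⟩, hx, e⟩
      T1 := fun t ht => gT.mem t ht
      T2 := fun s s1 => by
        obtain ⟨x, hx, e⟩ := gT.ex s s1
        exact ⟨⟨x, Subgroup.mem_sup_right hx⟩, hx, e⟩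
      T3 := fun t ht e => T3 t ht e
      C2 := fun t ht e x hx e' => Subtype.ext (C2 t ht e x hx e')
      g1 := g1, g2 := g2, g3 := g3 }
  refine ⟨m1, fun s hs => ?_, fun x hx e => gH.inj x ?_ e⟩
  · refine gen hD hY (Or.inl dY) (le hc) uc (K := (H ⊔ T).map p) (fun s s1 s2 => ?_)
      ⟨g, Subgroup.mem_sup_right g1, rfl⟩ (m1 g (Subgroup.mem_sup_right g1))
      (by rw [g3]; exact D.eq_zero_symm o) hs
    obtain ⟨x, hx, e⟩ := gH.ex s ((hY' s).2 ⟨s1, s2⟩)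
    exact ⟨x, Subgroup.mem_sup_left hx, e⟩
  · refine d.mem_H (m := ⟨x, hx⟩) (H0.imp_right fun ⟨h1, ⟨a', a1, a2, a3, a4, a5⟩, h2⟩ =>
      ⟨h1, d.q3 h1 a1 a2 a3 a4 a5 fun t ht e x hx e1 e2 => Subtype.ext (h2 t ht e x hx e1 e2)⟩)
      ?_ (by change (p x).1 c = c; rw [e]; rfl)
    rw [← Subgroup.subgroupOf_sup le_sup_left le_sup_right, Subgroup.subgroupOf_self]
    trivial

omit hD [FiniteDimensional F V]

variable (F) in
/-- span of an interval of basis vectors -/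
def sp (e : ℕ → V) (i j : ℕ) : Submodule F V := Submodule.span F (e '' Set.Ico i j)

theorem mem_sp (e : ℕ → V) {i j k : ℕ} (h1 : i ≤ k) (h2 : k < j) : e k ∈ sp F e i j :=
  Submodule.subset_span ⟨k, ⟨h1, h2⟩, rfl⟩

theorem sp_mono (e : ℕ → V) {i j k l : ℕ} (h1 : i ≤ k) (h2 : l ≤ j) : sp F e k l ≤ sp F e i j :=
  Submodule.span_mono (Set.image_mono (Set.Ico_subset_Ico h1 h2))

theorem sp_two (e : ℕ → V) (i : ℕ) : Submodule.span F {e i, e (i + 1)} = sp F e i (i + 2) := by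
  rw [sp, show Set.Ico i (i + 2) = {i, i + 1} by ext; simp; omega]; simp [Set.image_insert_eq]

theorem sp_three (e : ℕ → V) (i : ℕ) :
    Submodule.span F {e i, e (i + 1), e (i + 2)} = sp F e i (i + 3) := by
  rw [sp, show Set.Ico i (i + 3) = {i, i + 1, i + 2} by ext; simp; omega]
  simp [Set.image_insert_eq]

theorem mem_perp_sp {e : ℕ → V} {i j : ℕ} {x : V} :
    x ∈ D.perp (sp F e i j) ↔ ∀ k, i ≤ k → k < j → D.B (e k) x = 0 := by
  rw [sp, D.mem_perp_span]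
  exact ⟨fun H k h1 h2 => H _ ⟨k, ⟨h1, h2⟩, rfl⟩, fun H _ ⟨k, hk, e⟩ => e ▸ H k hk.1 hk.2⟩

variable (D) in
/-- an orthonormal sequence of length `N` -/
structure OnS (e : ℕ → V) (N : ℕ) : Prop where
  unit : ∀ i < N, D.Q (e i) = 1
  orth : ∀ i < N, ∀ j < N, i ≠ j → D.B (e i) (e j) = 0

variable {e : ℕ → V} {N : ℕ} (hO : OnS D e N)
include hO

theorem OnS.on {i j : ℕ} (H : j ≤ N) : On D (fun k : Set.Ico i j => e k) :=
  ⟨fun k => hO.unit k (by have := k.2.2; omega), fun k l H' => hO.orth k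
    (by have := k.2.2; omega) l (by have := l.2.2; omega) fun e => H' (Subtype.ext e)⟩

theorem OnS.nd {i j : ℕ} (H : j ≤ N) : Nd D (sp F e i j) := by
  have := (hO.on (i := i) H).disj
  rwa [← Set.image_eq_range] at this

theorem OnS.finrank_eq {i j : ℕ} (H : j ≤ N) : finrank F (sp F e i j) = j - i := by
  have := finrank_span_eq_card (hO.on (i := i) H).li
  rw [sp, Set.image_eq_range]
  exact this.trans (by simp)

theorem OnS.on3 {i : ℕ} (H : i + 3 ≤ N) : On D ![e i, e (i + 1), e (i + 2)] :=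
  on_three (hO.unit _ (by omega)) (hO.unit _ (by omega)) (hO.unit _ (by omega))
    (hO.orth _ (by omega) _ (by omega) (by omega)) (hO.orth _ (by omega) _ (by omega) (by omega))
    (hO.orth _ (by omega) _ (by omega) (by omega))

theorem OnS.mem_iff {i j k l : ℕ} (h1 : i ≤ k) (h2 : l ≤ j) (H : j ≤ N) {s : D.isom} :
    s ∈ SUb D (sp F e k l) ↔
      s ∈ SUb D (sp F e i j) ∧ ∀ m, i ≤ m → m < j → (m < k ∨ l ≤ m) → s.1 (e m) = e m := by
  refine ⟨fun hs => ⟨SUb_mono (sp_mono e h1 h2) hs, fun m m1 m2 m3 => hs.2 _ (mem_perp_sp.2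
    fun n n1 n2 => hO.orth _ (by omega) _ (by omega) (by omega))⟩, fun ⟨hs, hs'⟩ => ⟨hs.1,
    fun x hx => ?_⟩⟩
  have a1 : x - ∑ m : Set.Ico i j, D.B (e m) x • e m ∈ D.perp (sp F e i j) :=
    mem_perp_sp.2 fun n n1 n2 => by
      rw [D.B_sub_right, (hO.on H).B_sum _ ⟨n, n1, n2⟩, sub_self]
  have a2 := hs.2 _ a1
  rw [map_sub, map_sum, Finset.sum_congr rfl (g := fun m : Set.Ico i j => D.B (e m) x • e m)
    fun m _ => ?_] at a2
  · exact sub_left_injective a2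
  · by_cases c : (m : ℕ) < k ∨ l ≤ m
    · rw [map_smul, hs' m m.2.1 m.2.2 c]
    · rw [mem_perp_sp.1 hx m (by omega) (by omega)]; simp

theorem OnS.mem_last {i j : ℕ} (h1 : i ≤ j) (H : j + 1 ≤ N) (s : D.isom) :
    s ∈ SUb D (sp F e i j) ↔ s ∈ SUb D (sp F e i (j + 1)) ∧ s.1 (e j) = e j := by
  rw [hO.mem_iff le_rfl (Nat.le_succ j) H]
  exact and_congr_right fun _ => ⟨fun H => H j h1 (by omega) (by omega), fun H m m1 m2 m3 => by
    rwa [show m = j by omega]⟩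

theorem OnS.cm {i j k l : ℕ} (h1 : j ≤ k) (H : l ≤ N) (hD : D.Nondeg) [FiniteDimensional F V] :
    Cm (SUb D (sp F e i j)) (SUb D (sp F e k l)) := fun s hs t ht => by
  by_cases c : l ≤ k
  · have : t = 1 := isom_ext fun x => ht.2 x (mem_perp_sp.2 fun n _ _ => by omega)
    simp [this]
  have o : sp F e i j ≤ D.perp (sp F e k l) := Submodule.span_le.2 (by
    rintro _ ⟨m, hm, rfl⟩
    exact mem_perp_sp.2 fun n n1 n2 => hO.orth _ (by omega) _ (by have := hm.2; omega)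
      (by have := hm.2; omega))
  refine (hD.isOrthCompl (hO.nd (i := i) (j := j) (by omega))).isom_ext (fun w hw => ?_)
    fun w hw => ?_
  · rw [isom_mul_apply, isom_mul_apply, ht.2 _ (o hw), ht.2 _ (o (SUb_maps hD hs hw))]
  · rw [isom_mul_apply, isom_mul_apply, hs.2 _ hw, hs.2]
    refine D.mem_perp.2 fun v hv => ?_
    rw [← ht.2 v (o hv), B_isom]; exact D.mem_perp.1 hw v hv

omit hO in
/-- a Phan system of graphs -/
structure Sys (p : Ω →* D.isom) (e : ℕ → V) (N : ℕ) (Λ Γ : ℕ → Subgroup Ω) : Prop where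
  hO : OnS D e N
  hΛ : ∀ i, i + 2 ≤ N → Gr p (Λ i) (SUb D (sp F e i (i + 2)))
  hΓ : ∀ i, i + 3 ≤ N → Gr p (Γ i) (SUb D (sp F e i (i + 3)))
  le1 : ∀ i, i + 3 ≤ N → Λ i ≤ Γ i
  le2 : ∀ i, i + 3 ≤ N → Λ (i + 1) ≤ Γ i
  c1 : ∀ i j, i + 2 ≤ j → j + 2 ≤ N → Cm (Λ i) (Λ j)

omit hO
variable [FiniteDimensional F V] {Λ Γ : ℕ → Subgroup Ω} (S : Sys p e N Λ Γ)
include S hD

theorem Sys.gen3 (hq : 3 ≤ q) {i : ℕ} (H : i + 3 ≤ N) : Γ i ≤ Λ i ⊔ Λ (i + 1) := fun t ht => by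
  have hO := S.hO
  obtain ⟨g, g2, g3⟩ := trans0 hD (hO.nd (i := i + 1) (j := i + 3) H)
    (by rw [hO.finrank_eq H]; omega) (mem_sp e (k := i + 2) (by omega) (by omega))
    (mem_sp e (k := i + 1) (by omega) (by omega)) (hO.unit _ (by omega)) (hO.unit _ (by omega))
  obtain ⟨g, g1, rfl⟩ := (S.hΛ (i + 1) H).ex g g2
  obtain ⟨t', t1, e'⟩ := gen hD (hO.nd (i := i) H) (Or.inr ⟨by rw [hO.finrank_eq H]; omega, hq⟩)
    (mem_sp e (k := i + 2) (by omega) (by omega)) (hO.unit _ (by omega))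
    (K := (Λ i ⊔ Λ (i + 1)).map p) (fun s s1 s2 => by
      obtain ⟨x, hx, e⟩ := (S.hΛ i (by omega)).ex s ((hO.mem_last (by omega) H s).2 ⟨s1, s2⟩)
      exact ⟨x, Subgroup.mem_sup_left hx, e⟩) ⟨g, Subgroup.mem_sup_right g1, rfl⟩
    (SUb_mono (sp_mono e (by omega) le_rfl) g2)
    (by rw [g3]; exact hO.orth _ (by omega) _ (by omega) (by omega)) ((S.hΓ i H).mem t ht)
  rwa [← (S.hΓ i H).eq (sup_le (S.le1 i H) (S.le2 i H) t1) ht e']

theorem Sys.four (hq : 4 ≤ q) {i : ℕ} (H : i + 4 ≤ N) :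
    Gr p (Γ i ⊔ Γ (i + 1)) (SUb D (sp F e i (i + 4))) := by
  have hO := S.hO
  refine step hD (W := sp F e (i + 1) (i + 4)) (hO.nd H) (hO.nd H) (sp_mono e (by omega) le_rfl)
    (by rw [hO.finrank_eq H]; omega) (Or.inr ⟨by rw [hO.finrank_eq H]; omega, by omega⟩)
    (hO.on3 (i := i + 1) H) (mem_sp e (by omega) (by omega)) (mem_sp e (by omega) (by omega))
    (mem_sp e (by omega) (by omega)) (hO.mem_last (by omega) H) (S.hΓ i (by omega))
    (S.hΓ (i + 1) H) (fun t ht e' => S.le2 i (by omega) ?_) (fun t ht e' x hx e'' => ?_)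
    (Or.inl hq)
  · exact (S.hΓ (i + 1) H).mem_of_le (S.hΛ _ (by omega)) (S.le1 _ H) ht
      ((hO.mem_last (by omega) H _).2 ⟨(S.hΓ (i + 1) H).mem t ht, e'⟩)
  · rw [sp_two] at e'
    exact (S.c1 i (i + 2) le_rfl H).symm t ((S.hΓ (i + 1) H).mem_of_le (S.hΛ _ H) (S.le2 _ H) ht e')
      x ((S.hΓ i (by omega)).mem_of_le (S.hΛ _ (by omega)) (S.le1 _ (by omega)) hx
        ((hO.mem_last (by omega) (by omega) _).2 ⟨(S.hΓ i (by omega)).mem x hx, e''⟩))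

omit S hD [FiniteDimensional F V] in
/-- the partial joins -/
def pj (Λ Γ : ℕ → Subgroup Ω) : ℕ → Subgroup Ω
  | 0 => Λ 0
  | k + 1 => pj Λ Γ k ⊔ Γ k

omit S hD [FiniteDimensional F V] in
theorem cm_pj {Δ : Subgroup Ω} (k : ℕ) (h1 : Cm Δ (Λ 0)) (h2 : ∀ i < k, Cm Δ (Γ i)) :
    Cm Δ (pj Λ Γ k) := by
  induction k with
  | zero => exact h1
  | succ k ih => exact (ih fun i hi => h2 i (by omega)).sup (h2 k (by omega))

omit S hD [FiniteDimensional F V] in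
theorem le_pj {i k : ℕ} (H : i < k) : Γ i ≤ pj Λ Γ k := by
  induction k with
  | zero => omega
  | succ k ih =>
    by_cases c : i = k
    · exact c ▸ le_sup_right
    · exact (ih (by omega)).trans le_sup_left

theorem Sys.glue (h4 : ∀ i, i + 4 ≤ N → Gr p (Γ i ⊔ Γ (i + 1)) (SUb D (sp F e i (i + 4))))
    (c2 : ∀ i j, i + 3 ≤ j → j + 2 ≤ N → Cm (Γ i) (Λ j))
    (c2' : ∀ i j, i + 2 ≤ j → j + 3 ≤ N → Cm (Λ i) (Γ j))
    (c3 : ∀ i j, i + 3 ≤ j → j + 3 ≤ N → Cm (Γ i) (Γ j)) (k : ℕ) (H : k + 2 ≤ N) :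
    Gr p (pj Λ Γ k) (SUb D (sp F e 0 (k + 2))) := by
  have hO := S.hO
  induction k using Nat.strong_induction_on with | _ k ih
  obtain _ | _ | _ | k := k
  · exact S.hΛ 0 H
  · rw [pj, pj, sup_eq_right.2 (S.le1 0 H)]; exact S.hΓ 0 H
  · rw [pj, pj, pj, sup_eq_right.2 (S.le1 0 (by omega))]; exact h4 0 H
  have e1 : pj Λ Γ (k + 3) = pj Λ Γ (k + 2) ⊔ (Γ (k + 1) ⊔ Γ (k + 2)) := by
    rw [← sup_assoc, sup_eq_left.2 (le_pj (by omega))]; rfl
  have g4 := h4 (k + 1) H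
  have i2 := ih (k + 2) (by omega) (by omega)
  rw [e1]
  refine step hD (W := sp F e (k + 1) (k + 5)) (hO.nd H) (hO.nd H) (sp_mono e (by omega) le_rfl)
    (by rw [hO.finrank_eq H]; omega) (Or.inl (by rw [hO.finrank_eq H]; omega))
    (hO.on3 (i := k + 2) H) (mem_sp e (by omega) (by omega)) (mem_sp e (by omega) (by omega))
    (mem_sp e (by omega) (by omega)) (hO.mem_last (by omega) H) i2 g4
    (fun t ht e' => le_pj (i := k + 1) (by omega) ?_) (fun t ht e' x hx e'' => ?_)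
    (Or.inr ⟨by rw [hO.finrank_eq H]; omega, ⟨e (k + 1), mem_sp e (by omega) (by omega),
      hO.unit _ (by omega), hO.orth _ (by omega) _ (by omega) (by omega),
      hO.orth _ (by omega) _ (by omega) (by omega), hO.orth _ (by omega) _ (by omega) (by omega)⟩,
      fun t ht e' x hx e1 e2 => ?_⟩)
  · exact g4.mem_of_le (S.hΓ _ (by omega)) le_sup_left ht
      ((hO.mem_last (by omega) H _).2 ⟨g4.mem t ht, e'⟩)
  · rw [sp_two] at e'
    exact cm_pj (k + 1) (S.c1 0 (k + 3) (by omega) H).symm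
      (fun i hi => (c2 i (k + 3) (by omega) H).symm) t
      (g4.mem_of_le (S.hΛ _ H) ((S.le2 _ H).trans le_sup_right) ht e') x
      (i2.mem_of_le (ih (k + 1) (by omega) (by omega)) le_sup_left hx
        ((hO.mem_last (by omega) (by omega) _).2 ⟨i2.mem x hx, e''⟩))
  · rw [sp_three] at e'
    exact cm_pj k (c2' 0 (k + 2) (by omega) H).symm
      (fun i hi => (c3 i (k + 2) (by omega) H).symm) t
      (g4.mem_of_le (S.hΓ _ H) le_sup_right ht e') x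
      (i2.mem_of_le (ih k (by omega) (by omega)) (le_sup_left.trans le_sup_left) hx
        ((hO.mem_last (by omega) (by omega) _).2 ⟨(hO.mem_last (by omega) (by omega) _).2
          ⟨i2.mem x hx, e1⟩, e2⟩))

theorem Sys.glue3 (hq : 3 ≤ q)
    (h4 : ∀ i, i + 4 ≤ N → Gr p (Γ i ⊔ Γ (i + 1)) (SUb D (sp F e i (i + 4)))) (k : ℕ)
    (H : k + 2 ≤ N) : Gr p (pj Λ Γ k) (SUb D (sp F e 0 (k + 2))) := by
  have c2' : ∀ i j, i + 2 ≤ j → j + 3 ≤ N → Cm (Λ i) (Γ j) := fun i j h1 h2 =>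
    ((S.c1 i j h1 (by omega)).sup (S.c1 i (j + 1) (by omega) h2)).mono le_rfl (S.gen3 hD hq h2)
  refine S.glue hD h4 (fun i j h1 h2 => ?_) c2' (fun i j h1 h2 => ?_) k H
  · exact (((S.c1 i j (by omega) h2).symm.sup (S.c1 (i + 1) j (by omega) h2).symm).mono le_rfl
      (S.gen3 hD hq (by omega))).symm
  · exact (((c2' i j (by omega) h2).symm.sup (c2' (i + 1) j (by omega) h2).symm).mono le_rfl
      (S.gen3 hD hq (by omega))).symm

end Cfsg.Lib.Phan
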