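import Cfsg.Agent.Lib.Phan.Three

/-!
Further properties of the local data `Loc`: generation by unipotent elements and uniqueness.
-/

set_option maxHeartbeats 400000

namespace Cfsg.Lib.Phan

open Module Cfsg.Lib.Forms Cfsg.Lib.Forms.Form Matrix CAut
open scoped commutatorElement

universe u
variable {F : Type*} [Field F] {σ : F →+* F} {q : ℕ} {h : IsConj σ q}
  {V : Type u} [AddCommGroup V] [Module F V] {D : Form h.kind V} {e : ℕ → V} {N : ℕ}

theorem su_gen2 (h : IsConj σ q) (p : ℕ) [Fact p.Prime] [CharP F p] (K : Subgroup (SU 2 F q))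
    (H : ∀ x, x ^ p = 1 → x ∈ K) : K = ⊤ := by
  obtain ⟨j⟩ := nonempty_sl2 h
  have := Linear.sl_eq_top_of_transvection_mem (K.comap j.symm.toMonoidHom) fun i k hik c =>
    H _ (by rw [← map_pow, (Linear.isTv_transvection hik c).pow_char, map_one])
  exact eq_top_iff.2 fun x _ => by simpa using this.ge (Subgroup.mem_top (j x))

theorem su_gen (h : IsConj σ q) (p : ℕ) [Fact p.Prime] [CharP F p] {m : ℕ} (hm : 3 ≤ m)
    (K : Subgroup (SU m F q)) (H : ∀ x, (∃ k, x ^ p ^ k = 1) → x ∈ K) : K = ⊤ := by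
  have := E_le (D := stdHerm h (Fin m)) (G := K.map ((Subgroup.subtype _).comp
    (suEquiv h m).toMonoidHom)) fun e z d H' => by
      obtain ⟨x, hx⟩ := (suEquiv h m).surjective ⟨_, det_eich e z d H'⟩
      obtain ⟨k, hk⟩ := unip_eich p H'
      exact ⟨x, H x ⟨k, (suEquiv h m).injective (by
        rw [map_pow, hx, map_one]; exact Subtype.ext hk)⟩, congrArg Subtype.val hx⟩
  rw [Herm.E_eq (stdHerm_nondeg h _) (by simpa)] at this
  refine eq_top_iff.2 fun x _ => ?_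
  obtain ⟨y, hy, e⟩ := this (suEquiv h m x).2
  rwa [← (suEquiv h m).injective (Subtype.ext e)]

theorem Gr.ind {Ω S : Type*} [Group Ω] [Group S] {p : Ω →* S} {Γ : Subgroup Ω} {A : Subgroup S}
    (H : Gr p Γ A) {P : S → Prop} (hA : ∀ K, (∀ s ∈ A, P s → s ∈ K) → A ≤ K) {K : Subgroup Ω}
    (hK : ∀ x ∈ Γ, P (p x) → x ∈ K) : Γ ≤ K := fun x hx => by
  obtain ⟨y, hy, e⟩ := hA ((Γ ⊓ K).map p) (fun s hs hP => by
    obtain ⟨y, hy, rfl⟩ := H.ex s hs
    exact ⟨y, ⟨hy, hK y hy hP⟩, rfl⟩) (H.mem x hx)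
  exact H.eq hy.1 hx e ▸ hy.2

theorem orth_eig {s : D.isom} {x v : V} {a b : F} (h1 : s.1 x = a • x) (h2 : s.1 v = b • v)
    (H : σ a * b ≠ 1) : D.B x v = 0 := by
  have := B_isom s x v
  rw [h1, h2, D.B_smul_left, D.B_smul_right] at this
  exact (mul_eq_zero.1 (by linear_combination this)).resolve_left (sub_ne_zero.2 H)

theorem fix_of_smul {s : D.isom} {x : V} {c : F} (hc : c ≠ 0) (H : s.1 (c • x) = c • x) :
    s.1 x = x := smul_right_injective _ hc (by simpa using H)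

theorem ringEquiv_eq_one (h : IsConj σ q) {τ : F ≃+* F} (H : ∀ l, l * σ l = 1 → τ l = l) (x : F) :
    τ x = x := by
  have cm := (knat_herm h).comm τ
  have k : ∀ x, τ x * σ x = x * σ (τ x) := fun x => by
    by_cases c : x = 0
    · simp [c]
    have c' : σ x ≠ 0 := by simpa
    have := H (x / σ x) (by rw [map_div₀, h.σσ]; field_simp)
    rw [map_div₀, cm, div_eq_div_iff (by simpa) c'] at this
    exact this
  have k2 : ∀ x, σ x ≠ x → τ x = x := fun x hx => by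
    have a1 := k x
    have a2 := k (x + 1)
    have a3 := k (x * x)
    simp only [map_add, map_one, map_mul] at a2 a3
    have a4 : σ (τ x - x) = τ x - x := by rw [map_sub]; linear_combination a1 - a2
    rw [map_sub] at a4
    refine sub_eq_zero.1 ((mul_eq_zero.1 ?_).resolve_left (sub_ne_zero.2 hx))
    linear_combination a1 + x * a4
  by_cases c : σ x = x
  · obtain ⟨y, hy⟩ := h.exists_not_fixed
    have := k2 (x + y) (by rw [map_add, c]; simpa using hy)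
    rw [map_add, k2 y hy] at this
    exact add_right_cancel this
  · exact k2 x c

variable (hO : OnS D e N)
include hO

theorem OnS.eq_smul {i j k : ℕ} (H : j ≤ N) (h1 : i ≤ k) (h2 : k < j) {v : V} (hv : v ∈ sp F e i j)
    (h3 : ∀ m, i ≤ m → m < j → m ≠ k → D.B (e m) v = 0) : v = D.B (e k) v • e k :=
  sub_eq_zero.1 (Submodule.disjoint_def.1 (hO.nd H) _
    (Submodule.sub_mem _ hv (Submodule.smul_mem _ _ (mem_sp e h1 h2))) (mem_perp_sp.2
      fun m m1 m2 => by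
        by_cases c : m = k
        · rw [c]; exact B_gs (hO.unit k (by omega)) v
        · simp [D.B_lin, h3 m m1 m2 c, hO.orth m (by omega) k (by omega) c]))

theorem OnS.ne_zero {k : ℕ} (hk : k < N) {s : D.isom} {v : V} (hv : D.Q v = 1) {μ : F}
    (H : s.1 v = μ • e k) : μ ≠ 0 := fun e' => by
  have := Q_isom s v
  rw [H, e', hv] at this; simp at this

variable [FiniteDimensional F V]

theorem OnS.exists_diag {i : ℕ} (H : i + 2 ≤ N) {l : F} (hl : l * σ l = 1) :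
    ∃ s ∈ SUb D (sp F e i (i + 2)), s.1 (e i) = l • e i ∧ s.1 (e (i + 1)) = σ l • e (i + 1) := by
  rw [← sp_two]
  exact Phan.exists_diag (hO.unit _ (by omega)) (hO.unit _ (by omega))
    (hO.orth _ (by omega) _ (by omega) (by omega)) hl

theorem OnS.perp_of_fix {i : ℕ} (H : i + 2 ≤ N) {v : V}
    (hv : ∀ s ∈ SUb D (sp F e i (i + 2)), s.1 v = v) : D.B (e i) v = 0 ∧ D.B (e (i + 1)) v = 0 := by
  obtain ⟨l, l1, l2⟩ := exists_norm_one h
  have l3 : σ l ≠ 1 := fun e => l2 (by rw [e, mul_one] at l1; rw [l1, map_one])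
  obtain ⟨d, d1, d2, d3⟩ := hO.exists_diag H l1
  have := hv d d1
  rw [← one_smul F v, map_smul] at this
  exact ⟨orth_eig d2 (by simpa using this) (b := 1) (by simpa), orth_eig d3 (by simpa using this)
    (b := 1) (by rw [h.σσ, mul_one]; rintro rfl; simp at l3)⟩

variable (hD : D.Nondeg)
include hD

theorem OnS.swap {i j k l : ℕ} (H : j ≤ N) (h0 : i + 2 ≤ j) (h1 : i ≤ k) (h2 : k < j) (h3 : i ≤ l)
    (h4 : l < j) : ∃ s ∈ SUb D (sp F e i j), s.1 (e k) = e l :=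
  trans0 hD (hO.nd H) (by rw [hO.finrank_eq H]; omega) (mem_sp e h1 h2) (mem_sp e h3 h4)
    (hO.unit _ (by omega)) (hO.unit _ (by omega))

theorem OnS.gen_p2 (p : ℕ) [Fact p.Prime] [CharP F p] {i : ℕ} (H : i + 2 ≤ N)
    (K : Subgroup D.isom) (hK : ∀ s ∈ SUb D (sp F e i (i + 2)), s ^ p = 1 → s ∈ K) :
    SUb D (sp F e i (i + 2)) ≤ K := fun s hs => by
  obtain ⟨j, -⟩ := hO.exists_equiv hD H
  have := su_gen2 h p (K.comap ((Subgroup.subtype _).comp j.toMonoidHom)) fun x hx =>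
    hK _ (j x).2 (by rw [← map_pow, hx, map_one])
  simpa using this.ge (Subgroup.mem_top (j.symm ⟨s, hs⟩))

theorem OnS.gen_p (p : ℕ) [Fact p.Prime] [CharP F p] {i m : ℕ} (hm : 2 ≤ m) (H : i + m ≤ N)
    (K : Subgroup D.isom) (hK : ∀ s ∈ SUb D (sp F e i (i + m)), Unip p s → s ∈ K) :
    SUb D (sp F e i (i + m)) ≤ K := by
  obtain rfl | hm := hm.eq_or_lt
  · exact hO.gen_p2 hD p H K fun s hs e => hK s hs ⟨1, by rwa [pow_one]⟩
  intro s hs
  obtain ⟨j, -⟩ := hO.exists_equiv hD H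
  have := su_gen h p hm (K.comap ((Subgroup.subtype _).comp j.toMonoidHom)) fun x hx =>
    hK _ (j x).2 (hx.imp fun k hk => by rw [← map_pow, hk, map_one])
  simpa using this.ge (Subgroup.mem_top (j.symm ⟨s, hs⟩))

theorem OnS.gen3 (hq : 3 ≤ q) {i : ℕ} (H : i + 3 ≤ N) :
    SUb D (sp F e i (i + 3)) ≤ SUb D (sp F e i (i + 2)) ⊔ SUb D (sp F e (i + 1) (i + 3)) := by
  obtain ⟨g, g2, g3⟩ := hO.swap hD (i := i + 1) (k := i + 2) (l := i + 1) H le_rfl (by omega)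
    (by omega) le_rfl (by omega)
  exact gen hD (hO.nd H) (Or.inr ⟨by rw [hO.finrank_eq H]; omega, hq⟩)
    (mem_sp e (k := i + 2) (by omega) (by omega)) (hO.unit _ (by omega))
    (fun s s1 s2 => Subgroup.mem_sup_left ((hO.mem_last (by omega) H s).2 ⟨s1, s2⟩))
    (Subgroup.mem_sup_right g2) (SUb_mono (sp_mono e (by omega) le_rfl) g2)
    (by rw [g3]; exact hO.orth _ (by omega) _ (by omega) (by omega))

theorem OnS.gen4 {i : ℕ} (H : i + 4 ≤ N) :
    SUb D (sp F e i (i + 4)) ≤ SUb D (sp F e i (i + 3)) ⊔ SUb D (sp F e (i + 1) (i + 4)) := by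
  obtain ⟨g, g2, g3⟩ := hO.swap hD (i := i + 1) (k := i + 3) (l := i + 1) H (by omega) (by omega)
    (by omega) le_rfl (by omega)
  exact gen hD (hO.nd H) (Or.inl (by rw [hO.finrank_eq H]; omega))
    (mem_sp e (k := i + 3) (by omega) (by omega)) (hO.unit _ (by omega))
    (fun s s1 s2 => Subgroup.mem_sup_left ((hO.mem_last (by omega) H s).2 ⟨s1, s2⟩))
    (Subgroup.mem_sup_right g2) (SUb_mono (sp_mono e (by omega) le_rfl) g2)
    (by rw [g3]; exact hO.orth _ (by omega) _ (by omega) (by omega))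

theorem OnS.invol_mem (hq : q = 2) {i : ℕ} (H : i + 3 ≤ N) {t : D.isom}
    (ht : t ∈ SUb D (sp F e i (i + 3))) (h2 : t * t = 1) :
    t ∈ SUb D (sp F e i (i + 2)) ⊔ SUb D (sp F e (i + 1) (i + 3)) := by
  subst hq
  have := h.finite
  obtain ⟨p, k, hp, hc, hk, e2⟩ := exists_prime_pow_of_card_eq_sq h.card
  obtain rfl : p = 2 := (Nat.prime_dvd_prime_iff_eq hp Nat.prime_two).1
    (e2 ▸ dvd_pow_self p (by omega))
  have c2 : (2 : F) = 0 := CharP.cast_eq_zero F 2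
  set W := sp F e i (i + 3)
  have hs : t ∈ D.stab W := D.mem_stab_of_mapsTo fun x hx => SUb_maps hD ht hx
  have key : t.1 (e i) = e i ∨ t.1 (e (i + 1)) = e (i + 1) ∨ t.1 (e (i + 2)) = e (i + 2) := by
    by_cases c : D.res W ⟨t, hs⟩ = 1
    · exact Or.inl (congrArg Subtype.val (congrArg (fun g : (D.restrict W).isom =>
        g.1 ⟨e i, mem_sp e le_rfl (by omega)⟩) c))
    obtain ⟨r, -, r2, r3, -⟩ := invol_even (D.nondeg_restrict_iff.2 (hO.nd H))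
      (by rw [hO.finrank_eq H]; omega) c2 (t := D.res W ⟨t, hs⟩)
      (by rw [← map_mul, show (⟨t, hs⟩ * ⟨t, hs⟩ : D.stab W) = 1 from Subtype.ext h2, map_one]) c
    have k : ∀ m (h1 : i ≤ m) (h2 : m < i + 3), D.B r (e m) = 0 → t.1 (e m) = e m :=
      fun m h1 h2 H => congrArg Subtype.val ((r3 ⟨e m, mem_sp e h1 h2⟩).2 H)
    obtain ⟨r, hr⟩ := r
    obtain ⟨x, y, z, rfl⟩ := Submodule.mem_span_triple.1 ((sp_three e i).ge hr)
    have on := hO.on3 H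
    have a0 := on.B_sum ![x, y, z] 0
    have a1 := on.B_sum ![x, y, z] 1
    have a2 := on.B_sum ![x, y, z] 2
    simp only [Fin.sum_univ_three, cons_val_zero, cons_val_one, cons_val] at a0 a1 a2
    have n : ∀ x : F, x ≠ 0 → σ x * x = 1 := fun x hx => by
      have := h.finite
      have := Fintype.ofFinite F
      have e := FiniteField.pow_card_sub_one_eq_one x hx
      rw [← Nat.card_eq_fintype_card, h.card] at e
      rw [h.apply, ← e]; ring
    by_contra c'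
    push Not at c'
    rw [restrict_Q, ← B_self] at r2
    simp only [D.B_add_left, D.B_smul_left, a0, a1, a2] at r2
    rw [n x fun e => c'.1 (k _ le_rfl (by omega) (D.eq_zero_symm (a0.trans e))),
      n y fun e => c'.2.1 (k _ (by omega) (by omega) (D.eq_zero_symm (a1.trans e))),
      n z fun e => c'.2.2 (k _ (by omega) (by omega) (D.eq_zero_symm (a2.trans e)))] at r2
    exact one_ne_zero (by linear_combination r2 - c2)
  rcases key with c | c | c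
  · exact Subgroup.mem_sup_right ((hO.mem_first (by omega) H _).2 ⟨ht, c⟩)
  · obtain ⟨s, s1, s2⟩ := hO.swap hD (i := i) (j := i + 2) (k := i + 1) (l := i) (by omega) le_rfl
      (by omega) (by omega) le_rfl (by omega)
    have s3 := SUb_mono (sp_mono e le_rfl (Nat.le_succ (i + 2))) s1
    have := Subgroup.mem_sup_right (S := SUb D (sp F e i (i + 2))) ((hO.mem_first (by omega) H
      (s * t * s⁻¹)).2 ⟨mul_mem (mul_mem s3 ht) (inv_mem s3), by
        rw [isom_mul_apply, isom_mul_apply, isom_inv_apply_eq.2 s2, c, s2]⟩)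
    simpa [mul_assoc] using mul_mem (mul_mem (inv_mem (Subgroup.mem_sup_left s1)) this)
      (Subgroup.mem_sup_left s1)
  · exact Subgroup.mem_sup_left ((hO.mem_last (by omega) H _).2 ⟨ht, c⟩)

theorem aut_conj {i : ℕ} (H : i + 2 ≤ N)
    (α : SUb D (sp F e i (i + 2)) ≃* SUb D (sp F e i (i + 2)))
    (hα : ∀ s, D.B (e (i + 1)) (s.1.1 (e i)) = 0 → α s = s) :
    ∃ r : D.isom, (∃ ν : F, ν ≠ 0 ∧ r.1 (e (i + 1)) = ν • e (i + 1)) ∧
      (∀ x, D.B (e (i + 1)) x = 0 → r.1 x = x) ∧ ∀ s, (α s).1 = r * s.1 * r⁻¹ := by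
  obtain ⟨j, hj⟩ := hO.exists_equiv hD H
  have e1 : ∀ x, (j x).1.1 (e i) = x.1 0 0 • e i + x.1 1 0 • e (i + 1) := fun x => by
    simpa [Fin.sum_univ_two] using hj x 0
  have u1 := hO.unit (i + 1) (by omega)
  have o := hO.orth (i + 1) (by omega) i (by omega) (by omega)
  have e2 : ∀ x, D.B (e (i + 1)) ((j x).1.1 (e i)) = x.1 1 0 := fun x => by
    simp [e1, D.B_lin, B_self, u1, o]
  obtain ⟨τ, ν, h1, h2⟩ := aut_su2_diag h (j.trans (α.trans j.symm)) fun x hx => by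
    simpa [hα _ ((e2 x).trans hx)] using hx
  have hτ := ringEquiv_eq_one h (τ := τ) fun l hl => by
    obtain ⟨x, x1, x2⟩ := exists_su2 h (a := l) (b := 0) (by simpa)
    simpa [hα _ ((e2 x).trans x2), x1] using (h2 x).1.symm
  have r1 : D.IsRk1 (e (i + 1)) (ν - 1) := (Herm.isRk1_iff_of_Q_eq_one u1).2 (by simpa using h1)
  have r2 : (D.rk1 _ _ r1).1 (e (i + 1)) = ν • e (i + 1) := by simp [rk1_apply, B_self, u1, sub_smul]
  have r3 : ∀ x, D.B (e (i + 1)) x = 0 → (D.rk1 _ _ r1).1 x = x := fun x => D.rk1_apply_of_perp _ _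
  refine ⟨_, ⟨ν, left_ne_zero_of_mul_eq_one h1, r2⟩, r3, fun s => ?_⟩
  generalize D.rk1 _ _ r1 = r at r2 r3
  obtain ⟨x, rfl⟩ := j.surjective s
  have a2 := e1 (j.symm (α (j x)))
  obtain ⟨b1, b2⟩ := h2 x
  simp only [MulEquiv.trans_apply, hτ] at b1 b2
  rw [b1, b2, MulEquiv.apply_symm_apply] at a2
  refine (inv_mul_eq_one.1 (hO.one hD (i := i + 1) H ((hO.mem_first (by omega) H _).2
    ⟨mul_mem (inv_mem (α _).2) ⟨by simp [(mem_SUb.1 (j x).2).1], fun v hv => ?_⟩, ?_⟩)))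
  · have := r3 v (mem_perp_sp.1 hv _ (by omega) (by omega))
    rw [isom_mul_apply, isom_mul_apply, isom_inv_apply_eq.2 this, (j x).2.2 v hv, this]
  · rw [isom_mul_apply, isom_inv_apply_eq, a2, isom_mul_apply, isom_mul_apply,
      isom_inv_apply_eq.2 (r3 _ o), e1, map_add, map_smul, map_smul, r2, r3 _ o, smul_smul, mul_comm]

variable {G : Type*} [Group G] {i : ℕ} {Γ Γ' : Subgroup (G × D.isom)} {U U' W : Subgroup G}

omit hO hD [FiniteDimensional F V] in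
theorem pmul {S : Type*} [Group S] {Γ : Subgroup (G × S)} {a b : G} {s t : S} (h1 : (a, s) ∈ Γ)
    (h2 : (b, t) ∈ Γ) : (a * b, s * t) ∈ Γ := mul_mem h1 h2

omit hO hD [FiniteDimensional F V] in
theorem pinv {S : Type*} [Group S] {Γ : Subgroup (G × S)} {a : G} {s : S} (h1 : (a, s) ∈ Γ) :
    (a⁻¹, s⁻¹) ∈ Γ := inv_mem h1

omit hO hD [FiniteDimensional F V] in
theorem pconj {S : Type*} [Group S] {Γ : Subgroup (G × S)} {a b : G} {s t : S} (h1 : (a, s) ∈ Γ)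
    (h2 : (b, t) ∈ Γ) : (a * b * a⁻¹, s * t * s⁻¹) ∈ Γ := pmul (pmul h1 h2) (pinv h1)

omit hO hD [FiniteDimensional F V] in
theorem Loc.mem (L : Loc Γ e i U U' W) {y : G} {s : D.isom} (h1 : (y, s) ∈ Γ) :
    s ∈ SUb D (sp F e i (i + 3)) := L.gr.mem _ h1

omit hO hD [FiniteDimensional F V] in
theorem Loc.ex (L : Loc Γ e i U U' W) {s : D.isom} (h1 : s ∈ SUb D (sp F e i (i + 3))) :
    ∃ y, (y, s) ∈ Γ := by
  obtain ⟨⟨y, _⟩, y1, rfl⟩ := L.gr.ex s h1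
  exact ⟨y, y1⟩

omit hO hD [FiniteDimensional F V] in
theorem conj_fix {y u : G} {t s : D.isom} (h1 : (y, t) ∈ Γ) (h2 : (u, s) ∈ Γ) {x x' : V}
    (h3 : s.1 x = x) {κ : F} (h4 : κ ≠ 0) (h5 : t.1 x = κ • x') :
    ∃ s', (y * u * y⁻¹, s') ∈ Γ ∧ s'.1 x' = x' :=
  ⟨t * s * t⁻¹, mul_mem (mul_mem h1 h2) (inv_mem h1), fix_of_smul h4 (by
    rw [← h5, isom_mul_apply, isom_mul_apply, isom_inv_apply, h3])⟩

omit hO hD [FiniteDimensional F V] in
theorem Loc.normL (L : Loc Γ e i U U' W) {y : G} {t : D.isom} (h1 : (y, t) ∈ Γ) {κ : F}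
    (h4 : κ ≠ 0) (h5 : t.1 (e (i + 2)) = κ • e (i + 2)) {u : G} (hu : u ∈ U) : y * u * y⁻¹ ∈ U := by
  obtain ⟨s, s1, s2⟩ := (L.left u).1 hu
  exact (L.left _).2 (conj_fix h1 s1 s2 h4 h5)

omit hO hD [FiniteDimensional F V] in
theorem Loc.normR (L : Loc Γ e i U U' W) {y : G} {t : D.isom} (h1 : (y, t) ∈ Γ) {κ : F}
    (h4 : κ ≠ 0) (h5 : t.1 (e i) = κ • e i) {u : G} (hu : u ∈ U') : y * u * y⁻¹ ∈ U' := by
  obtain ⟨s, s1, s2⟩ := (L.right u).1 hu
  exact (L.right _).2 (conj_fix h1 s1 s2 h4 h5)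

theorem Loc.exists_swap (H : i + 3 ≤ N) (L : Loc Γ e i U U' W) : ∃ w t, (w, t) ∈ Γ ∧
    t.1 (e i) = e (i + 2) ∧ t.1 (e (i + 2)) = e i ∧ (∀ u, u ∈ U ↔ w * u * w⁻¹ ∈ U') ∧
      ∀ u, u ∈ U' ↔ w * u * w⁻¹ ∈ U := by
  obtain ⟨t, t1, t2, t3⟩ := trans_pair hD (hO.nd (i := i) H) (by rw [hO.finrank_eq H]; omega)
    (mem_sp e (k := i) (by omega) (by omega)) (mem_sp e (k := i + 2) (by omega) (by omega))
    (mem_sp e (k := i + 2) (by omega) (by omega)) (mem_sp e (k := i) (by omega) (by omega))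
    (hO.unit _ (by omega)) (hO.unit _ (by omega)) (hO.unit _ (by omega)) (hO.unit _ (by omega))
    (hO.orth _ (by omega) _ (by omega) (by omega)) (hO.orth _ (by omega) _ (by omega) (by omega))
  obtain ⟨w, w1⟩ := L.ex t1
  have k : ∀ {w : G} {t : D.isom}, (w, t) ∈ Γ → t.1 (e i) = e (i + 2) → t.1 (e (i + 2)) = e i →
      (∀ u ∈ U, w * u * w⁻¹ ∈ U') ∧ ∀ u ∈ U', w * u * w⁻¹ ∈ U := fun w1 t2 t3 =>
    ⟨fun u hu => by
      obtain ⟨s, s1, s2⟩ := (L.left u).1 hu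
      exact (L.right _).2 (conj_fix w1 s1 s2 one_ne_zero (by rw [t3, one_smul])), fun u hu => by
      obtain ⟨s, s1, s2⟩ := (L.right u).1 hu
      exact (L.left _).2 (conj_fix w1 s1 s2 one_ne_zero (by rw [t2, one_smul]))⟩
  have k1 := k w1 t2 t3
  have k2 := k (pinv w1) (isom_inv_apply_eq.2 t3) (isom_inv_apply_eq.2 t2)
  exact ⟨w, t, w1, t2, t3, fun u => ⟨k1.1 u, fun H => by simpa [mul_assoc] using k2.2 _ H⟩,
    fun u => ⟨k1.2 u, fun H => by simpa [mul_assoc] using k2.1 _ H⟩⟩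

theorem Loc.cent' (H : i + 3 ≤ N) (L : Loc Γ e i U U' W) {x : G} (hx : x ∈ U)
    (hc : ∀ y ∈ U', x * y = y * x) : x = 1 := by
  obtain ⟨w, t, -, -, -, w1, w2⟩ := L.exists_swap hO hD H
  have := L.cent hO hD H ((w1 x).1 hx) fun y hy => by
    have := hc (w⁻¹ * y * w) ((w2 _).2 (by simpa [mul_assoc] using hy))
    calc w * x * w⁻¹ * y = w * (x * (w⁻¹ * y * w)) * w⁻¹ := by group
      _ = _ := by rw [this]; group
  simpa using this

theorem Loc.exL (H : i + 3 ≤ N) (L : Loc Γ e i U U' W) {s : D.isom}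
    (hs : s ∈ SUb D (sp F e i (i + 2))) : ∃ y ∈ U, (y, s) ∈ Γ := by
  obtain ⟨s1, s2⟩ := (hO.mem_last (by omega) H s).1 hs
  obtain ⟨⟨y, _⟩, y1, rfl⟩ := L.gr.ex s s1
  exact ⟨y, (L.left y).2 ⟨_, y1, s2⟩, y1⟩

theorem Loc.exR (H : i + 3 ≤ N) (L : Loc Γ e i U U' W) {s : D.isom}
    (hs : s ∈ SUb D (sp F e (i + 1) (i + 3))) : ∃ y ∈ U', (y, s) ∈ Γ := by
  obtain ⟨s1, s2⟩ := (hO.mem_first (by omega) H s).1 hs
  obtain ⟨⟨y, _⟩, y1, rfl⟩ := L.gr.ex s s1
  exact ⟨y, (L.right y).2 ⟨_, y1, s2⟩, y1⟩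

omit hO hD [FiniteDimensional F V] in
theorem Loc.eq (L : Loc Γ e i U U' W) {y y' : G} {s : D.isom} (h1 : (y, s) ∈ Γ) (h2 : (y', s) ∈ Γ) :
    y = y' := congrArg Prod.fst (L.gr.eq h1 h2 rfl)

omit hO hD [FiniteDimensional F V] in
theorem Loc.pow (L : Loc Γ e i U U' W) {y : G} {s : D.isom} (h1 : (y, s) ∈ Γ) {n : ℕ}
    (h2 : s ^ n = 1) : y ^ n = 1 := L.eq (by rw [← h2]; exact pow_mem h1 n) (one_mem Γ)

theorem Loc.ne_bot (H : i + 3 ≤ N) (L : Loc Γ e i U U' W) : (∃ y ∈ U, y ≠ 1) ∧ ∃ y ∈ U', y ≠ 1 := by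
  have k : ∃ y ∈ U, y ≠ 1 := by
    obtain ⟨s, s1, s2⟩ := hO.swap hD (i := i) (j := i + 2) (k := i + 1) (l := i) (by omega) le_rfl
      (by omega) (by omega) le_rfl (by omega)
    obtain ⟨y, y1, y2⟩ := L.exL hO hD H s1
    refine ⟨y, y1, fun e' => ?_⟩
    rw [L.inj hO H (e' ▸ y2) (k := 2) (by omega) ((hO.mem_last (by omega) H s).1 s1).2] at s2
    have := hO.orth (i + 1) (by omega) i (by omega) (by omega)
    rw [← s2, isom_one_apply, B_self, hO.unit _ (by omega)] at this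
    exact one_ne_zero this
  obtain ⟨w, t, -, -, -, w1, -⟩ := L.exists_swap hO hD H
  exact ⟨k, k.elim fun y hy => ⟨_, (w1 y).1 hy.1, by simpa using hy.2⟩⟩

theorem Loc.cardL (H : i + 3 ≤ N) (L : Loc Γ e i U U' W) : Nat.card U = Nat.card (SU 2 F q) := by
  obtain ⟨j, -⟩ := hO.exists_equiv hD (i := i) (m := 2) (by omega)
  obtain ⟨φ, -⟩ := (L.grL hO H).exists_equiv
  obtain ⟨ψ, -⟩ := (L.gr.inf (SUb_mono (sp_mono e le_rfl (Nat.le_succ (i + 2))))).exists_equiv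
  exact Nat.card_congr (φ.symm.trans (ψ.trans j.symm)).toEquiv

theorem Loc.cardR (H : i + 3 ≤ N) (L : Loc Γ e i U U' W) : Nat.card U' = Nat.card (SU 2 F q) := by
  obtain ⟨j, -⟩ := hO.exists_equiv hD (i := i + 1) (m := 2) (by omega)
  obtain ⟨φ, -⟩ := (L.grR hO H).exists_equiv
  obtain ⟨ψ, -⟩ := (L.gr.inf (SUb_mono (sp_mono e (Nat.le_succ i) le_rfl))).exists_equiv
  exact Nat.card_congr (φ.symm.trans (ψ.trans j.symm)).toEquiv

variable (p : ℕ) [Fact p.Prime] [CharP F p]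

theorem Loc.genL (H : i + 3 ≤ N) (L : Loc Γ e i U U' W) {K : Subgroup G}
    (hK : ∀ y ∈ U, (∃ k, y ^ p ^ k = 1) → y ∈ K) : U ≤ K := fun y hy => by
  obtain ⟨x, x1, rfl⟩ := (L.grL hO H).ex y hy
  exact (L.gr.inf (SUb_mono (sp_mono e le_rfl (Nat.le_succ (i + 2))))).ind
    (hO.gen_p hD p le_rfl (by omega)) (K := K.comap (MonoidHom.fst _ _)) (fun x hx e =>
      hK _ ((L.grL hO H).mem x hx) (e.imp fun k hk => L.pow hx.1 hk)) x1

theorem Loc.genR (H : i + 3 ≤ N) (L : Loc Γ e i U U' W) {K : Subgroup G}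
    (hK : ∀ y ∈ U', (∃ k, y ^ p ^ k = 1) → y ∈ K) : U' ≤ K := fun y hy => by
  obtain ⟨w, -, -, -, -, w1, -⟩ := L.exists_swap hO hD H
  have := L.genL hO hD p H (K := K.comap (MulAut.conj w).toMonoidHom) (fun y hy ⟨k, hk⟩ =>
    hK (w * y * w⁻¹) ((w1 y).1 hy) ⟨k, by rw [conj_pow, hk]; simp⟩)
    ((w1 (w⁻¹ * y * w)).2 (by simpa [mul_assoc] using hy))
  simpa [mul_assoc] using this

theorem Loc.genW (H : i + 3 ≤ N) (L : Loc Γ e i U U' W) {K : Subgroup G}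
    (hK : ∀ y ∈ W, (∃ k, y ^ p ^ k = 1) → y ∈ K) : W ≤ K := fun y hy => by
  obtain ⟨s, hs⟩ := (L.fst y).1 hy
  exact L.gr.ind (hO.gen_p hD p (by omega) H) (K := K.comap (MonoidHom.fst _ _)) (fun x hx e =>
      hK x.1 ((L.fst x.1).2 ⟨x.2, hx⟩) (e.imp fun k hk => L.pow (y := x.1) (s := x.2) hx hk)) hs

include p in
theorem Loc.fix_of_norm (H : i + 3 ≤ N) (L : Loc Γ e i U U' W) {y : G} {t : D.isom}
    (h1 : (y, t) ∈ Γ) {A : Subgroup G} {j k : ℕ} (hk : k < 3) (hj : j + 2 ≤ N)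
    (hA : ∀ g, g ∈ A ↔ ∃ s, (g, s) ∈ Γ ∧ s.1 (e (i + k)) = e (i + k))
    (hA' : ∀ s ∈ SUb D (sp F e j (j + 2)), ∃ y ∈ A, (y, s) ∈ Γ)
    (hy : ∀ u ∈ A, y⁻¹ * u * y ∈ A) :
    D.B (e j) (t.1 (e (i + k))) = 0 ∧ D.B (e (j + 1)) (t.1 (e (i + k))) = 0 := by
  refine hO.perp_of_fix hj fun s hs => D.mem_fix_span.1 (hO.gen_p hD p le_rfl hj
    (D.fix (F ∙ t.1 (e (i + k)))) (fun r r1 r2 => D.mem_fix_span.2 fun _ e' => ?_) hs) _ rfl
  obtain ⟨u, u1, u2⟩ := hA' r r1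
  obtain ⟨r', a1, a2⟩ := (hA _).1 (hy u u1)
  have a3 := pmul (pmul (pmul (pinv h1) u2) h1) (pinv a1)
  rw [mul_inv_cancel] at a3
  obtain ⟨z, hz⟩ := L.ker _ a3
  have a4 := hz k hk
  rw [isom_mul_apply, isom_inv_apply_eq.2 a2, isom_mul_apply, isom_mul_apply, isom_inv_apply_eq,
    map_smul] at a4
  rw [e']
  exact r2.apply_eq ⟨z, a4.symm⟩

include p in
theorem Loc.uniq1 (hF : Fld D e N) (h3 : 3 ≤ finrank F V) (H : i + 3 ≤ N) (L : Loc Γ e i U U' W)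
    (L' : Loc Γ' e i U U' W) : ∃ t : Gam D, Dg e N t ∧
      ∀ y s, s ∈ SUb D (sp F e i (i + 2)) → (y, s) ∈ Γ → (y, cjI t s) ∈ Γ' := by
  have g1 := L.gr.inf (SUb_mono (sp_mono e le_rfl (Nat.le_succ (i + 2))))
  obtain ⟨α, hα⟩ := exists_aut g1
    (L'.gr.inf (SUb_mono (sp_mono e le_rfl (Nat.le_succ (i + 2))))) (L.grL hO H) (L'.grL hO H)
  obtain ⟨t, t1, t2⟩ := aut_diag hO hD hF h3 (i := i) (by omega) α fun s hs => by
    obtain ⟨y, -, y2⟩ := L.exL hO hD H s.2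
    obtain ⟨μ, κ, m1, -, m2, -⟩ := hO.diag hD (by omega) s.2 hs
    exact (L'.fix_of_norm hO hD p H ((hα y s).1 ⟨y2, s.2⟩).1 (k := 0) (j := i + 1) (by omega) H
      L'.right (fun s hs => L'.exR hO hD H hs) fun u hu => by
        simpa using L.normR (pinv y2) (inv_ne_zero m1) (isom_inv_apply_eq.2 (by
          rw [map_smul, m2, inv_smul_smul₀ m1])) hu).1
  exact ⟨t, t1, fun y s s1 s2 => t2 ⟨s, s1⟩ ▸ ((hα y ⟨s, s1⟩).1 ⟨s2, s1⟩).1⟩

include p in
theorem Loc.uniq2 (H : i + 3 ≤ N) (L : Loc Γ e i U U' W) (L' : Loc Γ' e i U U' W)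
    (h1 : ∀ y s, s ∈ SUb D (sp F e i (i + 2)) → (y, s) ∈ Γ → (y, s) ∈ Γ') :
    ∃ r : D.isom, (∃ ν : F, ν ≠ 0 ∧ r.1 (e (i + 2)) = ν • e (i + 2)) ∧
      (∀ x, D.B (e (i + 2)) x = 0 → r.1 x = x) ∧
        ∀ y s, s ∈ SUb D (sp F e (i + 1) (i + 3)) → (y, s) ∈ Γ → (y, r * s * r⁻¹) ∈ Γ' := by
  have g1 := L.gr.inf (SUb_mono (sp_mono e (Nat.le_succ i) le_rfl))
  obtain ⟨α, hα⟩ := exists_aut g1
    (L'.gr.inf (SUb_mono (sp_mono e (Nat.le_succ i) le_rfl))) (L.grR hO H) (L'.grR hO H)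
  obtain ⟨r, r1, r2, r3⟩ := aut_conj hO hD (i := i + 1) (by omega) α fun s hs => by
    obtain ⟨y, -, y2⟩ := L.exR hO hD H s.2
    obtain ⟨μ, κ, -, m1, -, m2⟩ := hO.diag hD (i := i + 1) H s.2 hs
    have y3 := ((hα y s).1 ⟨y2, s.2⟩).1
    have a1 := (L'.fix_of_norm hO hD p H y3 (k := 2) (j := i) (by omega) (by omega)
      L'.left (fun s hs => L'.exL hO hD H hs) fun u hu => by
        simpa using L.normL (pinv y2) (inv_ne_zero m1) (isom_inv_apply_eq.2 (by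
          rw [map_smul, m2, inv_smul_smul₀ m1])) hu)
    have a2 := hO.eq_smul H (k := i + 2) (by omega) (by omega) (SUb_maps hD (L'.mem y3)
      (mem_sp e (k := i + 2) (by omega) (by omega))) fun m _ _ _ => by
        obtain rfl | rfl : m = i ∨ m = i + 1 := by omega
        exacts [a1.1, a1.2]
    have a3 := hO.ne_zero (by omega) (hO.unit _ (by omega)) a2
    obtain ⟨t, t1, t2⟩ := hO.swap hD (i := i) (j := i + 2) (k := i) (l := i + 1) (by omega) le_rfl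
      le_rfl (by omega) (by omega) (by omega)
    obtain ⟨u, -, u2⟩ := L.exL hO hD H t1
    have t3 := ((hO.mem_last (by omega) H t).1 t1).2
    have k : ∀ {s : D.isom} {κ : F}, κ ≠ 0 → s.1 (e (i + 2)) = κ • e (i + 2) →
        (s * t * s⁻¹).1 (e (i + 2)) = e (i + 2) := fun h1 h2 => fix_of_smul h1 (by
      rw [← h2, isom_mul_apply, isom_mul_apply, isom_inv_apply, t3])
    have b1 := pconj y2 u2
    have b2 := h1 _ _ ((hO.mem_last (by omega) H _).2 ⟨L.mem b1, k m1 m2⟩) b1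
    have b3 := pmul (pinv (pconj y3 (h1 _ _ t1 u2))) b2
    rw [inv_mul_cancel] at b3
    have b4 := congrArg (fun s : D.isom => s.1 (e i)) (inv_mul_eq_one.1 (L'.inj hO H b3 (k := 2)
      (by omega) (by rw [isom_mul_apply, isom_inv_apply_eq, k a3 a2]; exact (k m1 m2).symm)))
    simp only [isom_mul_apply, isom_inv_apply_eq.2 ((hO.mem_first (by omega) H _).1 s.2).2,
      isom_inv_apply_eq.2 ((hO.mem_first (by omega) H _).1 (α s).2).2, t2] at b4
    exact Subtype.ext (inv_mul_eq_one.1 (hO.one hD (i := i + 2) H ((hO.mem_first (by omega) H _).2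
      ⟨mul_mem (inv_mem (α s).2) s.2, by rw [isom_mul_apply, isom_inv_apply_eq, b4]⟩)))
  exact ⟨r, r1, r2, fun y s s1 s2 => r3 ⟨s, s1⟩ ▸ ((hα y ⟨s, s1⟩).1 ⟨s2, s1⟩).1⟩

theorem Loc.uniq3 (H : i + 3 ≤ N) (L : Loc Γ e i U U' W) (L' : Loc Γ' e i U U' W)
    (h1 : ∀ y s, s ∈ SUb D (sp F e i (i + 2)) → (y, s) ∈ Γ → (y, s) ∈ Γ')
    (h2 : ∀ y s, s ∈ SUb D (sp F e (i + 1) (i + 3)) → (y, s) ∈ Γ → (y, s) ∈ Γ') : Γ ≤ Γ' := by
  have k1 : ∀ y s, s ∈ SUb D (sp F e i (i + 2)) ⊔ SUb D (sp F e (i + 1) (i + 3)) → (y, s) ∈ Γ →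
      (y, s) ∈ Γ' := fun y s s1 s2 => by
    obtain ⟨⟨y', _⟩, y1, rfl⟩ := (sup_le (fun s hs => by
      obtain ⟨y, -, hy⟩ := L.exL hO hD H hs
      exact ⟨_, ⟨hy, h1 y s hs hy⟩, rfl⟩) (fun s hs => by
      obtain ⟨y, -, hy⟩ := L.exR hO hD H hs
      exact ⟨_, ⟨hy, h2 y s hs hy⟩, rfl⟩) : _ ≤ (Γ ⊓ Γ').map (MonoidHom.snd _ _)) s1
    exact L.eq y1.1 s2 ▸ y1.2
  by_cases hq : 3 ≤ q
  · exact fun x hx => k1 _ _ (hO.gen3 hD hq H (L.gr.mem x hx)) hx
  have hq : q = 2 := by have := h.two_le; omega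
  have := h.finite
  obtain ⟨p, k, hp, hc, hk, e2⟩ := exists_prime_pow_of_card_eq_sq h.card
  obtain rfl : p = 2 := (Nat.prime_dvd_prime_iff_eq hp Nat.prime_two).1
    (hq ▸ e2 ▸ dvd_pow_self p (by omega))
  refine L.gr.ind (hO.gen_p hD 2 (by omega) H) fun ⟨y, s⟩ hx ⟨n, hn⟩ => ?_
  obtain ⟨y', y1⟩ := L'.ex (L.mem hx)
  simp only [MonoidHom.coe_snd] at hn
  obtain ⟨r, r1⟩ := (L.fst (y⁻¹ * y')).1 (mul_mem (inv_mem ((L.fst y).2 ⟨_, hx⟩))
    ((L'.fst y').2 ⟨_, y1⟩))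
  have c1 : ∀ {j k}, j + 2 ≤ N → k < 3 → SUb D (sp F e j (j + 2)) ≤ SUb D (sp F e i (i + 3)) →
      (∀ t ∈ SUb D (sp F e j (j + 2)), t.1 (e (i + k)) = e (i + k)) →
      ∀ t ∈ SUb D (sp F e j (j + 2)), r * t = t * r := fun {j k} a1 a2 a3 a4 t ht =>
    (Subgroup.mem_centralizer_singleton_iff.1 (hO.gen_p2 hD 2 a1 (Subgroup.centralizer {r})
      (fun t t1 t2 => Subgroup.mem_centralizer_singleton_iff.2 (by
        obtain ⟨u, u1⟩ := L.ex (a3 t1)
        have u2 := k1 _ _ (hO.invol_mem hD hq H (a3 t1) (by rwa [← sq])) u1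
        have b1 := pconj hx u1
        have b2 := L'.eq (k1 _ _ (hO.invol_mem hD hq H (L.mem b1) (by
          rw [← sq, conj_pow, t2]; simp)) b1) (pconj y1 u2)
        have b3 := pmul (pconj r1 u1) (pinv u1)
        rw [show y⁻¹ * y' * u * (y⁻¹ * y')⁻¹ * u⁻¹ = 1 by
          calc _ = y⁻¹ * (y' * u * y'⁻¹) * y * u⁻¹ := by group
            _ = 1 := by rw [← b2]; group] at b3
        obtain ⟨z, hz⟩ := L.ker _ b3
        have b4 := hz k a2
        rw [isom_mul_apply, isom_inv_apply_eq.2 (a4 t t1)] at b4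
        have b5 := L.inj hO H b3 a2 (by
          rw [isom_mul_apply, isom_inv_apply_eq.2 (a4 t t1)]
          exact (Unip.conj (p := 2) ⟨1, by rwa [pow_one]⟩ r).apply_eq ⟨z, b4⟩)
        rw [mul_inv_eq_one, mul_inv_eq_iff_eq_mul] at b5
        exact b5.symm)) ht)).symm
  have c2 := c1 (j := i) (k := 2) (by omega) (by omega) (SUb_mono (sp_mono e le_rfl (by omega)))
    fun t ht => ((hO.mem_last (by omega) H t).1 ht).2
  have c3 := c1 (j := i + 1) (k := 0) (by omega) (by omega) (SUb_mono (sp_mono e (by omega) le_rfl))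
    fun t ht => ((hO.mem_first (by omega) H t).1 ht).2
  have r2 := L.mem r1
  obtain ⟨d1, d2⟩ := hO.perp_of_fix (i := i + 1) H (v := r.1 (e i)) fun t ht => by
    rw [← isom_mul_apply, ← c3 t ht, isom_mul_apply, ((hO.mem_first (by omega) H t).1 ht).2]
  have d3 := hO.eq_smul H (k := i) le_rfl (by omega) (SUb_maps hD r2
    (mem_sp e (k := i) le_rfl (by omega))) fun m _ _ _ => by
      obtain rfl | rfl : m = i + 1 ∨ m = i + 2 := by omega
      exacts [d1, d2]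
  generalize D.B (e i) (r.1 (e i)) = z at d3
  obtain ⟨t, t1, t2⟩ := hO.swap hD (i := i) (j := i + 2) (k := i) (l := i + 1) (by omega) le_rfl
    le_rfl (by omega) (by omega) (by omega)
  have d4 : r.1 (e (i + 1)) = z • e (i + 1) := by
    rw [← t2, ← isom_mul_apply, c2 t t1, isom_mul_apply, d3, map_smul]
  obtain ⟨t', t1', t2'⟩ := hO.swap hD (i := i + 1) (j := i + 3) (k := i + 1) (l := i + 2) H le_rfl
    le_rfl (by omega) (by omega) (by omega)
  have d5 : r.1 (e (i + 2)) = z • e (i + 2) := by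
    rw [← t2', ← isom_mul_apply, c3 t' t1', isom_mul_apply, d4, map_smul]
  have d6 : ∀ v ∈ sp F e i (i + 3), r.1 v = z • v := fun v hv => by
    obtain ⟨a, b, c, rfl⟩ := Submodule.mem_span_triple.1 ((sp_three e i).ge hv)
    simp only [map_add, map_smul, d3, d4, d5]; module
  have d7 : r * s = s * r := (hD.isOrthCompl (hO.nd H)).isom_ext (fun w hw => by
    rw [isom_mul_apply, isom_mul_apply, d6 w hw, d6 _ (SUb_maps hD (L.mem hx) hw), map_smul])
    fun w hw => by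
      have : s.1 w = w := (L.mem hx).2 w hw
      rw [isom_mul_apply, isom_mul_apply, this, r2.2 w hw, this]
  have d8 : (y⁻¹ * y') ^ 3 = 1 := L.pow r1 (hO.eq_one H (pow_mem r2 3) fun m m1 m2 => by
    have := Q_isom r (e i)
    rw [d3, D.Q_smul, hO.unit _ (by omega), mul_one, h.norm_eq, hq] at this
    rw [pow_apply_of_smul (d6 _ (mem_sp e m1 m2)), this, one_smul])
  have d9 : Commute y (y⁻¹ * y') := L.eq (pmul hx r1) (by
    rw [← d7]; exact pmul r1 hx)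
  have d10 := d9.mul_pow (2 ^ n)
  rw [mul_inv_cancel_left, L'.pow y1 hn, L.pow hx hn, one_mul] at d10
  have := (pow_gcd_eq_one.2 ⟨d8, d10.symm⟩)
  rw [Nat.Coprime.gcd_eq_one (Nat.Coprime.pow_right n (by norm_num)), pow_one,
    inv_mul_eq_one] at this
  exact this ▸ y1

end Cfsg.Lib.Phan
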