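import Cfsg.Agent.Lib.Phan.Emb

/-!
Uniqueness of Phan amalgams: aligning the rank two pieces.
-/

namespace Cfsg.Lib.Phan

open Module Cfsg.Lib.Forms Cfsg.Lib.Forms.Form Matrix CAut

universe u
variable {F : Type*} [Field F] {σ : F →+* F} {q : ℕ} {h : IsConj σ q}
  {V : Type u} [AddCommGroup V] [Module F V] {D : Form h.kind V} {e : ℕ → V} {N : ℕ}

theorem sp_eq_range (e : ℕ → V) (i m : ℕ) :
    Submodule.span F (Set.range fun k : Fin m => e (i + k)) = sp F e i (i + m) := by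
  rw [sp]; congr 1; ext x
  exact ⟨fun ⟨k, hk⟩ => ⟨i + k, ⟨by omega, by omega⟩, hk⟩, fun ⟨k, hk, e⟩ =>
    ⟨⟨k - i, by have := hk.1; have := hk.2; omega⟩, by
      rw [← e]; exact congrArg _ (Nat.add_sub_cancel' hk.1)⟩⟩

theorem exists_diag {a b : V} (ua : D.Q a = 1) (ub : D.Q b = 1) (o : D.B a b = 0) {l : F}
    (hl : l * σ l = 1) [FiniteDimensional F V] :
    ∃ s ∈ SUb D (Submodule.span F {a, b}), s.1 a = l • a ∧ s.1 b = σ l • b := by
  have h1 : D.IsRk1 a (l - 1) := (Herm.isRk1_iff_of_Q_eq_one ua).2 (by simpa using hl)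
  have h2 : D.IsRk1 b (σ l - 1) := (Herm.isRk1_iff_of_Q_eq_one ub).2 (by
    simpa [h.σσ, mul_comm] using hl)
  refine ⟨D.rk1 a _ h1 * D.rk1 b _ h2, ⟨Units.ext ?_, fun x hx => ?_⟩, ?_, ?_⟩
  · simp [det_rk1, B_self, ua, ub, hl]
  · obtain ⟨a1, a2⟩ := D.mem_perp_span_pair.1 hx
    simp [isom_mul_apply, rk1_apply, a1, a2]
  · simp [isom_mul_apply, rk1_apply, B_self, ua, D.eq_zero_symm o, sub_smul]
  · simp [isom_mul_apply, rk1_apply, B_self, ub, o, sub_smul]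

variable (hO : OnS D e N)
include hO

theorem OnS.onFin {i m : ℕ} (H : i + m ≤ N) : On D fun k : Fin m => e (i + k) :=
  ⟨fun k => hO.unit _ (by omega), fun k l H' => hO.orth _ (by omega) _ (by omega)
    fun e => H' (Fin.ext (by omega))⟩

theorem OnS.mem_first {i j : ℕ} (h1 : i < j) (H : j ≤ N) (s : D.isom) :
    s ∈ SUb D (sp F e (i + 1) j) ↔ s ∈ SUb D (sp F e i j) ∧ s.1 (e i) = e i := by
  rw [hO.mem_iff (Nat.le_succ i) le_rfl H]
  exact and_congr_right fun _ => ⟨fun H => H i le_rfl h1 (by omega), fun H m m1 m2 m3 => by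
    rwa [show m = i by omega]⟩

theorem OnS.exp2 {i : ℕ} (H : i + 2 ≤ N) {x : V} (hx : x ∈ sp F e i (i + 2)) :
    x = D.B (e i) x • e i + D.B (e (i + 1)) x • e (i + 1) := by
  rw [← sp_two, Submodule.mem_span_pair] at hx
  obtain ⟨a, b, rfl⟩ := hx
  simp [D.B_lin, B_self, hO.unit i (by omega), hO.unit (i + 1) (by omega),
    hO.orth i (by omega) (i + 1) (by omega), hO.orth (i + 1) (by omega) i (by omega)]

theorem OnS.eq_one {i j : ℕ} (H : j ≤ N) {s : D.isom} (hs : s ∈ SUb D (sp F e i j))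
    (h1 : ∀ m, i ≤ m → m < j → s.1 (e m) = e m) : s = 1 := by
  have := (hO.mem_iff (k := j) (l := j) (i := min i j) (by omega) le_rfl H).2
    ⟨SUb_mono (sp_mono e (by omega) le_rfl) hs, fun m m1 m2 _ => h1 m (by omega) m2⟩
  exact isom_ext fun x => this.2 x (mem_perp_sp.2 fun _ _ _ => by omega)

variable [FiniteDimensional F V] (hD : D.Nondeg)
include hD

theorem OnS.one {i : ℕ} (H : i + 1 ≤ N) {s : D.isom} (hs : s ∈ SUb D (sp F e i (i + 1))) :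
    s = 1 := by
  have ua := hO.unit i H
  have h1 := SUb_maps hD hs (mem_sp e (k := i) le_rfl (by omega))
  rw [sp, show Set.Ico i (i + 1) = {i} by ext; simp; omega, Set.image_singleton,
    Submodule.mem_span_singleton] at h1
  obtain ⟨z, hz⟩ := h1
  have h2 : D.IsRk1 (e i) (z - 1) := (Herm.isRk1_iff_of_Q_eq_one ua).2 (by
    have := Q_isom s (e i)
    rw [← hz, D.Q_smul, ua] at this; simpa using this)
  have h3 : s = D.rk1 _ _ h2 := (isOrthCompl_span_singleton (D := D) (a := e i)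
    (by rw [B_self, ua]; exact one_ne_zero)).isom_ext (fun w hw => by
      obtain ⟨c, rfl⟩ := Submodule.mem_span_singleton.1 hw
      simp [← hz, rk1_apply, B_self, ua, sub_smul]) fun w hw => by
        have := D.mem_perp_span_singleton.1 hw
        rw [D.rk1_apply_of_perp _ _ this]
        exact hs.2 w (mem_perp_sp.2 fun k _ _ => by rwa [show k = i by omega])
  have h4 := congrArg Units.val hs.1
  rw [h3, det_rk1, B_self, ua] at h4
  refine hO.eq_one H hs fun m _ _ => ?_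
  rw [show m = i by omega, ← hz, show z = 1 by simpa using h4, one_smul]

theorem OnS.diag {i : ℕ} (H : i + 2 ≤ N) {s : D.isom} (hs : s ∈ SUb D (sp F e i (i + 2)))
    (h1 : D.B (e (i + 1)) (s.1 (e i)) = 0) :
    ∃ μ κ : F, μ ≠ 0 ∧ κ ≠ 0 ∧ s.1 (e i) = μ • e i ∧ s.1 (e (i + 1)) = κ • e (i + 1) := by
  have a1 := hO.exp2 H (SUb_maps hD hs (mem_sp e (k := i) le_rfl (by omega)))
  have a2 := hO.exp2 H (SUb_maps hD hs (mem_sp e (k := i + 1) (by omega) (by omega)))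
  rw [h1, zero_smul, add_zero] at a1
  have n : ∀ {k μ}, k < N → s.1 (e k) = μ • e k → μ ≠ (0 : F) := fun {k μ} hk e' e'' => by
    have := Q_isom s (e k)
    rw [e', e'', hO.unit k hk] at this; simp at this
  have a3 := B_isom s (e i) (e (i + 1))
  rw [hO.orth i (by omega) _ (by omega) (by omega), a1, D.B_smul_left] at a3
  rw [(mul_eq_zero.1 a3).resolve_left ((map_ne_zero σ).2 (n (by omega) a1)), zero_smul,
    zero_add] at a2
  exact ⟨_, _, n (by omega) a1, n (by omega) a2, a1, a2⟩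

theorem OnS.exists_equiv {i m : ℕ} (H : i + m ≤ N) : ∃ j : SU m F q ≃* SUb D (sp F e i (i + m)),
    ∀ x (k : Fin m), (j x).1.1 (e (i + k)) = ∑ l : Fin m, x.1 l k • e (i + l) := by
  rw [← sp_eq_range]; exact Phan.exists_equiv hD (hO.onFin H)

omit hO hD [FiniteDimensional F V] in
variable (e N) in
/-- diagonal semisimilarities -/
def Dg (t : Gam D) : Prop := ∀ k < N, ∃ ν : F, ν ≠ 0 ∧ t.1.g (e k) = ν • e k

omit hO hD [FiniteDimensional F V] in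
theorem Dg.inv {t : Gam D} (H : Dg e N t) : Dg e N t⁻¹ := fun k hk => by
  obtain ⟨ν, h1, h2⟩ := H k hk
  refine ⟨(t.1⁻¹).s ν⁻¹, by simpa, ?_⟩
  change (t.1⁻¹).g _ = _
  conv_lhs => rw [← inv_smul_smul₀ h1 (e k), Sem.smul, ← h2, Sem.inv_g_g]

omit hO hD [FiniteDimensional F V] in
theorem Dg.smul {t : Gam D} (H : Dg e N t) {k : ℕ} (hk : k < N) {s : D.isom} {z : F}
    (hs : s.1 (e k) = z • e k) : (cjI t s).1 (e k) = t.1.s z • e k := by
  obtain ⟨ν, h1, h2⟩ := H k hk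
  have := cjI_apply_g t s (e k)
  rw [hs, Sem.smul, h2, map_smul, smul_comm] at this
  exact smul_right_injective _ h1 this

omit hO hD [FiniteDimensional F V] in
theorem Dg.fix {t : Gam D} (H : Dg e N t) {k : ℕ} (hk : k < N) {s : D.isom} :
    (cjI t s).1 (e k) = e k ↔ s.1 (e k) = e k := by
  have k : ∀ {t : Gam D} {s : D.isom}, Dg e N t → s.1 (e k) = e k → (cjI t s).1 (e k) = e k :=
    fun H hs => by simpa using H.smul hk (z := 1) (by simpa using hs)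
  exact ⟨fun H' => by simpa using k H.inv H', k H⟩

omit hO in
theorem Dg.mem (h3 : 3 ≤ finrank F V) {t : Gam D} (H : Dg e N t) {i j : ℕ} (hj : j ≤ N)
    {s : D.isom} : cjI t s ∈ SUb D (sp F e i j) ↔ s ∈ SUb D (sp F e i j) := by
  have k : ∀ {t : Gam D} {s : D.isom}, Dg e N t → s ∈ SUb D (sp F e i j) →
      cjI t s ∈ SUb D (sp F e i j) := fun {t s} H hs => by
    refine ⟨?_, fun x hx => ?_⟩
    · rw [← Herm.E_eq hD h3]
      exact cjI_mem_E (knat_herm h) hD t (by rw [Herm.E_eq hD h3]; exact hs.1)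
    · obtain ⟨y, rfl⟩ := t.1.g.surjective x
      rw [cjI_apply_g, hs.2 y (mem_perp_sp.2 fun k k1 k2 => ?_)]
      obtain ⟨ν, h1, h2⟩ := H k (by omega)
      obtain ⟨κ, hκ⟩ := t.2
      rw [← hκ.B_eq_zero, h2, D.B_smul_left, mem_perp_sp.1 hx k k1 k2, mul_zero]
  exact ⟨fun H' => by simpa using k H.inv H', k H⟩

omit hO hD [FiniteDimensional F V] in
variable (D e N) in
/-- field automorphisms are realized -/
def Fld : Prop := ∀ τ : F ≃+* F, ∃ t : Gam D, t.1.s = τ ∧ ∀ k < N, t.1.g (e k) = e k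

theorem aut_diag (hF : Fld D e N) (h3 : 3 ≤ finrank F V) {i : ℕ} (H : i + 2 ≤ N)
    (α : SUb D (sp F e i (i + 2)) ≃* SUb D (sp F e i (i + 2)))
    (hα : ∀ s, D.B (e (i + 1)) (s.1.1 (e i)) = 0 → D.B (e (i + 1)) ((α s).1.1 (e i)) = 0) :
    ∃ t : Gam D, Dg e N t ∧ ∀ s, (α s).1 = cjI t s.1 := by
  obtain ⟨j, hj⟩ := hO.exists_equiv hD H
  have e1 : ∀ x, (j x).1.1 (e i) = x.1 0 0 • e i + x.1 1 0 • e (i + 1) := fun x => by
    simpa [Fin.sum_univ_two] using hj x 0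
  have u0 := hO.unit i (by omega)
  have u1 := hO.unit (i + 1) (by omega)
  have o := hO.orth (i + 1) (by omega) i (by omega) (by omega)
  have e2 : ∀ x, D.B (e (i + 1)) ((j x).1.1 (e i)) = x.1 1 0 := fun x => by
    simp [e1, D.B_lin, B_self, u1, o]
  obtain ⟨τ, ν, h1, h2⟩ := aut_su2_diag h (j.trans (α.trans j.symm)) fun x hx => by
    rw [← e2] at hx ⊢; simpa using hα _ hx
  obtain ⟨t, t1, t2⟩ := hF τ
  have r1 : D.IsRk1 (e (i + 1)) (ν - 1) := (Herm.isRk1_iff_of_Q_eq_one u1).2 (by simpa using h1)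
  have t3 : ∀ k < N, (glin D (D.rk1 _ _ r1) * t).1.g (e k) = (if k = i + 1 then ν else 1) • e k :=
    fun k hk => by
      change (D.rk1 _ _ r1).1 (t.1.g _) = _
      rw [t2 k hk]
      split_ifs with c
      · simp [c, rk1_apply, B_self, u1, sub_smul]
      · simp [rk1_apply, hO.orth (i + 1) (by omega) k hk (Ne.symm c)]
  have dg : Dg e N (glin D (D.rk1 _ _ r1) * t) := fun k hk => ⟨_, by
    split_ifs; exacts [left_ne_zero_of_mul_eq_one h1, one_ne_zero], t3 k hk⟩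
  refine ⟨_, dg, fun s => ?_⟩
  obtain ⟨x, rfl⟩ := j.surjective s
  have a1 := cjI_apply_g (glin D (D.rk1 _ _ r1) * t) (j x).1 (e i)
  have ts : ∀ c, (glin D (D.rk1 _ _ r1) * t).1.s c = τ c := fun c => by rw [← t1]; rfl
  rw [e1, map_add, Sem.smul, Sem.smul, t3 i (by omega), t3 (i + 1) (by omega), ts, ts] at a1
  have a2 := e1 (j.symm (α (j x)))
  obtain ⟨b1, b2⟩ := h2 x
  simp only [MulEquiv.trans_apply] at b1 b2
  rw [b1, b2, MulEquiv.apply_symm_apply] at a2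
  refine (inv_mul_eq_one.1 (hO.one hD (i := i + 1) H ((hO.mem_first (by omega) H _).2
    ⟨mul_mem (inv_mem (α _).2) ((dg.mem hD h3 H).2 (j x).2), ?_⟩)))
  rw [isom_mul_apply, isom_inv_apply_eq, a2]
  simpa [smul_smul, mul_comm] using a1.symm

omit hO hD [FiniteDimensional F V]
variable {G : Type*} [Group G]

/-- the local data of a standard pair -/
structure Loc (Γ : Subgroup (G × D.isom)) (e : ℕ → V) (i : ℕ) (U U' W : Subgroup G) : Prop where
  gr : Gr (MonoidHom.snd _ _) Γ (SUb D (sp F e i (i + 3)))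
  ker : ∀ s, (1, s) ∈ Γ → ∃ z : F, ∀ k < 3, s.1 (e (i + k)) = z • e (i + k)
  fst : ∀ g, g ∈ W ↔ ∃ s, (g, s) ∈ Γ
  left : ∀ g, g ∈ U ↔ ∃ s, (g, s) ∈ Γ ∧ s.1 (e (i + 2)) = e (i + 2)
  right : ∀ g, g ∈ U' ↔ ∃ s, (g, s) ∈ Γ ∧ s.1 (e i) = e i

theorem mem_suBlock (h : IsConj σ q) {m : ℕ} {S : Set (Fin m)} {k : Fin m}
    (hk : ∀ l, l ∉ S ↔ l = k) (x : SU m F q) :
    x ∈ suBlock m F q S ↔ x.1.1 *ᵥ Pi.single k 1 = Pi.single k 1 := by
  let K : Subgroup (SU m F q) :=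
    { carrier := {x | x.1.1 *ᵥ Pi.single k 1 = Pi.single k 1}
      one_mem' := one_mulVec _
      mul_mem' := fun {a b} ha hb => by
        change (a.1.1 * b.1.1) *ᵥ _ = _
        rw [← mulVec_mulVec, hb, ha]
      inv_mem' := fun {a} ha => by
        change (a⁻¹).1.1 *ᵥ _ = _
        conv_lhs => rw [← ha, mulVec_mulVec]
        change (a⁻¹ * a).1.1 *ᵥ _ = _
        rw [inv_mul_cancel]; exact one_mulVec _ }
  suffices suBlock m F q S = K by rw [this]; rfl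
  rw [suBlock, ← K.closure_eq]
  congr 1; ext x
  refine ⟨fun H => funext fun l => ?_, fun H l hl => ?_⟩
  · obtain ⟨a1, a2⟩ := H k ((hk k).2 rfl)
    by_cases c : l = k
    · simpa [c] using a1
    · simpa [c] using (a2 l c).2
  · rw [(hk l).1 hl]
    have a1 : ∀ l, x.1.1 l k = (Pi.single k (1 : F) : Fin m → F) l := fun l => by
      simpa using congrFun H l
    refine ⟨by simpa using a1 k, fun l c => ⟨?_, by simpa [c] using a1 l⟩⟩
    have := congrFun (congrFun ((mem_SU_iff h).1 x.2) k) l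
    simpa [Matrix.mul_apply, a1, Pi.single_apply, apply_ite σ, one_apply_ne c.symm] using this

theorem scalar_of_center (h : IsConj σ q) {m : ℕ} (hm : 2 ≤ m) {x : SU m F q}
    (hx : x ∈ Subgroup.center _) : ∃ z : F, ∀ v, x.1.1 *ᵥ v = z • v := by
  obtain ⟨e, f, hef⟩ := Herm.exists_isHyp (stdHerm_nondeg h (Fin m)) (by simpa)
  refine (hef.mem_center_iff (stdHerm_nondeg h _) (Herm.rich _ 3) (G := (stdHerm h _).det.ker)
    (fun _ _ _ h => det_eich _ _ _ h) (suEquiv h m x)).1 (Subgroup.mem_center_iff.2 fun y => ?_)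
  obtain ⟨y, rfl⟩ := (suEquiv h m).surjective y
  rw [← map_mul, ← map_mul, Subgroup.mem_center_iff.1 hx]

theorem exists_hom_of_std {W A B : Subgroup G} (H : IsStandardUnitaryPair W A B F q) :
    ∃ ψ : SU 3 F q →* G, ψ.range = W ∧ ψ.ker ≤ Subgroup.center _ ∧
      (suBlock 3 F q {0, 1}).map ψ = A ∧ (suBlock 3 F q {1, 2}).map ψ = B := by
  rcases H with ⟨ψ, h1, h2⟩ | ⟨ψ, h1, h2⟩
  · refine ⟨_, ?_, fun x hx => ?_, h1, h2⟩
    · rw [MonoidHom.range_comp, MonoidHom.range_eq_top.2 ψ.surjective, ← MonoidHom.range_eq_map,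
        Subgroup.range_subtype]
    · rw [show x = 1 from ψ.injective (Subtype.ext (by simpa using hx))]; exact one_mem _
  · refine ⟨_, ?_, fun x hx => ?_, h1, h2⟩
    · rw [MonoidHom.range_comp, MonoidHom.range_eq_top.2
        (ψ.surjective.comp (QuotientGroup.mk'_surjective _)), ← MonoidHom.range_eq_map,
        Subgroup.range_subtype]
    · exact (QuotientGroup.eq_one_iff x).1 (ψ.injective (Subtype.ext (by simpa using hx)))

variable [FiniteDimensional F V] {i : ℕ} {Γ Γ' : Subgroup (G × D.isom)} {U U' U'' W W' : Subgroup G}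
include hO hD

theorem loc_of_hom (H : i + 3 ≤ N) (ψ : SU 3 F q →* G) (hψ : ψ.ker ≤ Subgroup.center _) :
    ∃ Γ : Subgroup (G × D.isom), Loc Γ e i ((suBlock 3 F q {0, 1}).map ψ)
      ((suBlock 3 F q {1, 2}).map ψ) ψ.range := by
  obtain ⟨j, hj⟩ := hO.exists_equiv hD H
  have hm : ∀ g s, (g, s) ∈ (ψ.prod ((Subgroup.subtype _).comp j.toMonoidHom)).range ↔
      ∃ x, ψ x = g ∧ (j x).1 = s := fun g s => by simp [Prod.ext_iff]
  have hf : ∀ x (k : Fin 3), (j x).1.1 (e (i + k)) = e (i + k) ↔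
      x.1.1 *ᵥ Pi.single k 1 = Pi.single k 1 := fun x k => by
    rw [hj]
    refine ⟨fun H' => funext fun l => ?_, fun H' => ?_⟩
    · have := (hO.onFin H).B_sum (fun l => x.1 l k) l
      rw [H', (hO.onFin H).B_eq] at this
      simpa [Pi.single_apply] using this.symm
    · have a1 : ∀ l, x.1 l k = (Pi.single k (1 : F) : Fin 3 → F) l := fun l => by
        simpa using congrFun H' l
      simp [a1, Pi.single_apply]
  refine ⟨(ψ.prod ((Subgroup.subtype _).comp j.toMonoidHom)).range, ⟨?_, fun s hs => ?_, ?_⟩,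
    fun s hs => ?_, fun g => ?_, fun g => ?_, fun g => ?_⟩
  · rintro _ ⟨x, rfl⟩; exact (j x).2
  · exact ⟨_, ⟨j.symm ⟨s, hs⟩, rfl⟩, by simp⟩
  · rintro _ ⟨x, rfl⟩ e
    rw [show x = 1 from j.injective (Subtype.ext (by simpa using e)), map_one]
  · obtain ⟨x, x1, rfl⟩ := (hm _ _).1 hs
    obtain ⟨z, hz⟩ := scalar_of_center h (by omega) (hψ x1)
    refine ⟨z, fun k hk => (hj x ⟨k, hk⟩).trans ?_⟩
    have a1 : ∀ l, x.1 l ⟨k, hk⟩ = (z • Pi.single ⟨k, hk⟩ (1 : F) : Fin 3 → F) l := fun l => by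
      simpa using congrFun (hz (Pi.single ⟨k, hk⟩ 1)) l
    simp [a1, Pi.single_apply]
  · simp only [hm]
    exact ⟨fun ⟨x, hx⟩ => ⟨_, x, hx, rfl⟩, fun ⟨_, x, hx, _⟩ => ⟨x, hx⟩⟩
  · simp only [hm, Subgroup.mem_map, mem_suBlock h (m := 3) (S := {0, 1}) (k := 2) (by decide), ← hf]
    exact ⟨fun ⟨x, x1, x2⟩ => ⟨_, ⟨x, x2, rfl⟩, x1⟩, fun ⟨_, ⟨x, x2, e⟩, x1⟩ => ⟨x, e ▸ x1, x2⟩⟩
  · simp only [hm, Subgroup.mem_map, mem_suBlock h (m := 3) (S := {1, 2}) (k := 0) (by decide), ← hf]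
    exact ⟨fun ⟨x, x1, x2⟩ => ⟨_, ⟨x, x2, rfl⟩, x1⟩, fun ⟨_, ⟨x, x2, e⟩, x1⟩ => ⟨x, e ▸ x1, x2⟩⟩

theorem loc_of_std (H : i + 3 ≤ N) (hS : IsStandardUnitaryPair W U U' F q) :
    ∃ Γ : Subgroup (G × D.isom), Loc Γ e i U U' W := by
  obtain ⟨ψ, rfl, h1, rfl, rfl⟩ := exists_hom_of_std hS
  exact loc_of_hom hO hD H ψ h1

omit hO in
theorem Loc.twist (h3 : 3 ≤ finrank F V) (H : i + 3 ≤ N) (L : Loc Γ e i U U' W) {t : Gam D}
    (ht : Dg e N t) :
    Loc (Γ.comap ((MonoidHom.id G).prodMap (cjI t).toMonoidHom)) e i U U' W := by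
  have hm : ∀ g s, (g, s) ∈ Γ.comap ((MonoidHom.id G).prodMap (cjI t).toMonoidHom) ↔
      (g, cjI t s) ∈ Γ := fun _ _ => Iff.rfl
  refine ⟨⟨fun x hx => (ht.mem hD h3 H).1 (L.gr.mem _ hx), fun s hs => ?_, fun x hx e => ?_⟩,
    fun s hs => ?_, fun g => ?_, fun g => ?_, fun g => ?_⟩
  · obtain ⟨x, x1, x2⟩ := L.gr.ex _ ((ht.mem hD h3 H).2 hs)
    exact ⟨(x.1, s), (hm _ _).2 (by rw [← x2]; exact x1), rfl⟩
  · have e' : x.2 = 1 := e
    exact Prod.ext (Prod.ext_iff.1 (L.gr.inj (x.1, cjI t x.2) hx (by simp [e']))).1 e'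
  · obtain ⟨z, hz⟩ := L.ker _ hs
    exact ⟨_, fun k hk => by simpa using ht.inv.smul (by omega) (hz k hk)⟩
  · rw [L.fst, (cjI t).surjective.exists]; rfl
  · rw [L.left, (cjI t).surjective.exists]
    exact exists_congr fun s => and_congr_right fun _ => ht.fix (by omega)
  · rw [L.right, (cjI t).surjective.exists]
    exact exists_congr fun s => and_congr_right fun _ => ht.fix (by omega)

omit hD [FiniteDimensional F V] in
theorem Loc.inj (H : i + 3 ≤ N) (L : Loc Γ e i U U' W) {s : D.isom} (hs : (1, s) ∈ Γ) {k : ℕ}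
    (hk : k < 3) (e' : s.1 (e (i + k)) = e (i + k)) : s = 1 := by
  obtain ⟨z, hz⟩ := L.ker s hs
  have a1 := congrArg D.Q (show (z - 1) • e (i + k) = 0 by rw [sub_smul, ← hz k hk, e']; simp)
  rw [D.Q_smul, hO.unit _ (by omega), mul_one, D.Q_zero, mul_eq_zero, map_eq_zero, or_self,
    sub_eq_zero] at a1
  refine hO.eq_one H (L.gr.mem _ hs) fun m m1 m2 => ?_
  have := hz (m - i) (by omega)
  rwa [a1, one_smul, show i + (m - i) = m by omega] at this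

theorem Loc.cent (H : i + 3 ≤ N) (L : Loc Γ e i U U' W) {x : G} (hx : x ∈ U')
    (hc : ∀ y ∈ U, x * y = y * x) : x = 1 := by
  obtain ⟨r, r1, r2⟩ := (L.right x).1 hx
  have r3 := (hO.mem_first (by omega) H r).2 ⟨L.gr.mem _ r1, r2⟩
  obtain ⟨t, t1, t2⟩ := trans0 hD (hO.nd (i := i) (j := i + 2) (by omega))
    (by rw [hO.finrank_eq (by omega)]; omega) (mem_sp e (k := i) (by omega) (by omega))
    (mem_sp e (k := i + 1) (by omega) (by omega)) (hO.unit _ (by omega)) (hO.unit _ (by omega))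
  obtain ⟨t3, t4⟩ := (hO.mem_last (by omega) H _).1 t1
  obtain ⟨⟨y, _⟩, y1, rfl⟩ := L.gr.ex t t3
  simp only [MonoidHom.coe_snd] at t1 t2 t3 t4
  have a1 := mul_mem (mul_mem (mul_mem r1 y1) (inv_mem r1)) (inv_mem y1)
  simp only [Prod.mk_mul_mk, Prod.inv_mk, hc y ((L.left y).2 ⟨_, y1, t4⟩), mul_inv_cancel_right,
    mul_inv_cancel] at a1
  obtain ⟨z, hz⟩ := L.ker _ a1
  have a2 := hz 1 (by omega)
  rw [isom_mul_apply, isom_mul_apply, isom_mul_apply, isom_inv_apply_eq.2 t2,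
    isom_inv_apply_eq.2 r2, t2] at a2
  obtain ⟨μ, κ, -, k1, -, k2⟩ := hO.diag hD (i := i + 1) H r3 (by
    rw [a2, D.B_smul_right, hO.orth _ (by omega) _ (by omega) (by omega), mul_zero])
  have k2' : r.1 (e (i + 2)) = κ • e (i + 2) := k2
  have a3 := L.inj hO H a1 (k := 2) (by omega) (by
    rw [isom_mul_apply, isom_mul_apply, isom_mul_apply, isom_inv_apply_eq.2 t4,
      isom_inv_apply_eq.2 (show r.1 (κ⁻¹ • e (i + 2)) = _ by
        rw [map_smul, k2', inv_smul_smul₀ k1]), map_smul, t4, map_smul, k2', inv_smul_smul₀ k1])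
  have a4 := congrArg (fun s : D.isom => s.1 (e (i + 1))) a3
  simp only [isom_mul_apply, isom_inv_apply_eq.2 t2, isom_inv_apply_eq.2 r2, t2,
    isom_one_apply] at a4
  exact congrArg Prod.fst (L.gr.inj _ r1
    (hO.one hD (i := i + 2) H ((hO.mem_first (by omega) H _).2 ⟨r3, a4⟩)))

theorem Loc.tori (H : i + 4 ≤ N) (L : Loc Γ e i U U' W) (L' : Loc Γ' e (i + 1) U' U'' W')
    (hc : Cm U U'') {g : G} {s s' : D.isom} (h1 : (g, s) ∈ Γ) (h2 : s.1 (e i) = e i)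
    (h3 : (g, s') ∈ Γ') (h4 : s'.1 (e (i + 3)) = e (i + 3))
    (h5 : D.B (e (i + 2)) (s.1 (e (i + 1))) = 0) : D.B (e (i + 2)) (s'.1 (e (i + 1))) = 0 := by
  obtain ⟨l, l1, l2⟩ := exists_norm_one h
  have l3 : σ l ≠ 1 := fun e => l2 (by rw [e, mul_one] at l1; rw [l1, map_one])
  obtain ⟨d, d1, d2, d3⟩ := exists_diag (hO.unit (i + 2) (by omega)) (hO.unit (i + 3) (by omega))
    (hO.orth _ (by omega) _ (by omega) (by omega)) l1
  rw [sp_two] at d1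
  obtain ⟨d4, d5⟩ := (hO.mem_first (i := i + 1) (by omega) H _).1 d1
  obtain ⟨⟨k, _⟩, k1, rfl⟩ := L'.gr.ex d d4
  simp only [MonoidHom.coe_snd] at d1 d2 d3 d4 d5
  rename_i d
  have k2 := (L'.right k).2 ⟨_, k1, d5⟩
  have d6 : (d⁻¹).1 (e (i + 3)) = l • e (i + 3) := by
    rw [isom_inv_apply_eq, map_smul, d3, smul_smul, l1, one_smul]
  have d7 : (d⁻¹).1 (e (i + 2)) = σ l • e (i + 2) := by
    rw [isom_inv_apply_eq, map_smul, d2, smul_smul, mul_comm, l1, one_smul]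
  have a1 := mul_mem (mul_mem (mul_mem k1 h3) (inv_mem k1)) (inv_mem h3)
  simp only [Prod.mk_mul_mk, Prod.inv_mk] at a1
  have a2 : (d * s' * d⁻¹ * s'⁻¹).1 (e (i + 3)) = e (i + 3) := by
    rw [isom_mul_apply, isom_mul_apply, isom_mul_apply, isom_inv_apply_eq.2 h4, d6, map_smul, h4,
      map_smul, d3, smul_smul, l1, one_smul]
  obtain ⟨μ, κ, -, m1, -, m2⟩ := hO.diag hD (i := i + 1) (by omega)
    ((hO.mem_first (by omega) (by omega) s).2 ⟨L.gr.mem _ h1, h2⟩) h5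
  replace m2 : s.1 (e (i + 2)) = κ • e (i + 2) := m2
  have a3 := L.cent hO hD (by omega) ((L'.left _).2 ⟨_, a1, a2⟩) fun y hy => by
    obtain ⟨t, t1, t2⟩ := (L.left y).1 hy
    have b1 := hc (g⁻¹ * y * g) ((L.left _).2 ⟨_, mul_mem (mul_mem (inv_mem h1) t1) h1, by
      change (s⁻¹ * t * s).1 _ = _
      rw [isom_mul_apply, isom_mul_apply, isom_inv_apply_eq]
      rw [m2, map_smul, t2]⟩) k k2
    have b2 := hc y hy k k2
    calc k * g * k⁻¹ * g⁻¹ * y = k * g * k⁻¹ * (g⁻¹ * y * g * k) * k⁻¹ * g⁻¹ := by group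
      _ = k * y * g * k⁻¹ * g⁻¹ := by rw [b1]; group
      _ = _ := by rw [← b2]; group
  rw [a3] at a1
  have a4 := congrArg (fun s : D.isom => s.1 (e (i + 2))) (L'.inj hO H a1 (k := 2) (by omega) a2)
  simp only [isom_mul_apply, isom_one_apply] at a4
  rw [← isom_inv_apply_eq, d7, eq_comm, ← isom_inv_apply_eq, map_smul] at a4
  have a5 := congrArg (D.B (e (i + 1))) a4
  rw [← B_isom_left, ← B_isom_left, d5, D.B_smul_right, ← B_isom_left] at a5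
  exact D.eq_zero_symm ((mul_eq_zero.1 (by linear_combination a5)).resolve_left (sub_ne_zero.2 l3))

omit hO hD [FiniteDimensional F V] in
theorem Gr.exists_equiv {Ω S : Type*} [Group Ω] [Group S] {p : Ω →* S} {Γ : Subgroup Ω}
    {A : Subgroup S} (H : Gr p Γ A) : ∃ φ : Γ ≃* A, ∀ x, (φ x : S) = p x := by
  let φ : Γ →* A := (p.comp Γ.subtype).codRestrict A fun x => H.mem x x.2
  exact ⟨MulEquiv.ofBijective φ ⟨(injective_iff_map_eq_one φ).2 fun x e =>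
    Subtype.ext (H.inj x x.2 (congrArg Subtype.val e)), fun s => by
      obtain ⟨x, hx, e⟩ := H.ex s s.2
      exact ⟨⟨x, hx⟩, Subtype.ext e⟩⟩, fun _ => rfl⟩

omit hO hD [FiniteDimensional F V] in
theorem Gr.inf {Ω S : Type*} [Group Ω] [Group S] {p : Ω →* S} {Γ : Subgroup Ω}
    {A A' : Subgroup S} (H : Gr p Γ A) (le : A' ≤ A) : Gr p (Γ ⊓ A'.comap p) A' :=
  ⟨fun _ hx => hx.2, fun s hs => by
    obtain ⟨x, hx, rfl⟩ := H.ex s (le hs)
    exact ⟨x, ⟨hx, hs⟩, rfl⟩, fun x hx => H.inj x hx.1⟩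

omit hO hD [FiniteDimensional F V] in
theorem exists_aut {S : Type*} [Group S] {Λ Λ' : Subgroup (G × S)} {A : Subgroup S}
    {U : Subgroup G} (h1 : Gr (MonoidHom.snd _ _) Λ A) (h2 : Gr (MonoidHom.snd _ _) Λ' A)
    (h3 : Gr (MonoidHom.fst _ _) Λ U) (h4 : Gr (MonoidHom.fst _ _) Λ' U) :
    ∃ α : A ≃* A, ∀ (g : G) (s : A), (g, s.1) ∈ Λ ↔ (g, (α s).1) ∈ Λ' := by
  obtain ⟨φ1, e1⟩ := h1.exists_equiv
  obtain ⟨φ2, e2⟩ := h2.exists_equiv
  obtain ⟨φ3, e3⟩ := h3.exists_equiv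
  obtain ⟨φ4, e4⟩ := h4.exists_equiv
  refine ⟨φ1.symm.trans (φ3.trans (φ4.symm.trans φ2)), fun g s => ?_⟩
  obtain ⟨x, rfl⟩ := φ1.surjective s
  obtain ⟨y, hy⟩ := φ4.surjective (φ3 x)
  have e5 : y.1.1 = x.1.1 := (e4 y).symm.trans ((congrArg Subtype.val hy).trans (e3 x))
  simp only [MulEquiv.trans_apply, MulEquiv.symm_apply_apply, ← hy, e1, e2, MonoidHom.coe_snd]
  refine ⟨fun H => ?_, fun H => ?_⟩
  · rw [show g = y.1.1 from e5 ▸ congrArg Prod.fst (h1.eq H x.2 rfl)]; exact y.2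
  · rw [show g = x.1.1 from e5 ▸ congrArg Prod.fst (h2.eq H y.2 rfl)]; exact x.2

omit hD [FiniteDimensional F V] in
theorem Loc.grL (H : i + 3 ≤ N) (L : Loc Γ e i U U' W) :
    Gr (MonoidHom.fst _ _) (Γ ⊓ (SUb D (sp F e i (i + 2))).comap (MonoidHom.snd _ _)) U :=
  ⟨fun x hx => (L.left _).2 ⟨_, hx.1, ((hO.mem_last (by omega) H _).1 hx.2).2⟩, fun g hg => by
    obtain ⟨s, s1, s2⟩ := (L.left g).1 hg
    exact ⟨_, ⟨s1, (hO.mem_last (by omega) H _).2 ⟨L.gr.mem _ s1, s2⟩⟩, rfl⟩, fun x hx e' =>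
    Prod.ext e' (L.inj hO H (by rw [← e']; exact hx.1) (k := 2) (by omega)
      ((hO.mem_last (by omega) H _).1 hx.2).2)⟩

omit hD [FiniteDimensional F V] in
theorem Loc.grR (H : i + 3 ≤ N) (L : Loc Γ e i U U' W) :
    Gr (MonoidHom.fst _ _) (Γ ⊓ (SUb D (sp F e (i + 1) (i + 3))).comap (MonoidHom.snd _ _)) U' :=
  ⟨fun x hx => (L.right _).2 ⟨_, hx.1, ((hO.mem_first (by omega) H _).1 hx.2).2⟩, fun g hg => by
    obtain ⟨s, s1, s2⟩ := (L.right g).1 hg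
    exact ⟨_, ⟨s1, (hO.mem_first (by omega) H _).2 ⟨L.gr.mem _ s1, s2⟩⟩, rfl⟩, fun x hx e' =>
    Prod.ext e' (L.inj hO H (by rw [← e']; exact hx.1) (k := 0) (by omega)
      ((hO.mem_first (by omega) H _).1 hx.2).2)⟩

theorem Loc.align (hF : Fld D e N) (h3 : 3 ≤ finrank F V) (H : i + 4 ≤ N) (L : Loc Γ e i U U' W)
    (L' : Loc Γ' e (i + 1) U' U'' W') (hc : Cm U U'') : ∃ Γ'', Loc Γ'' e (i + 1) U' U'' W' ∧
      Γ ⊓ (SUb D (sp F e (i + 1) (i + 3))).comap (MonoidHom.snd _ _) ≤ Γ'' := by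
  have g1 := L.gr.inf (SUb_mono (sp_mono e (Nat.le_succ i) le_rfl))
  obtain ⟨α, hα⟩ := exists_aut g1
    (L'.gr.inf (SUb_mono (sp_mono e le_rfl (Nat.le_succ (i + 3))))) (L.grR hO (by omega))
    (L'.grL hO H)
  obtain ⟨t, t1, t2⟩ := aut_diag hO hD hF h3 (i := i + 1) (by omega) α fun s hs => by
    obtain ⟨⟨g, _⟩, x1, rfl : _ = s.1⟩ := g1.ex s s.2
    exact L.tori hO hD H L' hc x1.1 ((hO.mem_first (by omega) (by omega) _).1 s.2).2
      ((hα g s).1 x1).1 ((hO.mem_last (by omega) H _).1 (α s).2).2 hs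
  refine ⟨_, L'.twist hD h3 H t1, fun x hx => ?_⟩
  have := ((hα x.1 ⟨x.2, hx.2⟩).1 hx).1
  rwa [t2] at this

omit hO hD [FiniteDimensional F V] in
theorem exists_seq {α : Type*} {P : ℕ → α → Prop} {R : ℕ → α → α → Prop} (h0 : ∃ x, P 0 x)
    (hs : ∀ i x, P i x → ∃ y, P (i + 1) y ∧ R i x y) :
    ∃ f : ℕ → α, (∀ i, P i (f i)) ∧ ∀ i, R i (f i) (f (i + 1)) := by
  choose! g g1 g2 using hs
  obtain ⟨x, hx⟩ := h0
  have k : ∀ i, P i (Nat.rec x g i) := fun i => by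
    induction i with
    | zero => exact hx
    | succ i ih => exact g1 i _ ih
  exact ⟨fun i => Nat.rec x g i, k, fun i => g2 i _ (k i)⟩

omit hO hD [FiniteDimensional F V] in
variable (e) in
/-- the rank one pieces -/
noncomputable def lam (Γ : ℕ → Subgroup (G × D.isom)) : ℕ → Subgroup (G × D.isom)
  | 0 => Γ 0 ⊓ (SUb D (sp F e 0 2)).comap (MonoidHom.snd _ _)
  | i + 1 => Γ i ⊓ (SUb D (sp F e (i + 1) (i + 3))).comap (MonoidHom.snd _ _)

omit hD [FiniteDimensional F V] in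
theorem lam_fst {U W : ℕ → Subgroup G} {Γ : ℕ → Subgroup (G × D.isom)} (hN : 3 ≤ N)
    (hL : ∀ i, i + 3 ≤ N → Loc (Γ i) e i (U i) (U (i + 1)) (W i)) {i : ℕ} (H : i + 2 ≤ N) {x}
    (hx : x ∈ lam e Γ i) : x.1 ∈ U i := by
  obtain _ | i := i
  · exact ((hL 0 hN).grL hO hN).mem x hx
  · exact ((hL i H).grR hO H).mem x hx

omit hO hD [FiniteDimensional F V] in
theorem cm_of {S : Type*} [Group S] {Λ Λ' : Subgroup (G × S)} {A A' : Subgroup S}
    {U U' : Subgroup G} (h1 : Cm U U') (h2 : Cm A A') (a1 : ∀ x ∈ Λ, x.1 ∈ U)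
    (a2 : ∀ x ∈ Λ', x.1 ∈ U') (a3 : ∀ x ∈ Λ, x.2 ∈ A) (a4 : ∀ x ∈ Λ', x.2 ∈ A') : Cm Λ Λ' :=
  fun x hx y hy => Prod.ext (h1 _ (a1 x hx) _ (a2 y hy)) (h2 _ (a3 x hx) _ (a4 y hy))

theorem sys_of {U W : ℕ → Subgroup G} {Γ : ℕ → Subgroup (G × D.isom)} (hN : 3 ≤ N)
    (hL : ∀ i, i + 3 ≤ N → Loc (Γ i) e i (U i) (U (i + 1)) (W i))
    (hR : ∀ i, i + 4 ≤ N → lam e Γ (i + 1) ≤ Γ (i + 1))
    (hc : ∀ i j, i + 2 ≤ j → j + 2 ≤ N → Cm (U i) (U j)) :
    Sys (MonoidHom.snd _ _) e N (lam e Γ) Γ := by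
  have k : ∀ i, i + 2 ≤ N → Gr (MonoidHom.snd _ _) (lam e Γ i) (SUb D (sp F e i (i + 2))) :=
    fun i H => by
      obtain _ | i := i
      · exact (hL 0 hN).gr.inf (SUb_mono (sp_mono e le_rfl (by omega)))
      · exact (hL i H).gr.inf (SUb_mono (sp_mono e (by omega) le_rfl))
  refine ⟨hO, k, fun i H => (hL i H).gr, fun i H => ?_, fun i _ => inf_le_left,
    fun i j h1 h2 => cm_of (hc i j h1 h2) (hO.cm h1 h2 hD) (fun _ => lam_fst hO hN hL (by omega))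
      (fun _ => lam_fst hO hN hL h2) (k i (by omega)).mem (k j h2).mem⟩
  obtain _ | i := i
  · exact inf_le_left
  · exact hR i H

theorem exists_sys (hF : Fld D e N) (h3 : 3 ≤ finrank F V) {U W : ℕ → Subgroup G} (hN : 3 ≤ N)
    (hL : ∀ i, i + 3 ≤ N → ∃ Γ : Subgroup (G × D.isom), Loc Γ e i (U i) (U (i + 1)) (W i))
    (hc : ∀ i j, i + 2 ≤ j → j + 2 ≤ N → Cm (U i) (U j)) :
    ∃ Γ : ℕ → Subgroup (G × D.isom), Sys (MonoidHom.snd _ _) e N (lam e Γ) Γ ∧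
      ∀ i, i + 3 ≤ N → Loc (Γ i) e i (U i) (U (i + 1)) (W i) := by
  obtain ⟨Γ, h1, h2⟩ := exists_seq (α := Subgroup (G × D.isom))
    (P := fun i Γ => i + 3 ≤ N → Loc Γ e i (U i) (U (i + 1)) (W i))
    (R := fun i Γ Γ' => i + 4 ≤ N →
      Γ ⊓ (SUb D (sp F e (i + 1) (i + 3))).comap (MonoidHom.snd _ _) ≤ Γ')
    ((hL 0 hN).imp fun _ H _ => H) fun i Γ hΓ => by
      by_cases c : i + 4 ≤ N
      · obtain ⟨Γ', L'⟩ := hL (i + 1) c
        obtain ⟨Γ'', a1, a2⟩ := (hΓ (by omega)).align hO hD hF h3 c L' (hc i (i + 2) le_rfl c)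
        exact ⟨Γ'', fun _ => a1, fun _ => a2⟩
      · exact ⟨⊥, fun H => (c H).elim, fun H => (c H).elim⟩
  exact ⟨Γ, sys_of hO hD hN h1 h2 hc, h1⟩

theorem exists_final {U W : ℕ → Subgroup G} {Λ Γ : ℕ → Subgroup (G × D.isom)} {k : ℕ}
    (hk : N = k + 3) (hL : ∀ i, i + 3 ≤ N → Loc (Γ i) e i (U i) (U (i + 1)) (W i))
    (H : Gr (MonoidHom.snd _ _) (pj Λ Γ (k + 1)) (SUb D (sp F e 0 (k + 1 + 2)))) :
    ∃ f : SU N F q →* G, (∀ i, i + 2 ≤ N → U i ≤ f.range) ∧ ∀ i, i + 3 ≤ N → W i ≤ f.range := by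
  subst hk
  obtain ⟨f, hf⟩ := H.exists_hom (MonoidHom.fst _ _)
  obtain ⟨j, -⟩ := hO.exists_equiv hD (i := 0) (m := k + 3) (by omega)
  rw [zero_add] at j
  have e1 : (f.comp j.toMonoidHom).range = f.range := by
    rw [MonoidHom.range_comp, MonoidHom.range_eq_top.2 j.surjective, ← MonoidHom.range_eq_map]
  have k2 : ∀ i, i + 3 ≤ k + 3 → W i ≤ f.range := fun i H g hg => by
    obtain ⟨s, hs⟩ := ((hL i H).fst g).1 hg
    exact hf ▸ ⟨_, le_pj (by omega) hs, rfl⟩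
  refine ⟨f.comp j.toMonoidHom, fun i H g hg => ?_, e1 ▸ k2⟩
  rw [e1]
  obtain _ | i := i
  · obtain ⟨s, hs, -⟩ := ((hL 0 (by omega)).left g).1 hg
    exact k2 0 (by omega) (((hL 0 (by omega)).fst g).2 ⟨s, hs⟩)
  · obtain ⟨s, hs, -⟩ := ((hL i H).right g).1 hg
    exact k2 i H (((hL i H).fst g).2 ⟨s, hs⟩)

omit hO hD [FiniteDimensional F V]

theorem exists_std (h : IsConj σ q) (N : ℕ) : ∃ e : ℕ → Fin N → F, OnS (stdHerm h (Fin N)) e N ∧
    Fld (stdHerm h (Fin N)) e N := by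
  refine ⟨fun i => if H : i < N then Pi.single ⟨i, H⟩ 1 else 0, ⟨fun i hi => ?_,
    fun i hi j hj c => ?_⟩, fun τ => ⟨⟨Sem.pi _ τ, _, isSim_pi_herm h τ⟩, rfl, fun k hk => ?_⟩⟩
  · simp [hi, ← B_self, stdHerm_B_single]
  · simp [hi, hj, stdHerm_B_single, c]
  · ext l; simp [hk, Pi.single_apply, apply_ite τ]

/-- extension of a finite family by trivial subgroups -/
def ext {n : ℕ} (U : Fin n → Subgroup G) (i : ℕ) : Subgroup G := if H : i < n then U ⟨i, H⟩ else ⊥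

theorem ext_eq {n : ℕ} (U : Fin n → Subgroup G) {i : ℕ} (H : i < n) : ext U i = U ⟨i, H⟩ :=
  dif_pos H

/-- extension of a family indexed by consecutive pairs -/
def ext2 {n : ℕ} (W : Fin n → Fin n → Subgroup G) (i : ℕ) : Subgroup G :=
  if H : i + 1 < n then W ⟨i, by omega⟩ ⟨i + 1, H⟩ else ⊥

theorem ext2_eq {n : ℕ} (W : Fin n → Fin n → Subgroup G) {i : ℕ} (H : i + 1 < n) :
    ext2 W i = W ⟨i, by omega⟩ ⟨i + 1, H⟩ := dif_pos H

theorem surj_of {n : ℕ} {U : Fin n → Subgroup G} {W : Fin n → Fin n → Subgroup G}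
    (hgen : (⨆ i, U i) ⊔ (⨆ (i : Fin n) (j : Fin n) (_ : (i : ℕ) + 1 = j), W i j) = ⊤)
    {K : Subgroup G} (h1 : ∀ i, i + 2 ≤ n + 1 → ext U i ≤ K)
    (h2 : ∀ i, i + 3 ≤ n + 1 → ext2 W i ≤ K) : K = ⊤ := by
  rw [eq_top_iff, ← hgen]
  refine sup_le (iSup_le fun i => ?_) (iSup_le fun i => iSup_le fun j => iSup_le fun e => ?_)
  · simpa [ext_eq] using h1 i (by omega)
  · have := h2 i (by omega)
    rwa [ext2_eq W (by omega), show (⟨i + 1, by omega⟩ : Fin n) = j from Fin.ext e] at this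

end Cfsg.Lib.Phan
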