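import Cfsg.Agent.Lib.Phan.Geo

/-!
Covers of the orthogonality graph on the unit vectors of a unitary space are trivial.
-/

namespace Cfsg.Lib.Phan

open Module Cfsg.Lib.Forms Cfsg.Lib.Forms.Form

universe u
variable {F : Type*} [Field F] {σ : F →+* F} {q : ℕ} {h : IsConj σ q}
  {V : Type u} [AddCommGroup V] [Module F V] {D : Form h.kind V}

theorem nb_symm {x y : V} {c : F} (H : nb D x y ≠ c) : nb D y x ≠ c := by rwa [nb_comm]

theorem nb_symm' {x y : V} {c : F} (H : c ≠ 1 - nb D x y) : c ≠ 1 - nb D y x := by rwa [nb_comm]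

variable (D) in
/-- a cover of the orthogonality graph -/
structure Cov (X : Type*) where
  π : X → V
  adj : X → X → Prop
  unit : ∀ x, D.Q (π x) = 1
  symm : ∀ {x y}, adj x y → adj y x
  orth : ∀ {x y}, adj x y → D.B (π x) (π y) = 0
  lift : ∀ x v, D.Q v = 1 → D.B (π x) v = 0 → ∃ y, adj x y ∧ π y = v
  uniq : ∀ {x y y'}, adj x y → adj x y' → π y = π y' → y = y'
  tri : ∀ {x y z}, adj x y → adj x z → D.B (π y) (π z) = 0 → adj y z
  quad : ∀ {x x' y y' p}, adj x y → adj x y' → adj y x' → D.Q p = 1 → D.B (π x) p = 0 →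
    (∃ s t : F, π x' = s • π x + t • p) → D.B p (π y) = 0 → D.B p (π y') = 0 → adj x' y'

namespace Cov

variable {X : Type*} (C : Cov D X)

/-- quadrangles split by a nondegenerate 3-space close -/
def Q3 : Prop := ∀ {x x' y y' p p'}, C.adj x y → C.adj x y' → C.adj y x' → D.Q p = 1 → D.Q p' = 1 →
  D.B (C.π x) p = 0 → D.B (C.π x) p' = 0 → D.B p p' = 0 →
  (∃ s t t' : F, C.π x' = s • C.π x + t • p + t' • p') → D.B p (C.π y) = 0 → D.B p (C.π y') = 0 →
  D.B p' (C.π y) = 0 → D.B p' (C.π y') = 0 → C.adj x' y'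

variable {C}

theorem quad' {x x' y y' : X} (h1 : C.adj x y) (h2 : C.adj x y') (h3 : C.adj y x')
    (h4 : D.B (C.π x') (C.π y') = 0) (h5 : nb D (C.π x) (C.π x') ≠ 1) : C.adj x' y' := by
  obtain ⟨p, t, a1, a2, a3, a4⟩ := exists_gs (C.unit x) (C.unit x') h5
  exact C.quad h1 h2 h3 a1 a2 ⟨_, t, a3⟩ (a4 _ (C.orth h1) (C.orth (C.symm h3)))
    (a4 _ (C.orth h2) h4)

theorem quad'' {x x' y y' : X} (h1 : C.adj x y) (h2 : C.adj x y') (h3 : C.adj y x')
    (h4 : D.B (C.π x') (C.π y') = 0) (h5 : nb D (C.π y) (C.π y') ≠ 1) : C.adj x' y' :=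
  C.symm (quad' (C.symm h1) h3 h2 (D.eq_zero_symm h4) h5)

variable [FiniteDimensional F V] (hD : D.Nondeg)
include hD

theorem strong_five (hd : 5 ≤ finrank F V) (hQ : C.Q3) {x z z' y : X} (h1 : C.adj x z)
    (h2 : C.adj x z') (h3 : C.adj z y) (h4 : D.B (C.π y) (C.π z') = 0) : C.adj y z' := by
  by_cases c1 : nb D (C.π x) (C.π y) = 1
  swap; · exact quad' h1 h2 h3 h4 c1
  by_cases c2 : nb D (C.π z) (C.π z') = 1
  swap; · exact quad'' h1 h2 h3 h4 c2
  have o1 := C.orth h1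
  have o2 := C.orth h2
  have o3 := C.orth h3
  have o1' := D.eq_zero_symm o1
  have o2' := D.eq_zero_symm o2
  have o3' := D.eq_zero_symm o3
  have o4' := D.eq_zero_symm h4
  have ue := C.unit x
  have uz := C.unit z
  set e := C.π x
  set u := C.π y
  set a := C.π z
  set a' := C.π z'
  set r := a' - D.B a a' • a with hr
  have r1 : D.B a r = 0 := B_gs uz _
  have r2 : D.Q r = 0 := by rw [hr, Q_gs uz, C.unit, c2, sub_self]
  have r3 : D.B e r = 0 := by simp [hr, D.B_lin, o1, o2]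
  have r4 : D.B u r = 0 := by simp [hr, D.B_lin, o3', h4]
  have ea : a' = D.B a a' • a + r := by rw [hr]; abel
  clear_value r
  by_cases c3 : r ∈ Submodule.span F (Set.range ![e, a, u])
  · obtain ⟨w, w1, w2, w3⟩ := exists_unit hD (on_two ue uz o1) ![u] (by omega)
    have w4 : D.B r w = 0 := D.mem_perp.1 (mem_perp_range.2 fun i => by
      fin_cases i; exacts [w2 0, w2 1, w3 0]) r c3
    obtain ⟨w', a1, rfl⟩ := C.lift x w w1 (w2 0)
    have a2 : C.adj w' y := C.symm (quad'' h1 a1 h3 (w3 0) (nb_ne_one (w2 1)))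
    refine quad'' a1 h2 a2 h4 (nb_ne_one (D.eq_zero_symm ?_))
    have := w2 1
    rw [show C.π z' = a' from rfl, ea]
    simp only [Matrix.cons_val_one, Matrix.cons_val_zero] at this
    simp [D.B_lin, w4, this]
  · obtain ⟨s, s1, s2⟩ := hD.exists_perp_B_eq' c3 1
    obtain ⟨c, hc⟩ := exists_unit_add (D := D) (y := s) r2 (by rw [s2]; exact one_ne_zero)
    have s3 := mem_perp_range.1 s1
    have s4 : D.B e s = 0 := s3 0
    have s5 : D.B a s = 0 := s3 1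
    have s6 : D.B u s = 0 := s3 2
    set p := s + c • r with hp
    have p1 : D.B r p = 1 := by simp [hp, D.B_lin, s2, B_self, r2]
    have p1' : D.B p r = 1 := by rw [B_symm, p1, map_one]
    have p2 : D.B e p = 0 := by simp [hp, D.B_lin, s4, r3]
    have p3 : D.B a p = 0 := by simp [hp, D.B_lin, s5, r1]
    have p4 : D.B u p = 0 := by simp [hp, D.B_lin, s6, r4]
    clear_value p
    obtain ⟨t, t0, ht⟩ := exists_unit_smul (D := D) (x := r - p) (by
      rw [Q_sub', r2, hc, p1, map_one]; norm_num)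
    refine C.symm (hQ (p := p) (p' := t • (r - p)) (C.symm h1) h3 h2 hc ht p3 ?_ ?_
      ⟨D.B a a', 1, t⁻¹, ?_⟩ (D.eq_zero_symm p2) (D.eq_zero_symm p4) (D.eq_zero_symm ?_)
      (D.eq_zero_symm ?_))
    · change D.B a _ = 0; simp [D.B_lin, r1, p3]
    · simp [D.B_lin, p1', B_self, hc]
    · change a' = _ • a + _ + _
      rw [inv_smul_smul₀ t0, one_smul]; conv_lhs => rw [ea]
      abel
    · change D.B e _ = 0; simp [D.B_lin, r3, p2]
    · change D.B u _ = 0; simp [D.B_lin, r4, p4]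

theorem inj_five (hd : 5 ≤ finrank F V) (hQ : C.Q3) {x y : X}
    (H : Relation.ReflTransGen C.adj x y) (e : C.π x = C.π y) : x = y := by
  have key : ∃ z, C.adj x z ∧ C.adj z y := by
    clear e
    induction H with
    | refl =>
      obtain ⟨w, w1, w2, -⟩ := exists_unit hD (on_one (C.unit x)) ![] (by omega)
      obtain ⟨z, a1, -⟩ := C.lift x w w1 (w2 0)
      exact ⟨z, a1, C.symm a1⟩
    | @tail y y' _ h2 ih =>
      obtain ⟨z, a1, a2⟩ := ih
      obtain ⟨w, w1, w2, w3⟩ := exists_unit hD (on_two (C.unit y) (C.unit y') (C.orth h2))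
        ![C.π x] (by omega)
      obtain ⟨z', b1, rfl⟩ := C.lift x w w1 (w3 0)
      have b2 := strong_five hD hd hQ a1 b1 a2 (w2 0)
      exact ⟨z', b1, C.tri b2 h2 (D.eq_zero_symm (w2 1))⟩
  obtain ⟨z, a1, a2⟩ := key
  exact C.uniq (C.symm a1) a2 e

omit hD [FiniteDimensional F V] in
variable (C) in
/-- lifts of collinear pairs -/
def L (x y : X) : Prop := nb D (C.π x) (C.π y) ≠ 1 ∧ ∃ z, C.adj x z ∧ C.adj z y

omit hD [FiniteDimensional F V] in
theorem L.symm {x y : X} (H : C.L x y) : C.L y x :=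
  ⟨nb_symm H.1, H.2.imp fun _ a => ⟨C.symm a.2, C.symm a.1⟩⟩

omit hD [FiniteDimensional F V] in
theorem L.strong {x y z : X} (H : C.L x y) (h1 : C.adj x z) (h2 : D.B (C.π y) (C.π z) = 0) :
    C.adj y z := by
  obtain ⟨a, w, a1, a2⟩ := H
  exact quad' a1 h1 a2 h2 a

omit hD [FiniteDimensional F V] in
theorem L.uniq {x y y' : X} (H : C.L x y) (H' : C.L x y') (e : C.π y = C.π y') : y = y' := by
  obtain ⟨w, a1, a2⟩ := H.2
  exact C.uniq a2 (C.symm (H'.strong a1 (e ▸ C.orth (C.symm a2)))) e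

theorem L.lift (hd : 4 ≤ finrank F V) (x : X) {u : V} (hu : D.Q u = 1)
    (H : nb D (C.π x) u ≠ 1) : ∃ y, C.L x y ∧ C.π y = u := by
  obtain ⟨w, w1, w2, w3⟩ := exists_unit hD (on_one (C.unit x)) ![u] (by omega)
  obtain ⟨z, a1, rfl⟩ := C.lift x w w1 (w2 0)
  obtain ⟨y, b1, rfl⟩ := C.lift z u hu (D.eq_zero_symm (w3 0))
  exact ⟨y, ⟨H, z, a1, b1⟩, rfl⟩

theorem L.of_adj (hd : 3 ≤ finrank F V) {x y : X} (H : C.adj x y) : C.L x y := by
  obtain ⟨w, w1, w2, -⟩ := exists_unit hD (on_two (C.unit x) (C.unit y) (C.orth H)) ![]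
    (by omega)
  obtain ⟨z, a1, rfl⟩ := C.lift x w w1 (w2 0)
  exact ⟨nb_ne_one (C.orth H), z, a1, C.symm (C.tri H a1 (w2 1))⟩

omit hD [FiniteDimensional F V] in
theorem L.good {x y y' : X} (H : C.L x y) (H' : C.L x y') (h1 : nb D (C.π y) (C.π y') ≠ 1)
    (h2 : ∃ w, D.Q w = 1 ∧ D.B (C.π x) w = 0 ∧ D.B (C.π y) w = 0 ∧ D.B (C.π y') w = 0) :
    C.L y y' := by
  obtain ⟨w, w1, w2, w3, w4⟩ := h2
  obtain ⟨z, a1, rfl⟩ := C.lift x w w1 w2
  exact ⟨h1, z, H.strong a1 w3, C.symm (H'.strong a1 w4)⟩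

end Cov

variable (D) in
/-- the three vectors have a common orthogonal unit vector -/
def Good (a b c : V) : Prop := ∃ w, D.Q w = 1 ∧ D.B a w = 0 ∧ D.B b w = 0 ∧ D.B c w = 0

theorem Good.swap {a b c : V} (H : Good D a b c) : Good D b a c :=
  H.imp fun _ a => ⟨a.1, a.2.2.1, a.2.1, a.2.2.2⟩

theorem Good.rot {a b c : V} (H : Good D a b c) : Good D b c a :=
  H.imp fun _ a => ⟨a.1, a.2.2.1, a.2.2.2, a.2.1⟩

variable (D) in
/-- a triangle is good or is subdivided into three good ones -/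
def Sub (a b c : V) : Prop := Good D a b c ∨ ∃ d, D.Q d = 1 ∧ nb D a d ≠ 1 ∧ nb D b d ≠ 1 ∧
  nb D c d ≠ 1 ∧ Good D a b d ∧ Good D a c d ∧ Good D b c d

theorem Sub.rot {a b c : V} (H : Sub D a b c) : Sub D b c a :=
  H.imp Good.rot fun ⟨d, a1, a2, a3, a4, a5, a6, a7⟩ => ⟨d, a1, a3, a4, a2, a7, a5.swap, a6.swap⟩

theorem exists_two_fixed (h : IsConj σ q) (hq : 4 ≤ q) :
    ∃ x y : F, x ≠ y ∧ σ x = x ∧ σ y = y ∧ x ≠ 0 ∧ x ≠ 1 ∧ y ≠ 0 ∧ y ≠ 1 := by
  classical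
  obtain ⟨x, h1, h2, h3⟩ := h.exists_fixed_ne (by omega)
  have := h.finite
  have := Fintype.ofFinite F
  have hc := h.card_fixed
  rw [Nat.card_eq_fintype_card, Fintype.card_subtype] at hc
  obtain ⟨y, hy, hy'⟩ := Finset.exists_mem_notMem_of_card_lt_card
    (s := ({0, 1, x} : Finset F)) (t := Finset.univ.filter fun y => σ y = y)
    (lt_of_le_of_lt Finset.card_le_three (by omega))
  simp only [Finset.mem_filter, Finset.mem_univ, true_and, Finset.mem_insert,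
    Finset.mem_singleton, not_or] at hy hy'
  exact ⟨x, y, Ne.symm hy'.2.2, h1, hy, h2, h3, hy'.1, hy'.2.1⟩

theorem exists_avoid (h : IsConj σ q) (hq : 3 ≤ q) {A B A' B' : F} (hB : B ≠ 0) (hB' : B' ≠ 0) :
    ∃ γ : F, (A + γ * B) * σ (A + γ * B) ≠ 1 ∧ (A' + γ * B') * σ (A' + γ * B') ≠ 1 := by
  classical
  have := h.finite
  have := Fintype.ofFinite F
  have hc := h.card_norm_one
  have hF := h.card
  rw [Nat.card_eq_fintype_card, Fintype.card_subtype] at hc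
  rw [Nat.card_eq_fintype_card] at hF
  set N := Finset.univ.filter fun x : F => x * σ x = 1
  obtain ⟨γ, -, hγ⟩ := Finset.exists_mem_notMem_of_card_lt_card
    (s := N.image (fun x => (x - A) / B) ∪ N.image (fun x => (x - A') / B')) (t := Finset.univ)
    (by
      refine lt_of_le_of_lt (Finset.card_union_le _ _) (lt_of_le_of_lt (add_le_add
        Finset.card_image_le Finset.card_image_le) ?_)
      rw [hc, Finset.card_univ, hF]; nlinarith)
  simp only [Finset.mem_union, Finset.mem_image, not_or, not_exists, not_and, N,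
    Finset.mem_filter, Finset.mem_univ, true_and] at hγ
  exact ⟨γ, fun H => hγ.1 _ H (by field_simp; ring), fun H => hγ.2 _ H (by field_simp; ring)⟩

variable [FiniteDimensional F V] (hD : D.Nondeg)
include hD

theorem good_of_gram (hd : 4 ≤ finrank F V) {a c d : V} (ha : D.Q a = 1) (hc : D.Q c = 1)
    (hd' : D.Q d = 1) (had : D.B a d = 0) (H : nb D c d ≠ 1 - nb D a c) : Good D a c d := by
  have e1 : D.B d (c - D.B a c • a) = D.B d c := by simp [D.B_lin, D.eq_zero_symm had]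
  obtain ⟨t, t0, ht⟩ := exists_unit_smul (D := D)
    (x := c - D.B a c • a - D.B d (c - D.B a c • a) • d) (by
      rw [Q_gs hd', Q_gs ha, hc, show nb D d (c - D.B a c • a) = nb D c d by
        rw [nb, e1, ← nb, nb_comm]]; exact sub_ne_zero.2 H.symm)
  obtain ⟨w, w1, w2, -⟩ := exists_unit hD (on_three ha hd' ht had
    (by simp [D.B_lin, had, B_self, ha]) (by rw [D.B_smul_right, B_gs hd', mul_zero])) ![]
    (by omega)
  have a1 : D.B a w = 0 := w2 0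
  have a2 : D.B d w = 0 := w2 1
  have a3 := w2 2
  refine ⟨w, w1, a1, ?_, a2⟩
  simpa [D.B_lin, a1, a2, t0] using a3

theorem sub_of_tau (hd : 4 ≤ finrank F V) {a b c : V} (ha : D.Q a = 1) (hb : D.Q b = 1)
    (hc : D.Q c = 1) (hab : nb D a b ≠ 1) {τ : F} (h1 : σ τ = τ) (h2 : τ ≠ 0) (h3 : τ ≠ 1)
    (h4 : τ ≠ 1 - nb D a c) (h5 : τ ≠ 1 - nb D b c) : Sub D a b c := by
  obtain ⟨p, t, p1, p2, p3, -⟩ := exists_gs ha hb hab
  have hB : ∀ z, (∀ i, D.B (![a, p] i) z = 0) → D.B b z = 0 := fun z hz => by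
    have a1 : D.B a z = 0 := hz 0
    have a2 : D.B p z = 0 := hz 1
    rw [p3]; simp [D.B_lin, a1, a2]
  rcases dich hD (on_two ha p1 p2) (by omega) c with ⟨z, a1, a2, a3⟩ | H
  · exact Or.inl ⟨z, a1, a2 0, hB z a2, a3⟩
  obtain ⟨μ, hμ⟩ := h.exists_norm_eq h1
  obtain ⟨d, a1, a2, a3⟩ := H μ (by rintro rfl; simp at hμ; exact h2 hμ.symm)
  have e : nb D c d = τ := by rw [nb, a3, hμ]
  refine Or.inr ⟨d, a1, nb_ne_one (a2 0), nb_ne_one (hB d a2), e ▸ h3, ?_,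
    good_of_gram hD hd ha hc a1 (a2 0) (e ▸ h4), good_of_gram hD hd hb hc a1 (hB d a2) (e ▸ h5)⟩
  refine good_of_gram hD hd ha hb a1 (a2 0) ?_
  rw [nb_of_zero (hB d a2)]; exact (sub_ne_zero.2 hab.symm).symm

theorem sub_all (hd : 4 ≤ finrank F V) (hq : 4 ≤ q) {a b c : V} (ha : D.Q a = 1) (hb : D.Q b = 1)
    (hc : D.Q c = 1) (hab : nb D a b ≠ 1) (hac : nb D a c ≠ 1) (hbc : nb D b c ≠ 1) :
    Sub D a b c := by
  obtain ⟨x, y, e, x1, y1, x2, x3, y2, y3⟩ := exists_two_fixed h hq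
  by_contra H
  have k1 : ∀ τ, σ τ = τ → τ ≠ 0 → τ ≠ 1 → τ = 1 - nb D a c ∨ τ = 1 - nb D b c :=
    fun τ h1 h2 h3 => by
      by_contra H'; push Not at H'
      exact H (sub_of_tau hD hd ha hb hc hab h1 h2 h3 H'.1 H'.2)
  have k2 : ∀ τ, σ τ = τ → τ ≠ 0 → τ ≠ 1 → τ = 1 - nb D a b ∨ τ = 1 - nb D a c :=
    fun τ h1 h2 h3 => by
      by_contra H'; push Not at H'
      exact H (sub_of_tau hD hd hb hc ha hbc h1 h2 h3 (nb_symm' H'.1)
        (nb_symm' H'.2)).rot.rot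
  have k3 : ∀ τ, σ τ = τ → τ ≠ 0 → τ ≠ 1 → τ = 1 - nb D b c ∨ τ = 1 - nb D a b :=
    fun τ h1 h2 h3 => by
      by_contra H'; push Not at H'
      exact H (sub_of_tau hD hd hc ha hb (nb_symm hac) h1 h2 h3 (nb_symm' H'.1)
        H'.2).rot
  have := k1 x x1 x2 x3
  have := k1 y y1 y2 y3
  have := k2 x x1 x2 x3
  have := k2 y y1 y2 y3
  have := k3 x x1 x2 x3
  have := k3 y y1 y2 y3
  grind

namespace Cov
variable {X : Type*} {C : Cov D X}

theorem L.tri (hd : 4 ≤ finrank F V) (hq : 4 ≤ q) {x y y' : X} (H : C.L x y) (H' : C.L x y')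
    (h1 : nb D (C.π y) (C.π y') ≠ 1) : C.L y y' := by
  rcases sub_all hD hd hq (C.unit x) (C.unit y) (C.unit y') H.1 H'.1 h1 with
    G | ⟨d, a1, a2, a3, a4, a5, a6, a7⟩
  · exact H.good H' h1 G
  · obtain ⟨z, b1, rfl⟩ := L.lift hD hd x a1 a2
    exact (H.good b1 a3 a5).symm.good (H'.good b1 a4 a6).symm h1 a7.rot.rot

theorem L.step (hd : 4 ≤ finrank F V) (hq : 4 ≤ q) {x y w w' : X} (h1 : C.L x w) (h2 : C.L w y)
    (h3 : C.L x w') (h4 : nb D (C.π w') (C.π y) ≠ 1) (h5 : nb D (C.π w) (C.π w') ≠ 1) :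
    C.L w' y := L.tri hD hd hq (L.tri hD hd hq h1 h3 h5) h2 h4

theorem L.step2 (hd : 4 ≤ finrank F V) (hq : 4 ≤ q) {x y w w' : X} (h1 : C.L x w) (h2 : C.L w y)
    (h3 : C.L x w') (h4 : nb D (C.π w') (C.π y) ≠ 1) {z : V} (z1 : D.Q z = 1)
    (z2 : nb D (C.π x) z ≠ 1) (z3 : nb D (C.π y) z ≠ 1) (z4 : nb D (C.π w) z ≠ 1)
    (z5 : nb D (C.π w') z ≠ 1) : C.L w' y := by
  obtain ⟨v, b1, rfl⟩ := L.lift hD hd x z1 z2
  exact L.step hD hd hq b1 (L.step hD hd hq h1 h2 b1 (nb_symm z3) z4) h3 h4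
    (nb_symm z5)

theorem L.mid (hd : 4 ≤ finrank F V) (hq : 4 ≤ q) {x y w w' : X} (h1 : C.L x w) (h2 : C.L w y)
    (h3 : C.L x w') (h4 : nb D (C.π w') (C.π y) ≠ 1) : C.L w' y := by
  by_cases c1 : nb D (C.π x) (C.π y) = 1
  swap; · exact L.tri hD hd hq h3 (L.tri hD hd hq h1.symm h2 c1) h4
  have ua := C.unit x
  set a := C.π x
  set b := C.π y
  set r := b - D.B a b • a with hr
  have r1 : D.B a r = 0 := B_gs ua _
  have r2 : D.Q r = 0 := by rw [hr, Q_gs ua, C.unit, c1, sub_self]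
  have eb : ∀ z, D.B a z = 0 → D.B b z = D.B r z := fun z hz => by simp [hr, D.B_lin, hz]
  clear_value r
  by_cases r0 : r = 0
  · obtain ⟨p, t, p1, p2, p3, -⟩ := exists_gs ua (C.unit w) h1.1
    obtain ⟨z, a1, a2, a3⟩ := exists_col hD (on_two ua p1 p2) (by omega) (by omega) (C.π w')
    have b1 : D.B a z = 0 := a2 0
    have b2 : D.B p z = 0 := a2 1
    refine L.step2 hD hd hq h1 h2 h3 h4 a1 (nb_ne_one b1) (nb_ne_one ?_) (nb_ne_one ?_) a3
    · rw [show C.π y = b from rfl, eb z b1, r0, D.B_zero_left]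
    · rw [p3]; simp [D.B_lin, b1, b2]
  have k1 : ∀ c : V, D.Q c = 1 → nb D a c ≠ 1 → D.B r c = 0 → ∃ z, D.Q z = 1 ∧ nb D a z ≠ 1 ∧
      nb D b z ≠ 1 ∧ nb D c z ≠ 1 ∧ D.B r z ≠ 0 := fun c hc h1 h2 => by
    obtain ⟨p, t, p1, p2, p3, p4⟩ := exists_gs ua hc h1
    obtain ⟨μ, m1, m2⟩ := exists_norm_ne h (by omega)
    obtain ⟨z, a1, a2, a3⟩ := exists_unit_hyp hD (on_two ua p1 p2) r2 r0 (fun i => by
      fin_cases i; exacts [r1, p4 r r1 (D.eq_zero_symm h2)]) m1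
    have b1 : D.B a z = 0 := a2 0
    have b2 : D.B p z = 0 := a2 1
    exact ⟨z, a1, nb_ne_one b1, by rwa [nb, eb z b1, a3], nb_ne_one (by
      rw [p3]; simp [D.B_lin, b1, b2]), a3 ▸ m1⟩
  have k2 : ∀ {w w' : X}, C.L x w → C.L w y → C.L x w' → nb D (C.π w') b ≠ 1 →
      D.B r (C.π w) ≠ 0 → D.B r (C.π w') ≠ 0 → C.L w' y := fun {w w'} h1 h2 h3 h4 h5 h6 => by
    obtain ⟨z, z1, z2, z3⟩ := exists_unit hD (on_one ua) ![r] (by omega)
    have b1 : D.B a z = 0 := z2 0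
    have b2 : D.B r z = 0 := z3 0
    obtain ⟨γ, g1, g2⟩ := exists_avoid h (by omega) (A := D.B (C.π w) z)
      (A' := D.B (C.π w') z) (D.ne_zero_symm h5) (D.ne_zero_symm h6)
    have b3 : D.B a (z + γ • r) = 0 := by simp [D.B_lin, b1, r1]
    refine L.step2 hD hd hq h1 h2 h3 h4 (z := z + γ • r) ?_ (nb_ne_one b3) (nb_ne_one ?_)
      (by simpa only [nb, D.B_lin] using g1) (by simpa only [nb, D.B_lin] using g2)
    · rw [Q_add', D.Q_smul, r2, z1, D.B_smul_right, D.eq_zero_symm b2]; simp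
    · rw [show C.π y = b from rfl, eb _ b3]; simp [D.B_lin, b2, B_self, r2]
  have k3 : ∃ v, C.L x v ∧ C.L v y ∧ D.B r (C.π v) ≠ 0 := by
    by_cases c2 : D.B r (C.π w) = 0
    swap; · exact ⟨w, h1, h2, c2⟩
    obtain ⟨z, a1, a2, a3, a4, a5⟩ := k1 _ (C.unit w) h1.1 c2
    obtain ⟨v, b1, rfl⟩ := L.lift hD hd x a1 a2
    exact ⟨v, b1, L.step hD hd hq h1 h2 b1 (nb_symm a3) a4, a5⟩
  obtain ⟨v, v1, v2, v3⟩ := k3
  by_cases c2 : D.B r (C.π w') = 0
  swap; · exact k2 v1 v2 h3 h4 v3 c2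
  obtain ⟨z, a1, a2, a3, a4, a5⟩ := k1 _ (C.unit w') h3.1 c2
  obtain ⟨v', b1, rfl⟩ := L.lift hD hd x a1 a2
  exact L.step hD hd hq b1 (k2 v1 v2 b1 (nb_symm a3) v3 a5) h3 h4 (nb_symm a4)

theorem inj_four (hd : 4 ≤ finrank F V) (hq : 4 ≤ q) {x y : X}
    (H : Relation.ReflTransGen C.adj x y) (e : C.π x = C.π y) : x = y := by
  have key : ∃ w, C.L x w ∧ C.L w y := by
    clear e
    induction H with
    | refl =>
      obtain ⟨w, w1, w2, -⟩ := exists_unit hD (on_one (C.unit x)) ![] (by omega)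
      obtain ⟨z, a1, -⟩ := L.lift hD hd x w1 (nb_ne_one (w2 0))
      exact ⟨z, a1, a1.symm⟩
    | @tail y y' _ h2 ih =>
      obtain ⟨z, a1, a2⟩ := ih
      obtain ⟨w, w1, w2, w3⟩ := exists_col hD (on_two (C.unit y) (C.unit y') (C.orth h2))
        (by omega) (by omega) (C.π x)
      obtain ⟨z', b1, rfl⟩ := L.lift hD hd x w1 w3
      have b2 := L.mid hD hd hq a1 a2 b1 (nb_ne_one (D.eq_zero_symm (w2 0)))
      exact ⟨z', b1, L.tri hD hd hq b2.symm (L.of_adj hD (by omega) h2)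
        (nb_ne_one (D.eq_zero_symm (w2 1)))⟩
  obtain ⟨z, a1, a2⟩ := key
  exact a1.symm.uniq a2 e

end Cov

end Cfsg.Lib.Phan
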