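import Cfsg.Agent.Lib.Phan.Glue
import Cfsg.Agent.Lib.CAut.Fam
import Cfsg.Agent.Lib.Linear.AutPSL
import Cfsg.Agent.Lib.Forms.Ext
import Cfsg.Prelude.Def_PhanSystems

/-!
Matrix models of the groups `SUb`, and automorphisms of `SU₂`.
-/

namespace Cfsg.Lib.Phan

open Module Cfsg.Lib.Forms Cfsg.Lib.Forms.Form Matrix

universe u
variable {F : Type*} [Field F] {σ : F →+* F} {q : ℕ} {h : IsConj σ q}
  {V : Type u} [AddCommGroup V] [Module F V] {D : Form h.kind V}

theorem exists_equiv [FiniteDimensional F V] (hD : D.Nondeg) {m : ℕ} {u : Fin m → V}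
    (hu : On D u) : ∃ j : SU m F q ≃* SUb D (Submodule.span F (Set.range u)),
      ∀ x k, (j x).1.1 (u k) = ∑ l, x.1 l k • u l := by
  set W := Submodule.span F (Set.range u)
  let φ : (Fin m → F) →ₗ[F] W := (Fintype.linearCombination F u).codRestrict W fun x => by
    rw [Fintype.linearCombination_apply]
    exact Submodule.sum_mem _ fun i _ => Submodule.smul_mem _ _ (Submodule.subset_span ⟨i, rfl⟩)
  have e1 : ∀ x, (φ x : V) = ∑ i, x i • u i := fun x => Fintype.linearCombination_apply _ _ _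
  have hI' : IsIsometry (stdHerm h (Fin m)) (D.restrict W) φ := herm_isIsometry fun x y => by
    rw [restrict_B, e1 x, e1 y, stdHerm_B, map_sum D.B, LinearMap.sum_apply]
    exact Finset.sum_congr rfl fun i _ => by rw [D.B_smul_left, hu.B_sum]
  let ψ := LinearEquiv.ofBijective φ ⟨hI'.injective (stdHerm_nondeg h _), fun w => by
    obtain ⟨c, hc⟩ := (Submodule.mem_span_range_iff_exists_fun F).1 w.2
    exact ⟨c, Subtype.ext ((e1 c).trans hc)⟩⟩
  have hI : IsIsometry (stdHerm h (Fin m)) (D.restrict W) ψ := hI'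
  have hO := hD.isOrthCompl hu.disj
  let ε := (extend hO).comp (isomCongr ψ hI).toMonoidHom
  have hdet : ∀ g, D.det (ε g) = (stdHerm h (Fin m)).det g := fun g =>
    (det_extend hO _).trans (det_isomCongr ψ hI g)
  let j : SU m F q →* SUb D W := (ε.comp ((Subgroup.subtype _).comp
    (suEquiv h m).toMonoidHom)).codRestrict _ fun x =>
      ⟨(hdet _).trans (suEquiv h m x).2, fun _ hv => extend_apply_right hO _ hv⟩
  refine ⟨MulEquiv.ofBijective j ⟨fun x y e => (suEquiv h m).injective (Subtype.ext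
    ((isomCongr ψ hI).injective (extend_injective hO (congrArg Subtype.val e)))), fun s => ?_⟩,
    fun x k => ?_⟩
  · obtain ⟨g, hg⟩ : s.1 ∈ (extend hO).range := by rw [range_extend hO hD]; exact s.2.2
    obtain ⟨g, rfl⟩ := (isomCongr ψ hI).surjective g
    obtain ⟨x, hx⟩ := (suEquiv h m).surjective ⟨g, (hdet g).symm.trans (by
      exact (congrArg D.det hg).trans s.2.1)⟩
    exact ⟨x, Subtype.ext (by
      change ε (suEquiv h m x).1 = _
      rw [hx]; exact hg)⟩
  · have e2 : u k = (ψ (Pi.single k 1) : V) := by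
      change _ = (φ _ : V)
      simp [e1, Pi.single_apply]
    change (extend hO (isomCongr ψ hI (suEquiv h m x).1)).1 (u k) = _
    rw [e2, extend_apply_left, isomCongr_apply, LinearEquiv.symm_apply_apply, suEquiv_apply]
    change (φ _ : V) = _
    simp [e1]

theorem mem_SU_iff (h : IsConj σ q) {n : ℕ} {x : SpecialLinearGroup (Fin n) F} :
    x ∈ SU n F q ↔ (x.1.map σ)ᵀ * x.1 = 1 := by
  have e : ∀ u v, hermForm n F q (x.1 *ᵥ u) (x.1 *ᵥ v) =
      (σ ∘ v) ⬝ᵥ (((x.1.map σ)ᵀ * x.1) *ᵥ u) := fun u v => by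
    rw [hermForm_eq h, stdHerm_B, ← mulVec_mulVec, dotProduct_mulVec, vecMul_transpose,
      map_mulVec_comp]; rfl
  have e' : ∀ u v, hermForm n F q u v = (σ ∘ v) ⬝ᵥ u := fun u v => by
    rw [hermForm_eq h, stdHerm_B]; rfl
  refine ⟨fun H => Matrix.ext fun i j => ?_, fun H u v => ?_⟩
  · have := (e (Pi.single j 1) (Pi.single i 1)).symm.trans (H _ _)
    rw [e', comp_single] at this
    simpa [Matrix.one_apply, Pi.single_apply, eq_comm] using this
  · exact (e u v).trans (by rw [H, one_mulVec, e'])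

theorem su2_entries (h : IsConj σ q) (x : SU 2 F q) : x.1 1 1 = σ (x.1 0 0) ∧
    x.1 0 1 = -σ (x.1 1 0) ∧ x.1 0 0 * σ (x.1 0 0) + x.1 1 0 * σ (x.1 1 0) = 1 := by
  have h1 := (mem_SU_iff h).1 x.2
  have h2 := x.1.2
  rw [det_fin_two] at h2
  have a1 := congrFun (congrFun h1 0) 0
  have a2 := congrFun (congrFun h1 0) 1
  simp [Matrix.mul_apply, Fin.sum_univ_two] at a1 a2
  refine ⟨?_, ?_, by linear_combination a1⟩
  · linear_combination (-x.1 1 1) * a1 + x.1 1 0 * a2 + σ (x.1 0 0) * h2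
  · linear_combination (-x.1 0 1) * a1 + x.1 0 0 * a2 - σ (x.1 1 0) * h2

theorem exists_su2 (h : IsConj σ q) {a b : F} (H : a * σ a + b * σ b = 1) :
    ∃ x : SU 2 F q, x.1 0 0 = a ∧ x.1 1 0 = b := by
  refine ⟨⟨⟨!![a, -σ b; b, σ a], by rw [det_fin_two_of]; linear_combination H⟩,
    (mem_SU_iff h).2 ?_⟩, rfl, rfl⟩
  ext i j
  fin_cases i <;> fin_cases j <;> simp [Matrix.mul_apply, Fin.sum_univ_two, h.σσ] <;>
    first | linear_combination H | ring

theorem exists_norm_one (h : IsConj σ q) : ∃ l : F, l * σ l = 1 ∧ l ≠ σ l := by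
  classical
  have := h.finite
  have := Fintype.ofFinite F
  have hc := h.card_norm_one
  have := h.two_le
  rw [Nat.card_eq_fintype_card, Fintype.card_subtype] at hc
  obtain ⟨y, hy, hy'⟩ := Finset.exists_mem_notMem_of_card_lt_card
    (s := ({1, -1} : Finset F)) (t := Finset.univ.filter fun y => y * σ y = 1)
    (lt_of_le_of_lt Finset.card_le_two (by omega))
  simp only [Finset.mem_filter, Finset.mem_univ, true_and, Finset.mem_insert,
    Finset.mem_singleton, not_or] at hy hy'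
  refine ⟨y, hy, fun e => ?_⟩
  rw [← e] at hy
  exact (mul_self_eq_one_iff.1 hy).elim hy'.1 hy'.2

theorem tr_J {R : Type*} [CommRing R] (y : Matrix (Fin 2) (Fin 2) R) :
    yᵀ * !![0, 1; -1, 0] * y = y.det • !![0, 1; -1, 0] := by
  ext i j
  fin_cases i <;> fin_cases j <;> simp [Matrix.mul_apply, Fin.sum_univ_two, det_fin_two] <;> ring

theorem exists_gram (h : IsConj σ q) : ∃ (P : GL (Fin 2) F) (θ : F), θ ≠ 0 ∧
    ((P : Matrix (Fin 2) (Fin 2) F).map σ)ᵀ * P.1 = θ • !![0, 1; -1, 0] := by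
  obtain ⟨θ, h0, hθ⟩ := h.exists_trace_zero
  obtain ⟨e, f, hef⟩ := Herm.exists_isHyp (stdHerm_nondeg h (Fin 2)) (by simp)
  have a1 := hef.B_ee
  have a2 := hef.B_ff
  have a3 := hef.B_ef
  have a4 := hef.B_fe
  simp only [stdHerm_B, Fin.sum_univ_two, hermKind_ε] at a1 a2 a3 a4
  have e1 : ((!![e 0, θ * f 0; e 1, θ * f 1] : Matrix (Fin 2) (Fin 2) F).map σ)ᵀ *
      !![e 0, θ * f 0; e 1, θ * f 1] = θ • !![0, 1; -1, 0] := by
    have : σ θ = -θ := by linear_combination hθ
    ext i j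
    fin_cases i <;> fin_cases j <;> simp [Matrix.mul_apply, Fin.sum_univ_two, this]
    · exact a1
    · linear_combination θ * a3
    · linear_combination -θ * a4
    · linear_combination -θ ^ 2 * a2
  refine ⟨GeneralLinearGroup.mkOfDetNeZero _ fun H => ?_, θ, h0, e1⟩
  have := congrArg det e1
  rw [det_mul, H, mul_zero] at this
  simp [det_fin_two, h0] at this

theorem aut_su2 (h : IsConj σ q) (α : SU 2 F q ≃* SU 2 F q) : ∃ (τ : F ≃+* F) (A : GL (Fin 2) F),
    ∀ x, (α x).1.1 * A = A * x.1.1.map τ := by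
  have := h.finite
  obtain ⟨P, θ, h0, hP⟩ := exists_gram h
  let K := σ.eqLocusField (RingHom.id F)
  have hm : ∀ y : Matrix (Fin 2) (Fin 2) K, (y.map K.subtype).map σ = y.map K.subtype :=
    fun y => Matrix.ext fun i j => (y i j).2
  have hPi : ((P⁻¹ : GL (Fin 2) F) : Matrix (Fin 2) (Fin 2) F).map σ * (P.1.map σ) = 1 := by
    rw [← Matrix.map_mul, Units.inv_mul]; simp
  have hPi' : (P.1.map σ) * ((P⁻¹ : GL (Fin 2) F) : Matrix (Fin 2) (Fin 2) F).map σ = 1 :=
    mul_eq_one_comm.1 hPi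
  let j₀ : SpecialLinearGroup (Fin 2) K →* SpecialLinearGroup (Fin 2) F :=
    (Linear.slConj _ F P).toMonoidHom.comp (SpecialLinearGroup.map K.subtype)
  have e0 : ∀ y, (j₀ y).1 = P * y.1.map K.subtype * (P⁻¹ : GL (Fin 2) F) := fun _ => rfl
  let j₁ : SpecialLinearGroup (Fin 2) K →* SU 2 F q := j₀.codRestrict _ fun y =>
    (mem_SU_iff h).2 (by
      have d : (y.1.map K.subtype).det = 1 := (SpecialLinearGroup.map K.subtype y).2
      rw [e0, Matrix.map_mul, Matrix.map_mul, hm, transpose_mul, transpose_mul]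
      simp only [Matrix.mul_assoc]
      rw [← Matrix.mul_assoc (P.1.map σ)ᵀ, hP, ← Matrix.mul_assoc (θ • _), smul_mul_assoc,
        ← Matrix.mul_assoc _ (θ • _), mul_smul_comm, ← Matrix.mul_assoc _ !![0, 1; -1, 0], tr_J,
        d, one_smul, ← hP, Matrix.mul_assoc, Units.mul_inv, mul_one, ← transpose_mul, hPi',
        transpose_one])
  have hj : Function.Bijective j₁ := by
    refine ⟨fun y y' e => ?_, fun x => ?_⟩
    · have := (Linear.slConj _ F P).injective (congrArg Subtype.val e)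
      exact Subtype.ext (Matrix.map_injective K.subtype.injective (congrArg Subtype.val this))
    · set y := Linear.slConj _ F P⁻¹ x.1
      have e1 : y.1 = (P⁻¹ : GL (Fin 2) F) * x.1.1 * P := by
        rw [Linear.coe_slConj, inv_inv]
      have e2 : (y.1.map σ)ᵀ * !![0, 1; -1, 0] * y.1 = !![0, 1; -1, 0] := by
        refine smul_right_injective _ h0 ?_
        change θ • _ = θ • _
        rw [← smul_mul_assoc, ← mul_smul_comm, ← hP, e1, Matrix.map_mul, Matrix.map_mul,
          transpose_mul, transpose_mul]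
        simp only [Matrix.mul_assoc]
        rw [← Matrix.mul_assoc _ (P.1.map σ)ᵀ, ← transpose_mul, hPi', transpose_one, one_mul,
          Units.mul_inv_cancel_left, ← Matrix.mul_assoc (x.1.1.map σ)ᵀ, (mem_SU_iff h).1 x.2,
          one_mul]
      have e3 : y.1.map σ = y.1 := by
        have d := y.2
        rw [det_fin_two] at d
        have a1 := congrFun (congrFun e2 0) 0
        have a2 := congrFun (congrFun e2 0) 1
        have a3 := congrFun (congrFun e2 1) 0
        have a4 := congrFun (congrFun e2 1) 1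
        simp [Matrix.mul_apply, Fin.sum_univ_two] at a1 a2 a3 a4
        ext i j
        fin_cases i <;> fin_cases j <;> simp
        · linear_combination y.1 0 0 * a2 - y.1 0 1 * a1 - σ (y.1 0 0) * d
        · linear_combination y.1 0 0 * a4 - y.1 0 1 * a3 - σ (y.1 0 1) * d
        · linear_combination y.1 1 0 * a2 - y.1 1 1 * a1 - σ (y.1 1 0) * d
        · linear_combination y.1 1 0 * a4 - y.1 1 1 * a3 - σ (y.1 1 1) * d
      let y' : Matrix (Fin 2) (Fin 2) K := Matrix.of fun i j => ⟨y.1 i j, congrFun (congrFun e3 i) j⟩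
      have e4 : y'.map K.subtype = y.1 := rfl
      refine ⟨⟨y', K.subtype.injective (by
        rw [RingHom.map_det, map_one]; exact y.2)⟩, Subtype.ext (Subtype.ext ?_)⟩
      change (P : Matrix (Fin 2) (Fin 2) F) * y'.map K.subtype * (P⁻¹ : GL (Fin 2) F) = _
      rw [e4, e1]; simp [Matrix.mul_assoc]
  let j := MulEquiv.ofBijective j₁ hj
  obtain ⟨g, τ₀, H | H⟩ := Linear.sl_aut_factor (j.trans (α.trans j.symm))
  swap; · omega
  obtain ⟨p, -, hp, hc, -⟩ := exists_prime_pow_of_card_eq_sq h.card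
  have := Fact.mk hp
  obtain ⟨k, hk⟩ := CAut.exists_pow_of_ringAut p τ₀
  let τ := iterateFrobeniusEquiv F p k
  have hτ : ∀ y : Matrix (Fin 2) (Fin 2) K, (y.map τ₀).map K.subtype = (y.map K.subtype).map τ :=
    fun y => Matrix.ext fun i j => by simp [hk, τ, iterateFrobenius_def]
  refine ⟨τ, P * GeneralLinearGroup.map K.subtype g * (GeneralLinearGroup.map τ.toRingHom P)⁻¹,
    fun x => ?_⟩
  obtain ⟨y, rfl⟩ := j.surjective x
  have e1 : α (j y) = j (Linear.slConj _ K g (Linear.slField _ K τ₀ y)) := by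
    rw [← MulEquiv.symm_apply_eq]; exact congrArg (· y) H
  rw [e1]
  change (j₀ _).1 * _ = _ * (j₀ y).1.map τ
  rw [e0, e0, Linear.coe_slConj, Linear.coe_slField, Matrix.map_mul, Matrix.map_mul, hτ,
    Matrix.map_mul (f := τ), Matrix.map_mul (f := τ)]
  have b1 : ((g⁻¹ : GL (Fin 2) K) : Matrix (Fin 2) (Fin 2) K).map K.subtype =
    ((GeneralLinearGroup.map K.subtype g)⁻¹ : GL (Fin 2) F) := by rw [← map_inv]; rfl
  have b2 : (g : Matrix (Fin 2) (Fin 2) K).map K.subtype =
    (GeneralLinearGroup.map K.subtype g : GL (Fin 2) F) := rfl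
  have b3 : ((P⁻¹ : GL (Fin 2) F) : Matrix (Fin 2) (Fin 2) F).map τ =
    ((GeneralLinearGroup.map τ.toRingHom P)⁻¹ : GL (Fin 2) F) := by rw [← map_inv]; rfl
  have b4 : (P : Matrix (Fin 2) (Fin 2) F).map τ =
    (GeneralLinearGroup.map τ.toRingHom P : GL (Fin 2) F) := rfl
  rw [b1, b2, b3, b4]
  simp only [Units.val_mul, Matrix.mul_assoc, Units.inv_mul_cancel_left]

theorem aut_su2_diag (h : IsConj σ q) (α : SU 2 F q ≃* SU 2 F q)
    (H : ∀ x : SU 2 F q, x.1 1 0 = 0 → (α x).1 1 0 = 0) : ∃ (τ : F ≃+* F) (ν : F), ν * σ ν = 1 ∧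
      ∀ x, (α x).1 0 0 = τ (x.1 0 0) ∧ (α x).1 1 0 = ν * τ (x.1 1 0) := by
  obtain ⟨τ, A, hA⟩ := aut_su2 h α
  have hA' : ∀ x : SU 2 F q, ∀ i j, (α x).1 i 0 * A 0 j + (α x).1 i 1 * A 1 j =
      A i 0 * τ (x.1 0 j) + A i 1 * τ (x.1 1 j) := fun x i j => by
    simpa [Matrix.mul_apply, Fin.sum_univ_two] using congrFun (congrFun (hA x) i) j
  have dA := A.det_ne_zero
  rw [det_fin_two] at dA
  suffices ∃ (τ : F ≃+* F) (ν : F), ∀ x, (α x).1 0 0 = τ (x.1 0 0) ∧
      (α x).1 1 0 = ν * τ (x.1 1 0) by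
    obtain ⟨τ, ν, H⟩ := this
    obtain ⟨x, x1, x2⟩ := exists_su2 h (a := 0) (b := 1) (by simp)
    refine ⟨τ, ν, ?_, H⟩
    simpa [H x, x1, x2] using (su2_entries h (α x)).2.2
  obtain ⟨l, l1, l2⟩ := exists_norm_one h
  obtain ⟨x, x1, x2⟩ := exists_su2 h (a := l) (b := 0) (by simpa)
  obtain ⟨x3, x4, -⟩ := su2_entries h x
  obtain ⟨y3, y4, -⟩ := su2_entries h (α x)
  have y2 := H x x2
  have cm := (CAut.knat_herm h).comm τ
  have l3 : τ l - σ (τ l) ≠ 0 := by rw [← cm, ← map_sub]; simpa [sub_eq_zero]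
  have a1 := hA' x 0 0
  have a2 := hA' x 0 1
  have a3 := hA' x 1 0
  have a4 := hA' x 1 1
  simp only [x1, x2, x3, x4, y2, y3, y4, map_zero, neg_zero, mul_zero, zero_mul, add_zero,
    zero_add, cm] at a1 a2 a3 a4
  by_cases c : A 0 0 = 0
  · have b1 : A 0 1 ≠ 0 := fun e => dA (by simp [e, c])
    have b2 : (α x).1 0 0 = σ (τ l) := mul_right_cancel₀ b1 (by rw [a2, mul_comm])
    rw [b2, h.σσ] at a4
    have b3 : A 1 1 = 0 := (mul_eq_zero.1 (by linear_combination a4)).resolve_left l3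
    refine ⟨(RingEquiv.ofBijective σ h.kind.σ_bijective).trans τ, -A 1 0 / A 0 1, fun z => ?_⟩
    obtain ⟨z3, z4, -⟩ := su2_entries h z
    have a5 := hA' z 0 1
    have a6 := hA' z 1 1
    simp only [c, b3, z3, z4, mul_zero, zero_mul, add_zero, zero_add, map_neg] at a5 a6
    refine ⟨mul_right_cancel₀ b1 (by rw [a5, mul_comm]; rfl), ?_⟩
    change _ = _ * τ (σ _)
    field_simp; linear_combination a6
  · have b2 : (α x).1 0 0 = τ l := mul_right_cancel₀ c (by rw [a1, mul_comm])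
    rw [b2] at a2 a3
    have b3 : A 0 1 = 0 := (mul_eq_zero.1 (by linear_combination a2)).resolve_left l3
    have b4 : A 1 0 = 0 := (mul_eq_zero.1 (by linear_combination -a3)).resolve_left l3
    refine ⟨τ, A 1 1 / A 0 0, fun z => ?_⟩
    have a5 := hA' z 0 0
    have a6 := hA' z 1 0
    simp only [b3, b4, mul_zero, zero_mul, add_zero, zero_add] at a5 a6
    refine ⟨mul_right_cancel₀ c (by rw [a5, mul_comm]), ?_⟩
    field_simp; linear_combination a6

end Cfsg.Lib.Phan
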