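import Cfsg.Agent.Lib.Phan.Start

/-!
The rank three step of Phan's theorem for `q ≤ 3`, when the rank three subgroup is known to be a
quotient of `SU₄(q)`.
-/

set_option maxHeartbeats 400000

namespace Cfsg.Lib.Phan

open Module Cfsg.Lib.Forms Cfsg.Lib.Forms.Form Matrix CAut

universe u v
variable {F : Type*} [Field F] {σ : F →+* F} {q : ℕ} {h : IsConj σ q}
  {V : Type u} [AddCommGroup V] [Module F V] {D : Form h.kind V} {e : ℕ → V} {N : ℕ}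
  {G : Type*} [Group G] {i : ℕ} {Γ Γ' : Subgroup (G × D.isom)} {U U' U'' W W' : Subgroup G}
  [FiniteDimensional F V] (hO : OnS D e N) (hD : D.Nondeg)
  {V₄ : Type v} [AddCommGroup V₄] [Module F V₄] [FiniteDimensional F V₄] {D₄ : Form h.kind V₄}
  {Δ : Subgroup (G × D₄.isom)} (p : ℕ) [Fact p.Prime] [CharP F p]
include hO hD

theorem Loc.eq_lift (H : i + 3 ≤ N) (L : Loc Γ e i U U' W) {Y : Subgroup G} (A : Amb Δ Y)
    (le : W ≤ Y) : (∀ y ∈ U, ∃ s ∈ lift p Δ U, (y, s) ∈ Δ) ∧ ∀ y ∈ U', ∃ s ∈ lift p Δ U', (y, s) ∈ Δ :=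
  ⟨fun _ => ex_lift A.ker A.nd (fun _ => L.genL hO hD p H) fun y hy => A.fst y (le (L.leL hy)),
    fun _ => ex_lift A.ker A.nd (fun _ => L.genR hO hD p H) fun y hy => A.fst y (le (L.leR hy))⟩

theorem Loc.lift_top (H : i + 3 ≤ N) (L : Loc Γ e i U U' W) (hi : ∀ y ∈ U, y ∈ U' → y = 1)
    {Y : Subgroup G} (A : Amb Δ Y) (le : W ≤ Y) {f : ℕ → V₄} (hf : OnS D₄ f 4) {j : ℕ}
    (hj : j + 3 ≤ 4) (h1 : lift p Δ U = SUb D₄ (sp F f j (j + 2)))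
    (h2 : lift p Δ U' = SUb D₄ (sp F f (j + 1) (j + 3))) (y : G) :
    y ∈ W ↔ ∃ s ∈ SUb D₄ (sp F f j (j + 3)), (y, s) ∈ Δ := by
  let K := (Δ ⊓ (SUb D₄ (sp F f j (j + 3))).comap (MonoidHom.snd _ _)).map (MonoidHom.fst _ _)
  have hK : ∀ y, y ∈ K ↔ ∃ s ∈ SUb D₄ (sp F f j (j + 3)), (y, s) ∈ Δ := fun y =>
    ⟨fun ⟨x, x1, x2⟩ => ⟨x.2, x1.2, x2 ▸ x1.1⟩, fun ⟨s, s1, s2⟩ => ⟨(y, s), ⟨s2, s1⟩, rfl⟩⟩
  obtain ⟨e1, e2⟩ := L.eq_lift hO hD p H A le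
  have k1 : U ⊔ U' ≤ K := sup_le (fun y hy => (hK y).2 ((e1 y hy).imp fun s hs =>
    ⟨SUb_mono (sp_mono f le_rfl (by omega)) (h1.le hs.1), hs.2⟩)) fun y hy => (hK y).2
      ((e2 y hy).imp fun s hs => ⟨SUb_mono (sp_mono f (by omega) le_rfl) (h2.le hs.1), hs.2⟩)
  have k2 : W ≤ K := by
    by_cases hq : 3 ≤ q
    · intro y hy
      obtain ⟨s, hs⟩ := (L.fst y).1 hy
      exact k1 (L.mem_sup hO hD H hs (hO.gen3 hD hq H (L.mem hs)))
    have hq : q = 2 := by have := h.two_le; omega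
    obtain rfl : p = 2 := by
      have := h.finite
      have := char_dvd_card (F := F) p
      rw [h.card, hq] at this
      exact (Nat.prime_dvd_prime_iff_eq Fact.out Nat.prime_two).1
        (Nat.Prime.dvd_of_dvd_pow Fact.out this)
    refine L.genW hO hD 2 H fun y hy ⟨n, hn⟩ => ?_
    obtain ⟨s, s1⟩ := A.fst y (le hy)
    obtain ⟨s, s2, s1⟩ := exists_unip A.ker A.nd s1 hn
    obtain ⟨t, t1⟩ := (L.fst y).1 hy
    refine (hK y).2 ⟨s, ⟨A.det s1, fun v hv => s2.apply_eq ?_⟩, s1⟩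
    have k : ∀ {X : Subgroup G} {m k}, m + 2 ≤ 4 → k < 3 →
        lift 2 Δ X = SUb D₄ (sp F f m (m + 2)) →
        (∀ g ∈ X, ∃ s, (g, s) ∈ Γ ∧ s.1 (e (i + k)) = e (i + k)) →
        D₄.B (f m) (s.1 v) = 0 ∧ D₄.B (f (m + 1)) (s.1 v) = 0 := fun {X m k} a1 a2 a3 a4 =>
      hf.perp_of_fix a1 fun r hr => D₄.mem_fix_span.1 (hf.gen_p2 A.nd 2 a1
        (D₄.fix (F ∙ s.1 v)) (fun r r1 r2 => D₄.mem_fix_span.2 fun _ e' => by
          obtain ⟨u, u1, u2⟩ := lift_ex (a3.ge r1)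
          obtain ⟨ρ, u3, u4⟩ := a4 u u1
          have u5 : ρ ^ 2 = 1 := L.inj hO H (by
            rw [← A.eq (y := u ^ 2) (r2 ▸ pow_mem u2 2) (one_mem Δ)]; exact pow_mem u3 2) a2
            (by rw [sq, isom_mul_apply, u4, u4])
          have b1 := pconj (pinv t1) u3
          obtain ⟨r', b2, b3⟩ := (hK _).1 (k1 (L.mem_sup hO hD H b1 (hO.invol_mem hD hq H
            (L.mem b1) (by rw [← sq, conj_pow, u5]; simp))))
          have b5 := pmul (pconj (pinv s1) u2) (pinv b3)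
          rw [mul_inv_cancel] at b5
          obtain ⟨z, hz⟩ := A.ker _ b5
          have b4 := hz v
          rw [isom_mul_apply, isom_inv_apply_eq.2 (b2.2 v hv), inv_inv, isom_mul_apply,
            isom_mul_apply, isom_inv_apply_eq, map_smul] at b4
          rw [e']
          exact Unip.apply_eq (p := 2) ⟨1, by rwa [pow_one]⟩ ⟨z, b4.symm⟩) hr) _ rfl
    have a1 := k (k := 2) (by omega) (by omega) h1 fun g hg => (L.left g).1 hg
    have a2 := k (k := 0) (m := j + 1) hj (by omega) h2 fun g hg => (L.right g).1 hg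
    by_cases c : v = 0
    · exact ⟨1, by simp [c]⟩
    have a3 := A.nd.finrank_perp (sp F f j (j + 3))
    rw [hf.finrank_eq hj, A.dim] at a3
    obtain ⟨c, hc⟩ := (finrank_eq_one_iff_of_nonzero' (K := F) (⟨v, hv⟩ : D₄.perp _)
      (by simpa)).1 (by omega) ⟨s.1 v, mem_perp_sp.2 fun m _ _ => by
        obtain rfl | rfl | rfl : m = j ∨ m = j + 1 ∨ m = j + 1 + 1 := by omega
        exacts [a1.1, a1.2, a2.2]⟩
    exact ⟨c, (congrArg Subtype.val hc).symm⟩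
  refine ⟨fun hy => (hK y).1 (k2 hy), fun ⟨s, s1, s2⟩ => ?_⟩
  have := (hf.card A.nd hj).1
  obtain ⟨⟨y', _⟩, y1, rfl⟩ := (eq_of_card (U := W) A.gr (B := SUb D₄ (sp F f j (j + 3)))
    (A := SUb D₄ (sp F f j (j + 3)) ⊓ (Δ ⊓ W.comap (MonoidHom.fst _ _)).map (MonoidHom.snd _ _))
    inf_le_left (by rw [(hf.card A.nd hj).2, L.cardW hO hD H hi]) fun y hy =>
      ((hK y).1 (k2 hy)).imp fun s hs => ⟨⟨hs.1, _, ⟨hs.2, hy⟩, rfl⟩, hs.2⟩).ge s1 |>.2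
  exact A.eq y1.1 s2 ▸ y1.2

variable (H : i + 4 ≤ N) (L : Loc Γ e i U U' W) (L' : Loc Γ' e (i + 1) U' U'' W') (hc : Cm U U'')
  (A : Amb Δ (W ⊔ W'))
include H L L' hc A

theorem exists_frame4 (S : Start e i Γ U'' Δ p) : ∃ f : ℕ → V₄, OnS D₄ f 4 ∧
    lift p Δ U = SUb D₄ (sp F f 0 2) ∧ lift p Δ U' = SUb D₄ (sp F f 1 3) ∧
      lift p Δ U'' = SUb D₄ (sp F f 2 4) := by
  obtain ⟨y, δ, κ, y1, κ0, d1, f, x, l, hf, x1, l1, x2, x3, x4, a2⟩ := S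
  have H3 : i + 3 ≤ N := by omega
  obtain ⟨e0, e1⟩ := L.eq_lift hO hD p H3 A le_sup_left
  obtain ⟨-, e2⟩ := L'.eq_lift hO hD p H A le_sup_right
  have c0 := hf.card A.nd (i := 0) (m := 2) (by omega)
  have c2 := hf.card A.nd (i := 2) (m := 2) (by omega)
  have := c0.1
  have := c2.1
  have a2 := eq_of_card A.gr a2 (by rw [c2.2, L'.cardR hO hD H]) e2
  have a0 : lift p Δ U = SUb D₄ (sp F f 0 2) := eq_of_card A.gr (lift_le fun s s1 u u1 u2 => by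
    obtain ⟨l, l1, l2⟩ := exists_norm_one h
    obtain ⟨d, d1, d2, d3⟩ := hf.exists_diag (i := 2) le_rfl l1
    obtain ⟨w, w1, w2⟩ := lift_ex (a2.ge d1)
    have := hf.fx_of_comm A.nd A.dim le_rfl d1 l2 d2 d3
      (comm_lift A.ker w2 (hc.symm w w1) (mem_lift s1 u1 u2))
    refine (hf.mem4 A.nd A.dim (by omega)).2 ⟨A.det u2, fun m _ _ => ?_⟩
    obtain rfl | rfl : m = 2 ∨ m = 3 := by omega
    exacts [s1.apply_eq this.1, s1.apply_eq this.2]) (by rw [c0.2, L.cardL hO hD H3]) e0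
  obtain ⟨w, t, w1, t1, t2, w2, w3⟩ := L.exists_swap hO hD H3
  obtain ⟨r, r1⟩ := A.fst w (Subgroup.mem_sup_left ((L.fst w).2 ⟨t, w1⟩))
  have hg := hf.map r
  have hm : ∀ s, s ∈ SUb D₄ (sp F (fun k => r.1 (f k)) 0 2) ↔ r⁻¹ * s * r⁻¹⁻¹ ∈ SUb D₄ (sp F f 0 2) :=
    fun s => by
      simp only [hg.mem4 A.nd A.dim (show 2 ≤ 4 by omega), hf.mem4 A.nd A.dim (show 2 ≤ 4 by omega),
        inv_inv, isom_mul_apply, isom_inv_apply_eq, eq_comm (a := s.1 _)]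
      simp
  have a1 : lift p Δ U' = SUb D₄ (sp F (fun k => r.1 (f k)) 0 2) := Subgroup.ext fun s => by
    rw [hm, ← a0]
    exact ⟨conj_mem_lift (pinv r1) fun u hu => (w2 _).2 (by simpa [mul_assoc] using hu), fun H => by
      simpa [mul_assoc] using conj_mem_lift r1 (fun u hu => (w2 u).1 hu) H⟩
  have b1 : ∀ v, (r * x * r⁻¹).1 v = v ↔ v ∈ sp F (fun k => r.1 (f k)) 2 4 := fun v =>
    hg.fix_diag A.nd A.dim (by omega) ((hm _).2 (by simpa [mul_assoc] using x2)) l1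
      (by simp [isom_mul_apply, x3]) (by simp [isom_mul_apply, x4])
  have p0 := hf.perp_eq A.nd A.dim (show 2 ≤ 4 by omega)
  have p2 := hf.perp_eq' A.nd A.dim (show 2 ≤ 4 by omega)
  have p1 := hg.perp_eq A.nd A.dim (show 2 ≤ 4 by omega)
  have b2 : ∀ {y' δ' x'} {κ : F}, (y', δ') ∈ Γ → (y', x') ∈ Δ → κ ≠ 0 →
      δ'.1 (e (i + 2)) = κ • e (i + 2) → ∀ v ∈ sp F f 2 4, x'⁻¹.1 v ∈ sp F f 2 4 :=
    fun {y' δ' x' κ} h1 h2 h3 h4 v hv => by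
      have := hf.perp_of_fix (i := 0) (by omega) (v := x'⁻¹.1 v) fun s hs => by
        have := (a0.le (conj_mem_lift h2 (fun u => L.normL h1 h3 h4) (a0.ge hs))).2 v (p0.ge hv)
        rw [isom_mul_apply, isom_mul_apply] at this
        exact (isom_inv_apply_eq.2 this).symm
      refine p0.le (mem_perp_sp.2 fun k _ _ => ?_)
      obtain rfl | rfl : k = 0 ∨ k = 1 := by omega
      exacts [this.1, this.2]
  have b3 : (t * δ * t⁻¹).1 (e (i + 2)) = κ • e (i + 2) := by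
    rw [isom_mul_apply, isom_mul_apply, isom_inv_apply_eq.2 t1, d1, map_smul, t1]
  have b4 := b2 (pconj w1 y1) (pconj r1 x1) κ0 b3
  have b5 := b2 (pinv (pconj w1 y1)) (pinv (pconj r1 x1)) (inv_ne_zero κ0)
    (isom_inv_apply_eq.2 (by rw [map_smul, b3, inv_smul_smul₀ κ0]))
  rw [inv_inv] at b5
  generalize r * x * r⁻¹ = z at b1 b4 b5
  generalize (fun k => r.1 (f k)) = g at hg a1 b1 p1
  have b6 : ∀ v ∈ sp F g 2 4, ∃ v0 ∈ sp F g 2 4 ⊓ sp F f 0 2, ∃ v2 ∈ sp F g 2 4 ⊓ sp F f 2 4,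
      v0 + v2 = v := fun v hv => by
    obtain ⟨⟨v2, a1⟩, ⟨v0, a2⟩, rfl⟩ := (A.nd.isOrthCompl (hf.nd (i := 2) le_rfl)).exists_add v
    have a3 := (b1 _).2 hv
    rw [map_add, ← sub_eq_sub_iff_add_eq_add, ← sub_eq_zero] at a3
    have a4 := Submodule.disjoint_def.1 (hf.nd (i := 2) le_rfl) _ (sub_mem (b5 _ a1) a1)
      (by rw [show z.1 v2 - v2 = v0 - z.1 v0 by rw [← sub_eq_zero, ← a3]; abel]
          exact sub_mem a2 (isom_mem_perp z b4 a2))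
    have a5 := (b1 _).1 (sub_eq_zero.1 a4)
    exact ⟨v0, ⟨by simpa using sub_mem hv a5, p2.le a2⟩, v2, ⟨a5, a1⟩, add_comm _ _⟩
  have b7 : ∀ {P P' : Submodule F V₄} {X : Subgroup G}, D₄.perp P = P' → lift p Δ X = SUb D₄ P →
      (∀ y ∈ X, ∃ s ∈ lift p Δ X, (y, s) ∈ Δ) → (∃ y ∈ X, y ≠ 1) → (∀ y ∈ X, y ∈ U' → y = 1) →
      (∀ v ∈ sp F g 2 4, ∃ v0 ∈ sp F g 2 4 ⊓ P, ∃ v2 ∈ sp F g 2 4 ⊓ P', v0 + v2 = v) →
      ∃ a ∈ sp F g 2 4 ⊓ P, D₄.Q a = 1 := fun {P P' X} h1 h2 h3 ⟨y, y1, y2⟩ h5 h6 => by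
    obtain ⟨v, v1, v2⟩ : ∃ v ∈ sp F g 2 4 ⊓ P, v ≠ 0 := by
      by_contra c; push Not at c
      obtain ⟨s, s1, s2⟩ := h3 y y1
      obtain ⟨y', z1, z2⟩ := lift_ex (a1.ge ⟨(h2.le s1).1, fun v hv => (h2.le s1).2 v (by
        obtain ⟨v0, a1, v2, a2, rfl⟩ := h6 v (p1.le hv)
        rw [c v0 a1, zero_add, h1]; exact a2.2)⟩)
      exact y2 (h5 y y1 (A.eq z2 s2 ▸ z1))
    obtain ⟨u, hu⟩ := (D₄.nondeg_restrict_iff.2 (hg.nd (i := 2) le_rfl)).exists_ne_zero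
      (x := ⟨v, v1.1⟩) (by simpa)
    obtain ⟨v0, a1, v2, a2, a3⟩ := h6 u u.2
    rw [restrict_B, ← a3, D₄.B_add_right, (h1.ge a2.2) v v1.2, add_zero] at hu
    exact exists_unit_of v1 a1 hu
  obtain ⟨a, a3, a4⟩ := b7 p0 a0 e0 (L.ne_bot hO hD H3).1
    (fun y y1 y2 => L'.cent' hO hD H y2 (hc y y1)) b6
  obtain ⟨b, a5, a6⟩ := b7 p2 a2 e2 (L'.ne_bot hO hD H).2
    (fun y y1 y2 => L.cent hO hD H3 y2 (hc.symm y y1)) fun v hv => by
      obtain ⟨v0, a1, v2, a2, a3⟩ := b6 v hv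
      exact ⟨v2, a2, v0, a1, add_comm v0 v2 ▸ a3⟩
  obtain ⟨r0, s1, s2⟩ := trans0 A.nd (hf.nd (i := 0) (j := 2) (by omega))
    (by rw [hf.finrank_eq (by omega)]) (mem_sp f (k := 0) le_rfl (by omega)) a3.2
    (hf.unit _ (by omega)) a4
  obtain ⟨r2, s3, s4⟩ := trans0 A.nd (hf.nd (i := 2) (j := 4) (by omega))
    (by rw [hf.finrank_eq (by omega)]) (mem_sp f (k := 3) (by omega) (by omega)) a5.2
    (hf.unit _ (by omega)) a6
  have hk := hf.map (r0 * r2)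
  have s5 : ∀ v ∈ sp F f 0 2, r2.1 v = v := fun v hv => s3.2 v (p2.ge hv)
  have s6 : ∀ v ∈ sp F f 2 4, r0.1 v = v := fun v hv => s1.2 v (p0.ge hv)
  refine ⟨_, hk, ?_, ?_, ?_⟩
  · rw [a0, Submodule.eq_of_le_of_finrank_eq (sp_le (P := sp F f 0 2)
      (e := fun k => (r0 * r2).1 (f k)) fun k k1 k2 => by
      rw [isom_mul_apply, s5 _ (mem_sp f k1 k2)]; exact SUb_maps A.nd s1 (mem_sp f k1 k2))
      (by rw [hk.finrank_eq (by omega), hf.finrank_eq (by omega)])]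
  · have s7 := nd_pair a4 a6 ((p0.ge a5.2) a a3.2)
    have s8 : Submodule.span F {a, b} = sp F g 2 4 := Submodule.eq_of_le_of_finrank_eq
      (Submodule.span_le.2 (by rintro _ (rfl | rfl); exacts [a3.1, a5.1]))
      (by rw [s7.2, hg.finrank_eq le_rfl])
    have s9 : (r0 * r2).1 (f 0) = a := by
      rw [isom_mul_apply, s5 _ (mem_sp f le_rfl (by omega)), s2]
    have s10 : (r0 * r2).1 (f 3) = b := by rw [isom_mul_apply, s4, s6 _ a5.2]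
    refine a1.trans (Subgroup.ext fun s => ?_)
    rw [hk.mem4 A.nd A.dim (by omega), mem_SUb, p1, ← s8]
    refine and_congr_right fun _ => D₄.mem_fix_span.trans ⟨fun H m _ _ => ?_, fun H => ?_⟩
    · obtain rfl | rfl : m = 0 ∨ m = 3 := by omega
      exacts [s9 ▸ H _ (Or.inl rfl), s10 ▸ H _ (Or.inr rfl)]
    · rintro _ (rfl | rfl)
      exacts [s9 ▸ H 0 (by omega) (by omega), s10 ▸ H 3 (by omega) (by omega)]
  · rw [a2, Submodule.eq_of_le_of_finrank_eq (sp_le (P := sp F f 2 4)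
      (e := fun k => (r0 * r2).1 (f k)) fun k k1 k2 => by
      have := SUb_maps A.nd s3 (mem_sp f k1 k2)
      rwa [isom_mul_apply, s6 _ this])
      (by rw [hk.finrank_eq (by omega), hf.finrank_eq (by omega)])]

end Cfsg.Lib.Phan
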