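import Cfsg.Agent.Lib.Phan.Four

/-!
The rank three step of Phan's theorem for `q ≤ 3`: gluing.
-/

set_option maxHeartbeats 400000

namespace Cfsg.Lib.Phan

open Module Cfsg.Lib.Forms Cfsg.Lib.Forms.Form Matrix CAut

universe u v
variable {F : Type*} [Field F] {σ : F →+* F} {q : ℕ} {h : IsConj σ q}
  {V : Type u} [AddCommGroup V] [Module F V] {D : Form h.kind V} {e : ℕ → V} {N : ℕ}
  {G : Type*} [Group G] {i : ℕ} {Γ Γ' Δ : Subgroup (G × D.isom)} {U U' U'' W W' : Subgroup G}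
  {V₄ : Type v} [AddCommGroup V₄] [Module F V₄] {D₄ : Form h.kind V₄}

/-- a framed quotient of `SU₄` -/
structure Fr (Δ : Subgroup (G × D.isom)) (e : ℕ → V) (i : ℕ) (U U' U'' W W' : Subgroup G) :
    Prop where
  gr : Gr (MonoidHom.snd _ _) Δ (SUb D (sp F e i (i + 4)))
  ker : ∀ s, (1, s) ∈ Δ → ∃ z : F, ∀ k < 4, s.1 (e (i + k)) = z • e (i + k)
  u0 : ∀ g, g ∈ U ↔ ∃ s, (g, s) ∈ Δ ∧ s.1 (e (i + 3)) = e (i + 3) ∧ s.1 (e (i + 2)) = e (i + 2)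
  u1 : ∀ g, g ∈ U' ↔ ∃ s, (g, s) ∈ Δ ∧ s.1 (e (i + 3)) = e (i + 3) ∧ s.1 (e i) = e i
  u2 : ∀ g, g ∈ U'' ↔ ∃ s, (g, s) ∈ Δ ∧ s.1 (e i) = e i ∧ s.1 (e (i + 1)) = e (i + 1)
  w0 : ∀ g, g ∈ W ↔ ∃ s, (g, s) ∈ Δ ∧ s.1 (e (i + 3)) = e (i + 3)
  w1 : ∀ g, g ∈ W' ↔ ∃ s, (g, s) ∈ Δ ∧ s.1 (e i) = e i

theorem Fr.of_rel {Δ₄ : Subgroup (G × D₄.isom)} {f : ℕ → V₄} {j : ℕ}
    (A : Fr Δ₄ f j U U' U'' W W') (g : Gr (MonoidHom.snd _ _) Δ (SUb D (sp F e i (i + 4))))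
    {R : D₄.isom → D.isom → Prop} (τ : F → F)
    (r1 : ∀ s s', R s s' → ∀ k < 4, (s.1 (f (j + k)) = f (j + k) ↔ s'.1 (e (i + k)) = e (i + k)) ∧
      ∀ z, s.1 (f (j + k)) = z • f (j + k) → s'.1 (e (i + k)) = τ z • e (i + k))
    (h1 : ∀ y s, (y, s) ∈ Δ₄ → ∃ s', (y, s') ∈ Δ ∧ R s s')
    (h2 : ∀ y s', (y, s') ∈ Δ → ∃ s, (y, s) ∈ Δ₄ ∧ R s s') : Fr Δ e i U U' U'' W W' := by
  have k : ∀ {y} {k l}, k < 4 → l < 4 → ((∃ s, (y, s) ∈ Δ₄ ∧ s.1 (f (j + k)) = f (j + k) ∧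
      s.1 (f (j + l)) = f (j + l)) ↔ ∃ s, (y, s) ∈ Δ ∧ s.1 (e (i + k)) = e (i + k) ∧
      s.1 (e (i + l)) = e (i + l)) := fun hk hl =>
    ⟨fun ⟨s, s1, s2, s3⟩ => (h1 _ s s1).imp fun s' H =>
      ⟨H.1, (r1 _ _ H.2 _ hk).1.1 s2, (r1 _ _ H.2 _ hl).1.1 s3⟩,
    fun ⟨s, s1, s2, s3⟩ => (h2 _ s s1).imp fun s' H =>
      ⟨H.1, (r1 _ _ H.2 _ hk).1.2 s2, (r1 _ _ H.2 _ hl).1.2 s3⟩⟩
  refine ⟨g, fun s hs => ?_, fun y => (A.u0 y).trans (k (by omega) (by omega)),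
    fun y => (A.u1 y).trans (k (l := 0) (by omega) (by omega)),
    fun y => (A.u2 y).trans (k (k := 0) (by omega) (by omega)),
    fun y => (A.w0 y).trans (by simpa using k (k := 3) (l := 3) (by omega) (by omega)),
    fun y => (A.w1 y).trans (by simpa using k (k := 0) (l := 0) (by omega) (by omega))⟩
  obtain ⟨s', s1, s2⟩ := h2 _ _ hs
  obtain ⟨z, hz⟩ := A.ker _ s1
  exact ⟨τ z, fun k hk => (r1 _ _ s2 k hk).2 z (hz k hk)⟩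

theorem smul_iff (hO : OnS D e N) {m : ℕ} (H : i + m ≤ N) {s : D.isom}
    {x : SU m F q} (hj : ∀ k : Fin m, s.1 (e (i + k)) = ∑ l : Fin m, x.1 l k • e (i + l))
    (k : Fin m) (z : F) : s.1 (e (i + k)) = z • e (i + k) ↔
      ∀ l, x.1 l k = (Pi.single k z : Fin m → F) l := by
  rw [hj]
  refine ⟨fun H' l => ?_, fun H' => by simp [H', Pi.single_apply]⟩
  have := (hO.onFin H).B_sum (fun l => x.1 l k) l
  rw [H', D.B_smul_right, (hO.onFin H).B_eq] at this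
  simpa [Pi.single_apply] using this.symm

variable [FiniteDimensional F V] (hO : OnS D e N) (hD : D.Nondeg)
include hO hD

theorem Fr.transfer [FiniteDimensional F V₄] {Δ₄ : Subgroup (G × D₄.isom)} {f : ℕ → V₄}
    (hf : OnS D₄ f 4) (hD₄ : D₄.Nondeg) (A : Fr Δ₄ f 0 U U' U'' W W') (H : i + 4 ≤ N) :
    ∃ Δ : Subgroup (G × D.isom), Fr Δ e i U U' U'' W W' := by
  obtain ⟨j, hj⟩ := hf.exists_equiv hD₄ (i := 0) (m := 4) le_rfl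
  obtain ⟨j', hj'⟩ := hO.exists_equiv hD H
  let Δ := (Δ₄.comap ((MonoidHom.id G).prodMap ((Subgroup.subtype _).comp j.toMonoidHom))).map
    ((MonoidHom.id G).prodMap ((Subgroup.subtype _).comp j'.toMonoidHom))
  have hm : ∀ y s, (y, s) ∈ Δ ↔ ∃ x, (y, (j x).1) ∈ Δ₄ ∧ (j' x).1 = s := fun y s =>
    ⟨fun ⟨x, x1, x2⟩ => ⟨x.2, by rw [← show x.1 = y from (Prod.ext_iff.1 x2).1]; exact x1, congrArg Prod.snd x2⟩,
      fun ⟨x, x1, x2⟩ => ⟨(y, x), x1, Prod.ext rfl x2⟩⟩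
  refine ⟨Δ, A.of_rel ⟨fun ⟨y, s⟩ hx => ?_, fun s hs => ?_, fun ⟨y, s⟩ hx e' => ?_⟩
    (R := fun s s' => ∃ x, (j x).1 = s ∧ (j' x).1 = s') id ?_ (fun y s hs => ?_) fun y s hs => ?_⟩
  · obtain ⟨x, -, rfl⟩ := (hm _ _).1 hx
    exact (j' x).2
  · obtain ⟨⟨y, r⟩, y1, y2⟩ := A.gr.ex _ (j (j'.symm ⟨s, hs⟩)).2
    exact ⟨(y, s), (hm _ _).2 ⟨_, (show r = _ from y2) ▸ y1, by simp⟩, rfl⟩
  · obtain ⟨x, x1, rfl⟩ := (hm _ _).1 hx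
    obtain rfl : x = 1 := j'.injective (Subtype.ext (by simpa using e'))
    exact Prod.ext (Prod.ext_iff.1 (A.gr.inj _ x1 (by simp))).1 e'
  · rintro _ _ ⟨x, rfl, rfl⟩ k hk
    have k1 := fun z => (smul_iff hf le_rfl (hj x) ⟨k, hk⟩ z).trans
      (smul_iff hO H (hj' x) ⟨k, hk⟩ z).symm
    exact ⟨by simpa using k1 1, fun z => (k1 z).1⟩
  · obtain ⟨x, hx⟩ := j.surjective ⟨s, A.gr.mem _ hs⟩
    obtain rfl : (j x).1 = s := congrArg Subtype.val hx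
    exact ⟨_, (hm _ _).2 ⟨x, hs, rfl⟩, x, rfl, rfl⟩
  · obtain ⟨x, x1, rfl⟩ := (hm _ _).1 hs
    exact ⟨_, x1, x, rfl, rfl⟩

omit hO in
theorem Fr.twist (h3 : 3 ≤ finrank F V) (H : i + 4 ≤ N) (A : Fr Δ e i U U' U'' W W') {t : Gam D}
    (ht : Dg e N t) :
    ∃ Δ', Fr Δ' e i U U' U'' W W' ∧ ∀ y s, (y, s) ∈ Δ' ↔ (y, cjI t s) ∈ Δ := by
  refine ⟨Δ.comap ((MonoidHom.id G).prodMap (cjI t).toMonoidHom), A.of_rel
    ⟨fun x hx => (ht.mem hD h3 H).1 (A.gr.mem _ hx), fun s hs => ?_, fun x hx e => ?_⟩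
    (R := fun s s' => s = cjI t s') (t⁻¹).1.s ?_ (fun y s hs => ?_)
    fun y s hs => ⟨_, hs, rfl⟩, fun _ _ => Iff.rfl⟩
  · obtain ⟨x, x1, x2⟩ := A.gr.ex _ ((ht.mem hD h3 H).2 hs)
    exact ⟨(x.1, s), show (x.1, cjI t s) ∈ Δ by rw [← x2]; exact x1, rfl⟩
  · have e' : x.2 = 1 := e
    exact Prod.ext (Prod.ext_iff.1 (A.gr.inj (x.1, cjI t x.2) hx (by simp [e']))).1 e'
  · rintro _ s rfl k hk
    exact ⟨ht.fix (by omega), fun z hz => by simpa using ht.inv.smul (by omega) hz⟩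
  · obtain ⟨s, rfl⟩ := (cjI t).surjective s
    exact ⟨s, hs, rfl⟩

omit hD [FiniteDimensional F V] in
theorem Fr.locL (H : i + 4 ≤ N) (A : Fr Δ e i U U' U'' W W') :
    Loc (Δ ⊓ (SUb D (sp F e i (i + 3))).comap (MonoidHom.snd _ _)) e i U U' W := by
  have k : ∀ y s, (y, s) ∈ Δ ⊓ (SUb D (sp F e i (i + 3))).comap (MonoidHom.snd _ _) ↔
      (y, s) ∈ Δ ∧ s.1 (e (i + 3)) = e (i + 3) := fun y s => and_congr_right fun hs =>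
    (hO.mem_last (by omega) H s).trans (and_iff_right (A.gr.mem _ hs))
  exact ⟨A.gr.inf (SUb_mono (sp_mono e le_rfl (by omega))),
    fun s hs => (A.ker s hs.1).imp fun z hz k hk => hz k (by omega), fun y => by simp only [k, A.w0],
    fun y => by simp only [k, A.u0, and_assoc], fun y => by simp only [k, A.u1, and_assoc]⟩

omit hD [FiniteDimensional F V] in
theorem Fr.locR (H : i + 4 ≤ N) (A : Fr Δ e i U U' U'' W W') :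
    Loc (Δ ⊓ (SUb D (sp F e (i + 1) (i + 1 + 3))).comap (MonoidHom.snd _ _)) e (i + 1) U' U'' W' := by
  have k : ∀ y s, (y, s) ∈ Δ ⊓ (SUb D (sp F e (i + 1) (i + 1 + 3))).comap (MonoidHom.snd _ _) ↔
      (y, s) ∈ Δ ∧ s.1 (e i) = e i := fun y s => and_congr_right fun hs =>
    (hO.mem_first (by omega) H s).trans (and_iff_right (A.gr.mem _ hs))
  exact ⟨A.gr.inf (SUb_mono (sp_mono e (by omega) le_rfl)),
    fun s hs => (A.ker s hs.1).imp fun z hz k hk => by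
      rw [add_assoc]; exact hz _ (by omega), fun y => by simp only [k, A.w1],
    fun y => by simp only [k, A.u1, and_assoc, and_comm (a := _ = e i)],
    fun y => by simp only [k, A.u2, and_assoc]⟩

variable (p : ℕ) [Fact p.Prime] [CharP F p]
include p

theorem Fr.upgrade (h3 : 3 ≤ finrank F V) (H : i + 4 ≤ N) {j : ℕ} (hj : j + 3 ≤ N)
    {X X' Y : Subgroup G} (L : Loc Γ e j X X' Y)
    (hL : ∀ Δ, Fr Δ e i U U' U'' W W' →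
      Loc (Δ ⊓ (SUb D (sp F e j (j + 3))).comap (MonoidHom.snd _ _)) e j X X' Y)
    (A : Fr Δ e i U U' U'' W W')
    (h1 : ∀ y s, s ∈ SUb D (sp F e j (j + 2)) → (y, s) ∈ Γ → (y, s) ∈ Δ) :
    ∃ Δ', Fr Δ' e i U U' U'' W W' ∧ Γ ≤ Δ' ∧
      ∀ y s, s.1 (e (j + 2)) = e (j + 2) → (y, s) ∈ Δ → (y, s) ∈ Δ' := by
  obtain ⟨r, ⟨ν, r1, r2⟩, r3, r4⟩ := L.uniq2 hO hD p hj (hL Δ A) fun y s s1 s2 =>
    ⟨h1 y s s1 s2, L.mem s2⟩
  obtain ⟨Δ', A', hm⟩ := A.twist hD h3 H (t := ⟨_, lin_mem_Gam r⟩) fun k hk => by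
    by_cases c : k = j + 2
    · exact ⟨ν, r1, c ▸ r2⟩
    · exact ⟨1, one_ne_zero, (r3 _ (hO.orth _ (by omega) _ hk (Ne.symm c))).trans (one_smul _ _).symm⟩
  simp only [cjI_lin] at hm
  have k : ∀ y s, s.1 (e (j + 2)) = e (j + 2) → (y, s) ∈ Δ → (y, s) ∈ Δ' := fun y s s1 s2 => by
    rwa [hm, comm_of_refl (hO.unit _ (by omega)) r2 r3 s1]
  exact ⟨Δ', A', (L.uniq3 hO hD hj (hL Δ' A') (fun y s s1 s2 => ⟨k y s ((hO.mem_last (by omega) hj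
    s).1 s1).2 (h1 y s s1 s2), L.mem s2⟩) fun y s s1 s2 =>
      ⟨(hm _ _).2 (r4 y s s1 s2).1, L.mem s2⟩).trans inf_le_left, k⟩

omit p in
theorem four_of_hom (hq : q ≤ 3) (hF : Fld D e N) (h3 : 3 ≤ finrank F V) (H : i + 4 ≤ N)
    (L : Loc Γ e i U U' W) (L' : Loc Γ' e (i + 1) U' U'' W') (hc : Cm U U'')
    (hA : ∀ y s, s ∈ SUb D (sp F e (i + 1) (i + 3)) → (y, s) ∈ Γ' → (y, s) ∈ Γ)
    (g : SU 4 F q →* ↥(W ⊔ W')) (hg : Function.Surjective g) :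
    Gr (MonoidHom.snd _ _) (Γ ⊔ Γ') (SUb D (sp F e i (i + 4))) := by
  have H3 : i + 3 ≤ N := by omega
  have := h.finite
  obtain ⟨p, k, hp, hc', hk, e2⟩ := exists_prime_pow_of_card_eq_sq h.card
  have := Fact.mk hp
  have hD₄ := stdHerm_nondeg h (Fin 4)
  let g' := ((W ⊔ W').subtype.comp g).comp (suEquiv h 4).symm.toMonoidHom
  have hm : ∀ y s, (y, s) ∈ (g'.prod (Subgroup.subtype _)).range ↔ ∃ x, g' x = y ∧ x.1 = s :=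
    fun y s => by simp [Prod.ext_iff]
  have A : Amb (g'.prod (Subgroup.subtype _)).range (W ⊔ W') := by
    refine ⟨hD₄, by simp, ⟨?_, fun s hs => ⟨_, ⟨⟨s, hs⟩, rfl⟩, rfl⟩, ?_⟩, fun s hs => ?_,
      fun y hy => ?_⟩
    · rintro _ ⟨x, rfl⟩; exact x.2
    · rintro _ ⟨x, rfl⟩ e
      rw [show x = 1 from Subtype.ext e, map_one]
    · obtain ⟨x, x1, rfl⟩ := (hm _ _).1 hs
      obtain ⟨a, b, hab⟩ := Herm.exists_isHyp hD₄ (by simp)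
      refine (hab.mem_center_iff hD₄ (Herm.rich _ 3) (G := (stdHerm h _).det.ker)
        (fun _ _ _ h => det_eich _ _ _ h) x).1 (((Herm.normal_and_simple hD₄ (by simp)
          (by simp)).1 g'.ker inferInstance).resolve_right (fun e => ?_) x1)
      obtain ⟨y, y1, y2⟩ := (L.ne_bot hO hD H3).1
      obtain ⟨x, hx⟩ := hg ⟨y, Subgroup.mem_sup_left (L.leL y1)⟩
      exact y2 (by simpa [g', hx] using e.ge (Subgroup.mem_top (suEquiv h 4 x)))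
    · obtain ⟨x, hx⟩ := hg ⟨y, hy⟩
      exact ⟨_, (hm _ _).2 ⟨suEquiv h 4 x, by simp [g', hx], rfl⟩⟩
  generalize (g'.prod (Subgroup.subtype _)).range = Δ₄ at A
  obtain ⟨f, hf, a0, a1, a2⟩ := exists_frame4 hO hD p H L L' hc A (by
    obtain hq | hq : q = 2 ∨ q = 3 := by have := h.two_le; omega
    exacts [start_two hO hD p H L L' hc A hq, start_three hO hD p H L L' hc A hq])
  obtain ⟨e0, e1⟩ := L.eq_lift hO hD p H3 A le_sup_left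
  obtain ⟨-, e2⟩ := L'.eq_lift hO hD p H A le_sup_right
  have k : ∀ {X : Subgroup G} {a b : ℕ} {P : (stdHerm h (Fin 4)).isom → Prop}, b ≤ 4 →
      (∀ y, y ∈ X ↔ ∃ s ∈ SUb _ (sp F f a b), (y, s) ∈ Δ₄) →
      (∀ s, (∀ m < 4, (m < a ∨ b ≤ m) → s.1 (f m) = f m) ↔ P s) →
      ∀ y, y ∈ X ↔ ∃ s, (y, s) ∈ Δ₄ ∧ P s := fun h1 h2 h3 y => (h2 y).trans (exists_congr fun s => by
    rw [hf.mem4 hD₄ A.dim h1, h3]
    exact ⟨fun H => ⟨H.2, H.1.2⟩, fun H => ⟨⟨A.det H.1, H.2⟩, H.1⟩⟩)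
  have k2 : ∀ {X : Subgroup G} {B}, lift p Δ₄ X = B → (∀ y ∈ X, ∃ s ∈ lift p Δ₄ X, (y, s) ∈ Δ₄) →
      ∀ y, y ∈ X ↔ ∃ s ∈ B, (y, s) ∈ Δ₄ := fun h1 h2 y => ⟨h1 ▸ h2 y, fun ⟨s, s1, s2⟩ =>
    (lift_ex (h1.ge s1)).elim fun y' H => A.eq H.2 s2 ▸ H.1⟩
  have f4 : ∀ P : ℕ → Prop, (∀ m < 4, P m) ↔ P 0 ∧ P 1 ∧ P 2 ∧ P 3 := fun P => by
    simp only [Nat.forall_lt_succ_right, Nat.not_lt_zero, false_imp_iff, implies_true, true_and,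
      and_assoc]
  obtain ⟨Δ, B⟩ := Fr.transfer hO hD hf hD₄ (U := U) (U' := U') (U'' := U'') (W := W) (W' := W')
    (Δ₄ := Δ₄) ⟨by
      rw [hf.sp_top hD₄ A.dim, show SUb _ ⊤ = (stdHerm h (Fin 4)).det.ker from
        Subgroup.ext fun _ => mem_SUb_top hD₄]
      exact A.gr, fun s hs => (A.ker s hs).imp fun z hz k _ => hz _,
    k (by omega) (k2 a0 e0) fun s => by rw [f4]; simp [and_comm],
    k (by omega) (k2 a1 e1) fun s => by rw [f4]; simp [and_comm],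
    k (by omega) (k2 a2 e2) fun s => by rw [f4]; simp [and_comm],
    k (by omega) (L.lift_top hO hD p H3 (fun y y1 y2 => L'.cent' hO hD H y2 (hc y y1)) A le_sup_left
      hf (j := 0) (by omega) a0 a1) fun s => by rw [f4]; simp,
    k (by omega) (L'.lift_top hO hD p H (fun y y1 y2 => L.cent hO hD H3 y1 (hc.symm y y2)) A
      le_sup_right hf (j := 1) (by omega) a1 a2) fun s => by rw [f4]; simp⟩ H
  obtain ⟨t, t1, t2⟩ := L.uniq1 hO hD p hF h3 H3 (B.locL hO H)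
  obtain ⟨Δ1, B1, b1⟩ := B.twist hD h3 H t1
  obtain ⟨Δ2, B2, b2, -⟩ := B1.upgrade hO hD p h3 H H3 L (fun _ A => A.locL hO H)
    fun y s s1 s2 => (b1 _ _).2 (t2 y s s1 s2).1
  obtain ⟨Δ3, B3, b3, b4⟩ := B2.upgrade hO hD p h3 H H L' (fun _ A => A.locR hO H)
    fun y s s1 s2 => b2 (hA y s s1 s2)
  have le : Γ ⊔ Γ' ≤ Δ3 := sup_le (fun ⟨y, s⟩ hs => b4 y s
    ((hO.mem_last (by omega) H s).1 (L.mem hs)).2 (b2 hs)) b3
  exact ⟨fun x hx => B3.gr.mem x (le hx), fun s hs => (sup_le (fun s hs => by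
      obtain ⟨x, x1, x2⟩ := L.gr.ex s hs
      exact ⟨x, Subgroup.mem_sup_left x1, x2⟩) (fun s hs => by
      obtain ⟨x, x1, x2⟩ := L'.gr.ex s hs
      exact ⟨x, Subgroup.mem_sup_right x1, x2⟩) : _ ≤ (Γ ⊔ Γ').map (MonoidHom.snd _ _))
    (hO.gen4 hD H hs), fun x hx => B3.gr.inj x (le hx)⟩

omit p hO in
theorem Sys.four' (hq : q ≤ 3) (hF : Fld D e N) (h3 : 3 ≤ finrank F V) {U W : ℕ → Subgroup G}
    {Λ Γ : ℕ → Subgroup (G × D.isom)} (S : Sys (MonoidHom.snd _ _) e N Λ Γ)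
    (hL : ∀ i, i + 3 ≤ N → Loc (Γ i) e i (U i) (U (i + 1)) (W i)) (H : i + 4 ≤ N)
    (hc : Cm (U i) (U (i + 2))) (g : SU 4 F q →* ↥(W i ⊔ W (i + 1))) (hg : Function.Surjective g) :
    Gr (MonoidHom.snd _ _) (Γ i ⊔ Γ (i + 1)) (SUb D (sp F e i (i + 4))) :=
  four_of_hom S.hO hD hq hF h3 H (hL i (by omega)) (hL (i + 1) H) hc (fun _ _ s1 s2 =>
    S.le2 i (by omega) ((S.hΓ (i + 1) H).mem_of_le (S.hΛ (i + 1) (by omega)) (S.le1 (i + 1) H)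
      s2 s1)) g hg

end Cfsg.Lib.Phan
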