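import Cfsg.Agent.Lib.Forms.Herm

/-!
Unit vectors of a unitary space: existence lemmas, and simple connectivity of the
orthogonality graph in the form needed for Phan's theorems.
-/

namespace Cfsg.Lib.Phan

open Module Cfsg.Lib.Forms Cfsg.Lib.Forms.Form

universe u
variable {F : Type*} [Field F] {σ : F →+* F} {q : ℕ} {h : IsConj σ q}
  {V : Type u} [AddCommGroup V] [Module F V] {D : Form h.kind V}

theorem B_self (x : V) : D.B x x = D.Q x := (herm_Q D x).symm

theorem B_symm (x y : V) : D.B y x = σ (D.B x y) := (herm_symm D x y).symm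

theorem Q_add' (x y : V) : D.Q (x + y) = D.Q x + D.Q y + (D.B x y + σ (D.B x y)) := D.Q_add x y

theorem Q_sub' (x y : V) : D.Q (x - y) = D.Q x + D.Q y - (D.B x y + σ (D.B x y)) := D.Q_sub x y

variable (D) in
/-- norm of the inner product -/
def nb (x y : V) : F := D.B x y * σ (D.B x y)

theorem nb_comm (x y : V) : nb D x y = nb D y x := by
  rw [nb, nb, B_symm x y, h.σσ, mul_comm]

theorem nb_of_zero {x y : V} (H : D.B x y = 0) : nb D x y = 0 := by simp [nb, H]

theorem nb_ne_one {x y : V} (H : D.B x y = 0) : nb D x y ≠ 1 := by simp [nb, H]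

theorem σ_nb (x y : V) : σ (nb D x y) = nb D x y := by simp [nb, h.σσ, mul_comm]

theorem B_gs {u : V} (hu : D.Q u = 1) (x : V) : D.B u (x - D.B u x • u) = 0 := by
  simp [D.B_lin, B_self, hu]

theorem Q_gs {u : V} (hu : D.Q u = 1) (x : V) : D.Q (x - D.B u x • u) = D.Q x - nb D u x := by
  rw [Q_sub', D.Q_smul, D.B_smul_right, hu, B_symm u x, nb]
  simp [h.σσ]; ring

theorem exists_unit_smul {x : V} (hx : D.Q x ≠ 0) : ∃ t : F, t ≠ 0 ∧ D.Q (t • x) = 1 := by
  obtain ⟨t, ht⟩ := Herm.exists_smul_Q_eq hx (c := 1) (map_one σ)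
  exact ⟨t, by rintro rfl; simp at ht, ht⟩

theorem B_eq_zero_of_iso {P : Submodule F V} (H : ∀ x ∈ P, D.Q x = 0) {x y : V} (hx : x ∈ P)
    (hy : y ∈ P) : D.B x y = 0 := by
  by_contra h0
  obtain ⟨b, hb⟩ := h.exists_trace_eq (a := 1) (map_one σ)
  have h1 := H _ (P.add_mem hx (P.smul_mem (b / D.B x y) hy))
  rw [Q_add', H x hx, H _ (P.smul_mem _ hy), D.B_smul_right, div_mul_cancel₀ _ h0, hb] at h1
  simp at h1

theorem exists_unit_of {P : Submodule F V} {x y : V} (hx : x ∈ P) (hy : y ∈ P) (H : D.B x y ≠ 0) :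
    ∃ z ∈ P, D.Q z = 1 := by
  by_contra h0
  refine H (B_eq_zero_of_iso (fun z hz => ?_) hx hy)
  by_contra h1
  obtain ⟨t, -, ht⟩ := exists_unit_smul h1
  exact h0 ⟨_, P.smul_mem t hz, ht⟩

theorem exists_unit_add {r y : V} (hr : D.Q r = 0) (H : D.B r y ≠ 0) :
    ∃ c : F, D.Q (y + c • r) = 1 := by
  obtain ⟨b, hb⟩ := h.exists_trace_eq (a := 1 - D.Q y) (by rw [map_sub, map_one, herm_σ_Q])
  have h0 := D.ne_zero_symm H
  refine ⟨b / D.B y r, ?_⟩
  rw [Q_add', D.Q_smul, hr, D.B_smul_right, div_mul_cancel₀ _ h0, hb]; ring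

variable (D) in
/-- orthonormal family -/
structure On {ι : Type*} (u : ι → V) : Prop where
  unit : ∀ i, D.Q (u i) = 1
  orth : ∀ i j, i ≠ j → D.B (u i) (u j) = 0

theorem On.B_eq {ι : Type*} [DecidableEq ι] {u : ι → V} (hu : On D u) (i j : ι) :
    D.B (u i) (u j) = if i = j then 1 else 0 := by
  split_ifs with H
  · rw [H, B_self, hu.unit]
  · exact hu.orth i j H

theorem On.B_sum {ι : Type*} [Fintype ι] {u : ι → V} (hu : On D u) (c : ι → F) (i : ι) :
    D.B (u i) (∑ j, c j • u j) = c i := by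
  classical
  simp [map_sum, hu.B_eq]

theorem On.li {ι : Type*} [Finite ι] {u : ι → V} (hu : On D u) : LinearIndependent F u := by
  have := Fintype.ofFinite ι
  refine Fintype.linearIndependent_iff.2 fun c hc i => ?_
  rw [← hu.B_sum c i, hc, D.B_zero_right]

theorem On.disj {ι : Type*} [Finite ι] {u : ι → V} (hu : On D u) :
    Disjoint (Submodule.span F (Set.range u)) (D.perp (Submodule.span F (Set.range u))) := by
  have := Fintype.ofFinite ι
  refine Submodule.disjoint_def.2 fun x hx hx' => ?_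
  obtain ⟨c, rfl⟩ := (Submodule.mem_span_range_iff_exists_fun F).1 hx
  have : ∀ i, c i = 0 := fun i => by
    rw [← hu.B_sum c i]; exact D.mem_perp_span.1 hx' _ ⟨i, rfl⟩
  simp [this]

theorem On.finrank_eq {m : ℕ} {u : Fin m → V} (hu : On D u) :
    finrank F (Submodule.span F (Set.range u)) = m := by
  simpa using finrank_span_eq_card hu.li

theorem mem_perp_range {ι : Type*} {u : ι → V} {x : V} :
    x ∈ D.perp (Submodule.span F (Set.range u)) ↔ ∀ i, D.B (u i) x = 0 := by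
  simp [D.mem_perp_span]

theorem on_one {a : V} (ha : D.Q a = 1) : On D ![a] :=
  ⟨fun i => by fin_cases i; exact ha, fun i j H => (H (Subsingleton.elim _ _)).elim⟩

theorem on_two {a b : V} (ha : D.Q a = 1) (hb : D.Q b = 1) (hab : D.B a b = 0) : On D ![a, b] :=
  ⟨fun i => by fin_cases i <;> assumption, fun i j H => by
    have := D.eq_zero_symm hab
    fin_cases i <;> fin_cases j <;> first | assumption | exact (H rfl).elim⟩

theorem on_three {a b c : V} (ha : D.Q a = 1) (hb : D.Q b = 1) (hc : D.Q c = 1)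
    (hab : D.B a b = 0) (hac : D.B a c = 0) (hbc : D.B b c = 0) : On D ![a, b, c] :=
  ⟨fun i => by fin_cases i <;> assumption, fun i j H => by
    have := D.eq_zero_symm hab
    have := D.eq_zero_symm hac
    have := D.eq_zero_symm hbc
    fin_cases i <;> fin_cases j <;> first | assumption | exact (H rfl).elim⟩

theorem exists_gs {a b : V} (ha : D.Q a = 1) (hb : D.Q b = 1) (H : nb D a b ≠ 1) :
    ∃ (p : V) (t : F), D.Q p = 1 ∧ D.B a p = 0 ∧ b = D.B a b • a + t • p ∧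
      ∀ z, D.B a z = 0 → D.B b z = 0 → D.B p z = 0 := by
  obtain ⟨t, h0, ht⟩ := exists_unit_smul (D := D) (x := b - D.B a b • a)
    (by rw [Q_gs ha, hb]; exact sub_ne_zero.2 H.symm)
  refine ⟨_, t⁻¹, ht, by rw [D.B_smul_right, B_gs ha, mul_zero], by
    rw [inv_smul_smul₀ h0]; abel, fun z h1 h2 => by simp [D.B_lin, h1, h2]⟩

theorem exists_norm_ne (h : IsConj σ q) (hq : 3 ≤ q) : ∃ μ : F, μ ≠ 0 ∧ μ * σ μ ≠ 1 := by
  obtain ⟨a, h1, h2, h3⟩ := h.exists_fixed_ne (by omega)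
  obtain ⟨x, hx⟩ := h.exists_norm_eq h1
  exact ⟨x, by rintro rfl; simp at hx; exact h2 hx.symm, hx ▸ h3⟩

variable [FiniteDimensional F V] (hD : D.Nondeg)
include hD

theorem exists_unit_perp {W : Submodule F V} (H : ¬ D.perp W ≤ W) : ∃ z ∈ D.perp W, D.Q z = 1 := by
  obtain ⟨x, hx, hx'⟩ := SetLike.not_le_iff_exists.1 H
  rw [← hD.perp_perp W, D.mem_perp] at hx'
  push Not at hx'
  obtain ⟨y, hy, hy'⟩ := hx'
  exact exists_unit_of hy hx hy'

theorem exists_unit {m k : ℕ} {u : Fin m → V} (hu : On D u) (w : Fin k → V)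
    (hd : m + 2 * k < finrank F V) :
    ∃ z, D.Q z = 1 ∧ (∀ i, D.B (u i) z = 0) ∧ ∀ j, D.B (w j) z = 0 := by
  set U := Submodule.span F (Set.range u)
  set W := U ⊔ Submodule.span F (Set.range w)
  obtain ⟨z, hz, h1⟩ := exists_unit_perp hD (W := W) fun H => by
    have h1 := hD.finrank_perp W
    have h2 : finrank F W ≤ m + k := by
      refine (Submodule.finrank_add_le_finrank_add_finrank _ _).trans ?_
      have := finrank_range_le_card (R := F) w
      simp only [Fintype.card_fin, Set.finrank] at this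
      rw [hu.finrank_eq]; omega
    have h3 := Submodule.finrank_sup_add_finrank_inf_eq U (D.perp W)
    rw [(hu.disj.mono_right (D.perp_anti le_sup_left)).eq_bot, finrank_bot, hu.finrank_eq] at h3
    have h4 : finrank F ↥(U ⊔ D.perp W) ≤ finrank F W :=
      Submodule.finrank_mono (sup_le (le_sup_left : U ≤ W) H)
    omega
  rw [D.perp_sup, Submodule.mem_inf, mem_perp_range, mem_perp_range] at hz
  exact ⟨z, h1, hz⟩

theorem exists_unit_hyp {m : ℕ} {u : Fin m → V} (hu : On D u) {r : V} (hr : D.Q r = 0)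
    (h0 : r ≠ 0) (hp : ∀ i, D.B (u i) r = 0) {μ : F} (hμ : μ ≠ 0) :
    ∃ z, D.Q z = 1 ∧ (∀ i, D.B (u i) z = 0) ∧ D.B r z = μ := by
  obtain ⟨y, hy, h1⟩ := hD.exists_perp_B_eq' (H := Submodule.span F (Set.range u)) (a := r)
    (fun H => h0 (Submodule.disjoint_def.1 hu.disj r H (mem_perp_range.2 hp))) μ
  obtain ⟨c, hc⟩ := exists_unit_add hr (h1 ▸ hμ)
  refine ⟨_, hc, fun i => by simp [D.B_lin, hp i, mem_perp_range.1 hy i], ?_⟩
  simp [D.B_lin, h1, B_self, hr]

theorem dich {m : ℕ} {u : Fin m → V} (hu : On D u) (hd : m + 2 ≤ finrank F V) (y : V) :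
    (∃ z, D.Q z = 1 ∧ (∀ i, D.B (u i) z = 0) ∧ D.B y z = 0) ∨
      ∀ μ : F, μ ≠ 0 → ∃ z, D.Q z = 1 ∧ (∀ i, D.B (u i) z = 0) ∧ D.B y z = μ := by
  set U := Submodule.span F (Set.range u)
  set W := U ⊔ F ∙ y
  have hW : ∀ z, z ∈ D.perp W ↔ (∀ i, D.B (u i) z = 0) ∧ D.B y z = 0 := fun z => by
    rw [D.perp_sup, Submodule.mem_inf, mem_perp_range, D.mem_perp_span_singleton]
  by_cases H : D.perp W ≤ W
  swap
  · obtain ⟨z, hz, h1⟩ := exists_unit_perp hD H
    exact Or.inl ⟨z, h1, (hW z).1 hz⟩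
  refine Or.inr fun μ hμ => ?_
  have h1 := hD.finrank_perp W
  have h2 : finrank F W ≤ m + 1 := by
    refine (Submodule.finrank_add_le_finrank_add_finrank _ _).trans ?_
    have := finrank_span_le_card (R := F) ({y} : Set V)
    simp only [Set.toFinset_singleton, Finset.card_singleton] at this
    rw [hu.finrank_eq]; omega
  obtain ⟨r, hr, h0⟩ := (Submodule.ne_bot_iff (D.perp W)).1 (by
    intro H'; rw [H', finrank_bot] at h1; omega)
  have hQ : D.Q r = 0 := by rw [← B_self]; exact D.mem_perp.1 hr r (H hr)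
  obtain ⟨x, hx, y', hy', e⟩ := Submodule.mem_sup.1 (H hr)
  obtain ⟨t, rfl⟩ := Submodule.mem_span_singleton.1 hy'
  have ht : t ≠ 0 := by
    rintro rfl
    rw [zero_smul, add_zero] at e
    exact h0 (Submodule.disjoint_def.1 hu.disj r (e ▸ hx) (D.perp_anti le_sup_left hr))
  obtain ⟨z, a1, a2, a3⟩ := exists_unit_hyp hD hu hQ h0 ((hW r).1 hr).1
    (mul_ne_zero ((map_ne_zero σ).2 ht) hμ)
  refine ⟨z, a1, a2, ?_⟩
  rw [← e, D.B_add_left, D.mem_perp.1 (mem_perp_range.2 a2) x hx, zero_add, D.B_smul_left] at a3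
  exact mul_left_cancel₀ ((map_ne_zero σ).2 ht) a3

theorem exists_col {m : ℕ} {u : Fin m → V} (hu : On D u) (hd : m + 2 ≤ finrank F V) (hq : 3 ≤ q)
    (y : V) : ∃ z, D.Q z = 1 ∧ (∀ i, D.B (u i) z = 0) ∧ nb D y z ≠ 1 := by
  rcases dich hD hu hd y with ⟨z, a1, a2, a3⟩ | H
  · exact ⟨z, a1, a2, nb_ne_one a3⟩
  · obtain ⟨μ, h1, h2⟩ := exists_norm_ne h hq
    obtain ⟨z, a1, a2, a3⟩ := H μ h1
    exact ⟨z, a1, a2, by rwa [nb, a3]⟩

end Cfsg.Lib.Phan
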