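import Cfsg.Agent.Lib.Phan.LocF

/-!
Linear algebra in dimension four, and unipotent lifts along a central extension.
-/

set_option maxHeartbeats 400000

namespace Cfsg.Lib.Phan

open Module Cfsg.Lib.Forms Cfsg.Lib.Forms.Form Matrix CAut

universe u
variable {F : Type*} [Field F] {σ : F →+* F} {q : ℕ} {h : IsConj σ q}
  {V : Type u} [AddCommGroup V] [Module F V] {D : Form h.kind V} {e : ℕ → V} {N : ℕ}

theorem norm_of_smul {s : D.isom} {v : V} (hv : D.Q v = 1) {c : F} (H : s.1 v = c • v) :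
    c * σ c = 1 := by
  have := Q_isom s v
  rwa [H, D.Q_smul, hv, mul_one] at this

theorem OnS.map (hO : OnS D e N) (r : D.isom) : OnS D (fun k => r.1 (e k)) N :=
  ⟨fun i hi => by simpa using hO.unit i hi, fun i hi j hj c => by simpa using hO.orth i hi j hj c⟩

theorem comm_of_refl {v : V} (hv : D.Q v = 1) {r s : D.isom} {ν : F} (h1 : r.1 v = ν • v)
    (h2 : ∀ x, D.B v x = 0 → r.1 x = x) (h3 : s.1 v = v) : r * s * r⁻¹ = s := by
  rw [mul_inv_eq_iff_eq_mul]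
  refine isom_ext fun x => ?_
  have a1 := B_gs hv x
  have a2 : D.B v (s.1 (x - D.B v x • v)) = 0 := by rw [← h3, B_isom, h3, a1]
  rw [← sub_add_cancel x (D.B v x • v)]
  generalize x - D.B v x • v = y at a1 a2
  simp only [isom_mul_apply, map_add, map_smul, h1, h3, h2 _ a1, h2 _ a2]

theorem exists_unit_eig (hD : D.Nondeg) {x : D.isom} {n : ℕ} (hn : (n : F) ≠ 0) (hx : x ^ n = 1)
    {v : V} (hv : v ≠ 0) {μ : F} (hμ : μ * σ μ = 1) (H : x.1 v = μ • v) :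
    ∃ u, D.Q u = 1 ∧ x.1 u = μ • u := by
  let M : Submodule F V := LinearMap.ker ((x.1 : V →ₗ[F] V) - μ • 1)
  have hM : ∀ y, y ∈ M ↔ x.1 y = μ • y := fun y => by simp [M, sub_eq_zero]
  obtain ⟨y, hy⟩ := hD.exists_ne_zero hv
  have hn' : μ ^ n = 1 := smul_left_injective F hv (by
    simpa [hx, isom_one_apply] using (pow_apply_of_smul H n).symm)
  have k : ∀ k, D.B v (σ μ ^ k • (x ^ k).1 y) = D.B v y := fun k => by
    rw [D.B_smul_right, ← B_isom (x ^ k) v y, pow_apply_of_smul H, D.B_smul_left, map_pow]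
  obtain ⟨a, a1, a2⟩ := exists_unit_of ((hM v).2 H)
    (y := ∑ k ∈ Finset.range n, σ μ ^ k • (x ^ k).1 y) ((hM _).2 (by
      have a1 := Finset.sum_range_succ' (fun k => σ μ ^ k • (x ^ k).1 y) n
      rw [Finset.sum_range_succ, hx, ← map_pow, hn', map_one, pow_zero, pow_zero,
        add_left_inj] at a1
      rw [map_sum]
      conv_rhs => rw [a1, Finset.smul_sum]
      exact Finset.sum_congr rfl fun k _ => by
        rw [map_smul, pow_succ' x, isom_mul_apply, smul_smul, pow_succ', ← mul_assoc, hμ, one_mul]))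
    (by rw [map_sum, Finset.sum_congr rfl fun j _ => k j]; simpa using ⟨hn, hy⟩)
  exact ⟨a, a2, (hM a).1 a1⟩

variable [FiniteDimensional F V] (hD : D.Nondeg)
include hD

theorem exists_two_neg (h2 : (2 : F) ≠ 0) {t : D.isom} (ht : t * t = 1)
    (h1 : t ≠ 1) (hd : D.det t = 1) :
    ∃ a b, D.Q a = 1 ∧ D.Q b = 1 ∧ D.B a b = 0 ∧ t.1 a = -a ∧ t.1 b = -b := by
  obtain ⟨x, hx⟩ : ∃ x, t.1 x ≠ x := by
    by_contra H; push Not at H; exact h1 (isom_ext H)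
  obtain ⟨a, -, a1, a2⟩ := exists_unit_neg hD h2 ht (P := ⊤) (by simp)
    (fun x _ H => by simpa using hD.exists_ne_zero H) trivial hx
  have ab : D.B a a ≠ 0 := by rw [B_self, a1]; exact one_ne_zero
  obtain ⟨y, y1, y2⟩ : ∃ y ∈ D.perp (F ∙ a), t.1 y ≠ y := by
    by_contra H; push Not at H
    have r : D.IsRk1 a (-2) := (Herm.isRk1_iff_of_Q_eq_one a1).2 (by
      rw [show (1 : F) + -2 = -1 by ring]; simp)
    have : t = D.rk1 a _ r := (isOrthCompl_span_singleton ab).isom_ext (fun w hw => by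
      obtain ⟨c, rfl⟩ := Submodule.mem_span_singleton.1 hw
      simp only [map_smul, a2, rk1_apply, B_self, a1]; congr 1; module) fun w hw => by
        rw [H w hw, D.rk1_apply_of_perp _ _ (D.mem_perp_span_singleton.1 hw)]
    have e := congrArg Units.val hd
    rw [this, det_rk1, B_self, a1] at e
    rw [Units.val_one] at e
    exact h2 (by linear_combination -e)
  obtain ⟨b, b0, b1, b2⟩ := exists_unit_neg hD h2 ht (P := D.perp (F ∙ a)) (fun x hx => by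
    rw [D.mem_perp_span_singleton] at hx ⊢
    rw [← neg_neg a, D.B_neg_left, ← a2, B_isom, hx, neg_zero]) (fun x hx H => by
      obtain ⟨y, hy⟩ := (nondeg_perp_singleton hD ab).exists_ne_zero (x := ⟨x, hx⟩)
        (by simpa using H)
      exact ⟨y, y.2, hy⟩) y1 y2
  exact ⟨a, b, a1, b1, D.mem_perp_span_singleton.1 b0, a2, b2⟩

theorem OnS.mem4 (hO : OnS D e N) (hN : finrank F V = N) {k l : ℕ} (H : l ≤ N) {s : D.isom} :
    s ∈ SUb D (sp F e k l) ↔ D.det s = 1 ∧ ∀ m < N, (m < k ∨ l ≤ m) → s.1 (e m) = e m := by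
  rw [hO.mem_iff (Nat.zero_le k) H le_rfl, hO.sp_top hD hN, mem_SUb_top hD]; simp

theorem diag_frame (h4 : finrank F V = 4) {a b c : V} (H : On D ![a, b, c]) {x : D.isom}
    (hx : D.det x = 1) {l : F} (h1 : x.1 a = l • a) (h2 : x.1 b = σ l • b) (h3 : x.1 c = c) :
    ∃ e : ℕ → V, OnS D e 4 ∧ x ∈ SUb D (sp F e 0 2) ∧ x.1 (e 0) = l • e 0 ∧
      x.1 (e 1) = σ l • e 1 := by
  obtain ⟨w, w1, w2, -⟩ := exists_unit hD H ![] (by omega)
  have H' := H.cons w1 w2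
  let e : ℕ → V := fun i => if H : i < 3 then ![a, b, c] ⟨i, H⟩ else w
  have hO : OnS D e 4 := ⟨fun i hi => by
    by_cases c : i < 3
    · simpa [e, c] using H.unit ⟨i, c⟩
    · simpa [e, c] using w1, fun i hi j hj c => by
      by_cases c1 : i < 3 <;> by_cases c2 : j < 3
      · simpa [e, c1, c2] using H.orth ⟨i, c1⟩ ⟨j, c2⟩ (by simpa)
      · simpa [e, c1, c2] using w2 ⟨i, c1⟩
      · simpa [e, c1, c2] using D.eq_zero_symm (w2 ⟨j, c2⟩)
      · omega⟩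
  obtain ⟨d, d1, d2, d3⟩ := hO.exists_diag (i := 0) (by omega) (norm_of_smul (H.unit 0) h1)
  have d4 := (hO.mem4 hD h4 (by omega)).1 d1
  have : d⁻¹ * x = 1 := hO.one hD (i := 3) le_rfl ((hO.mem4 hD h4 le_rfl).2 ⟨by simp [hx, d4.1],
    fun m _ _ => by
      rw [isom_mul_apply, isom_inv_apply_eq]
      obtain rfl | rfl | rfl : m = 0 ∨ m = 1 ∨ m = 2 := by omega
      exacts [d2.trans h1.symm, d3.trans h2.symm, (d4.2 2 (by omega) (by omega)).trans h3.symm]⟩)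
  rw [← inv_mul_eq_one.1 this]
  exact ⟨e, hO, d1, d2, d3⟩

theorem OnS.fx_of_comm (hO : OnS D e N) (hN : finrank F V = N) {j : ℕ} (H : j + 2 ≤ N)
    {d s : D.isom} (hd : d ∈ SUb D (sp F e j (j + 2))) {l : F} (hl : l ≠ σ l)
    (h1 : d.1 (e j) = l • e j) (h2 : d.1 (e (j + 1)) = σ l • e (j + 1)) (hc : d * s = s * d) :
    Fx s (e j) ∧ Fx s (e (j + 1)) := by
  have l1 := norm_of_smul (hO.unit _ (by omega)) h1
  have l3 : l ≠ 1 := by rintro rfl; simp at hl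
  have l4 : σ l ≠ 1 := fun e => l3 (by rwa [e, mul_one] at l1)
  have k : ∀ {k c}, d.1 (e k) = c • e k → d.1 (s.1 (e k)) = c • s.1 (e k) := fun H => by
    rw [← isom_mul_apply, hc, isom_mul_apply, H, map_smul]
  have k2 : ∀ m < N, m ≠ j → m ≠ j + 1 → d.1 (e m) = (1 : F) • e m := fun m m1 m2 m3 => by
    rw [one_smul]; exact ((hO.mem4 hD hN H).1 hd).2 m m1 (by omega)
  refine ⟨⟨_, hO.eq_smul le_rfl (Nat.zero_le _) (by omega) (by simp [hO.sp_top hD hN])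
    fun m _ m1 m2 => ?_⟩, _, hO.eq_smul le_rfl (Nat.zero_le _) (by omega)
      (by simp [hO.sp_top hD hN]) fun m _ m1 m2 => ?_⟩
  · by_cases c : m = j + 1
    · exact c ▸ orth_eig h2 (k h1) fun e => hl (by
        rw [h.σσ, ← l1] at e; exact mul_left_cancel₀ (left_ne_zero_of_mul_eq_one l1) e)
    · exact orth_eig (k2 m m1 m2 c) (k h1) (by simpa)
  · by_cases c : m = j
    · subst c
      exact orth_eig h1 (k h2) fun e => hl (by
        rw [← l1] at e; exact (mul_right_cancel₀ (right_ne_zero_of_mul_eq_one l1) e).symm)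
    · exact orth_eig (k2 m m1 c m2) (k h2) (by simpa)

theorem OnS.fix2 (hO : OnS D e N) {i : ℕ} (H : i + 3 ≤ N) {s : D.isom}
    (hs : s ∈ SUb D (sp F e i (i + 3))) {m : ℕ} (h1 : i ≤ m) (h2 : m < i + 3)
    (h3 : ∀ k, i ≤ k → k < i + 3 → k ≠ m → s.1 (e k) = e k) : s = 1 :=
  hO.one hD (i := m) (by omega) ((hO.mem_iff h1 h2 H).2 ⟨hs, fun k k1 k2 k3 => h3 k k1 k2 (by omega)⟩)

omit hD [FiniteDimensional F V]
variable {G : Type*} [Group G] (p : ℕ) (Δ : Subgroup (G × D.isom)) {U U' : Subgroup G}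

/-- the subgroup generated by the unipotent lifts -/
def lift (U : Subgroup G) : Subgroup D.isom :=
  Subgroup.closure {s | Unip p s ∧ ∃ y ∈ U, (y, s) ∈ Δ}

variable {p Δ}

theorem mem_lift {s : D.isom} (h1 : Unip p s) {y : G} (h2 : y ∈ U) (h3 : (y, s) ∈ Δ) :
    s ∈ lift p Δ U := Subgroup.subset_closure ⟨h1, y, h2, h3⟩

theorem lift_le {K : Subgroup D.isom} (H : ∀ s, Unip p s → ∀ y ∈ U, (y, s) ∈ Δ → s ∈ K) :
    lift p Δ U ≤ K := (Subgroup.closure_le _).2 fun s ⟨h1, y, h2, h3⟩ => H s h1 y h2 h3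

theorem lift_ex {s : D.isom} (hs : s ∈ lift p Δ U) : ∃ y ∈ U, (y, s) ∈ Δ := by
  obtain ⟨⟨y, _⟩, y1, rfl⟩ := lift_le (K := (Δ ⊓ U.comap (MonoidHom.fst _ _)).map
    (MonoidHom.snd _ _)) (fun s _ y y1 y2 => ⟨_, ⟨y2, y1⟩, rfl⟩) hs
  exact ⟨y, y1.2, y1.1⟩

theorem conj_mem_lift {w : G} {t s : D.isom} (h1 : (w, t) ∈ Δ) (H : ∀ y ∈ U, w * y * w⁻¹ ∈ U')
    (hs : s ∈ lift p Δ U) : t * s * t⁻¹ ∈ lift p Δ U' :=
  lift_le (K := (lift p Δ U').comap (MulAut.conj t).toMonoidHom)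
    (fun _ s1 y y1 y2 => mem_lift (s1.conj t) (H y y1) (pconj h1 y2)) hs

theorem eq_of_card {T A B : Subgroup D.isom} (g : Gr (MonoidHom.snd _ _) Δ T) (le : A ≤ B)
    [Finite B] (hc : Nat.card B ≤ Nat.card U) (H : ∀ y ∈ U, ∃ s ∈ A, (y, s) ∈ Δ) : A = B := by
  choose f f1 f2 using H
  have : Finite A := (Set.toFinite (B : Set D.isom)).subset le
  exact Subgroup.eq_of_le_of_card_ge le (hc.trans (Nat.card_le_card_of_injective
    (fun y : U => (⟨f y y.2, f1 y y.2⟩ : A)) fun y y' e => Subtype.ext (congrArg Prod.fst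
      (g.eq (f2 y y.2) (f2 y' y'.2) (congrArg Subtype.val e)))))

variable [Fact p.Prime] [CharP F p] (hk : ∀ s, (1, s) ∈ Δ → IsScal s)
include hk

theorem unip_eq {y : G} {s s' : D.isom} (h1 : (y, s) ∈ Δ) (h2 : (y, s') ∈ Δ) (u1 : Unip p s)
    (u2 : Unip p s') : s = s' := by
  have z := hk _ (by simpa using pmul (pinv h1) h2)
  obtain ⟨k, u1⟩ := u1
  obtain ⟨l, u2⟩ := u2
  have := Commute.mul_pow (z.comm s) (p ^ (k + l))
  rw [mul_inv_cancel_left, pow_add, pow_mul s, u1, mul_comm (p ^ k), pow_mul s', u2, one_pow,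
    one_pow, one_mul, ← pow_add] at this
  exact inv_mul_eq_one.1 (Unip.eq_one_of_isScal ⟨_, this.symm⟩ z)

theorem comm_lift {w : G} {t s : D.isom} (h1 : (w, t) ∈ Δ) (H : ∀ y ∈ U, w * y = y * w)
    (hs : s ∈ lift p Δ U) : t * s = s * t :=
  Subgroup.mem_centralizer_singleton_iff.1 (lift_le (K := Subgroup.centralizer {t})
    (fun s s1 y y1 y2 => Subgroup.mem_centralizer_singleton_iff.2 (by
      have := pconj h1 y2
      rw [H y y1, mul_inv_cancel_right] at this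
      exact (mul_inv_eq_iff_eq_mul.1 (unip_eq hk this y2 (s1.conj t) s1)).symm)) hs) |>.symm

theorem exists_unip (hD : D.Nondeg) {y : G} {s : D.isom} (h1 : (y, s) ∈ Δ) {k : ℕ}
    (hy : y ^ p ^ k = 1) : ∃ s, Unip p s ∧ (y, s) ∈ Δ := by
  obtain ⟨z, hz⟩ := hk (s ^ p ^ k) (by rw [← hy]; exact pow_mem h1 _)
  have := h.finite
  obtain ⟨p', n, hp, hc, hn, e2⟩ := exists_prime_pow_of_card_eq_sq h.card
  obtain rfl := CharP.eq F hc ‹CharP F p›
  obtain ⟨m, hm⟩ := exists_pow_eq_self_of_coprime (x := y) (n := q + 1)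
    (Nat.Coprime.coprime_dvd_right (orderOf_dvd_of_pow_eq_one hy) (Nat.Coprime.pow_right _ (by
      rw [e2, Nat.coprime_comm, Nat.coprime_add_iff_right (dvd_pow_self _ (by omega))]; simp)))
  refine ⟨(s ^ (q + 1)) ^ m, ⟨k, ?_⟩, by rw [← hm]; exact pow_mem (pow_mem h1 _) _⟩
  rw [← pow_mul, ← pow_mul, ← mul_assoc, mul_comm, pow_mul, pow_mul]
  refine isom_ext fun x => ?_
  by_cases c : x = 0
  · simp [c]
  obtain ⟨v, hv⟩ := hD.exists_ne_zero c
  have a := B_isom (s ^ p' ^ k) x v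
  rw [hz, hz, D.B_smul_left, D.B_smul_right, ← mul_assoc, mul_left_eq_self₀, or_iff_left hv,
    mul_comm, h.norm_eq] at a
  rw [pow_apply_of_smul (c := 1) (by rw [pow_apply_of_smul (hz x), a])]
  simp [isom_one_apply]

theorem ex_lift (hD : D.Nondeg)
    (hU : ∀ K : Subgroup G, (∀ y ∈ U, (∃ k, y ^ p ^ k = 1) → y ∈ K) → U ≤ K)
    (H : ∀ y ∈ U, ∃ s, (y, s) ∈ Δ) {y : G} (hy : y ∈ U) : ∃ s ∈ lift p Δ U, (y, s) ∈ Δ := by
  obtain ⟨⟨_, s⟩, y1, rfl⟩ := hU ((Δ ⊓ (lift p Δ U).comap (MonoidHom.snd _ _)).map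
    (MonoidHom.fst _ _)) (fun y y1 ⟨k, y2⟩ => by
      obtain ⟨s, s1⟩ := H y y1
      obtain ⟨s, s2, s3⟩ := exists_unip hk hD s1 y2
      exact ⟨_, ⟨s3, mem_lift s2 y1 s3⟩, rfl⟩) hy
  exact ⟨s, y1.2, y1.1⟩

end Cfsg.Lib.Phan
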