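import Cfsg.Agent.Lib.Phan.Lift

/-!
Recognizing the first block subgroup inside a quotient of `SU₄(q)`, `q ≤ 3`.
-/

set_option maxHeartbeats 400000

namespace Cfsg.Lib.Phan

open Module Cfsg.Lib.Forms Cfsg.Lib.Forms.Form Matrix CAut

universe u v
variable {F : Type*} [Field F] {σ : F →+* F} {q : ℕ} {h : IsConj σ q}
  {V : Type u} [AddCommGroup V] [Module F V] {D : Form h.kind V} {e : ℕ → V} {N : ℕ}

theorem sp_le {i j : ℕ} {P : Submodule F V} (H : ∀ k, i ≤ k → k < j → e k ∈ P) :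
    sp F e i j ≤ P := Submodule.span_le.2 (by rintro _ ⟨k, ⟨h1, h2⟩, rfl⟩; exact H k h1 h2)

variable {G : Type*} [Group G] {i : ℕ} {Γ Γ' : Subgroup (G × D.isom)} {U U' U'' W W' : Subgroup G}

theorem Loc.leL (L : Loc Γ e i U U' W) : U ≤ W := fun y hy =>
  (L.fst y).2 (((L.left y).1 hy).imp fun _ H => H.1)

theorem Loc.leR (L : Loc Γ e i U U' W) : U' ≤ W := fun y hy =>
  (L.fst y).2 (((L.right y).1 hy).imp fun _ H => H.1)

variable [FiniteDimensional F V] (hO : OnS D e N) (hD : D.Nondeg)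
include hO hD

theorem OnS.perp_eq (hN : finrank F V = N) {j : ℕ} (H : j ≤ N) :
    D.perp (sp F e 0 j) = sp F e j N := by
  refine (Submodule.eq_of_le_of_finrank_eq (sp_le fun k k1 k2 => mem_perp_sp.2 fun m _ m2 =>
    hO.orth m (by omega) k k2 (by omega)) ?_).symm
  have := hD.finrank_perp (sp F e 0 j)
  rw [hO.finrank_eq H] at this
  rw [hO.finrank_eq le_rfl]; omega

theorem OnS.perp_eq' (hN : finrank F V = N) {j : ℕ} (H : j ≤ N) :
    D.perp (sp F e j N) = sp F e 0 j := by rw [← hO.perp_eq hD hN H, hD.perp_perp]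

theorem OnS.card {m : ℕ} (H : i + m ≤ N) :
    Finite (SUb D (sp F e i (i + m))) ∧ Nat.card (SUb D (sp F e i (i + m))) = Nat.card (SU m F q) := by
  obtain ⟨j, -⟩ := hO.exists_equiv hD H
  have := h.finite
  exact ⟨Finite.of_equiv _ j.toEquiv, (Nat.card_congr j.toEquiv).symm⟩

theorem OnS.diag_swap (H : i + 2 ≤ N) {δ β : D.isom} (h1 : δ ∈ SUb D (sp F e i (i + 2)))
    (h2 : β ∈ SUb D (sp F e i (i + 2))) {l : F} (h3 : δ.1 (e i) = l • e i)
    (h4 : δ.1 (e (i + 1)) = σ l • e (i + 1)) (h5 : β.1 (e i) = e (i + 1)) :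
    β * δ * β⁻¹ * δ = 1 :=
  hO.one hD (i := i) (by omega) ((hO.mem_last (by omega) H _).2
    ⟨mul_mem (mul_mem (mul_mem h2 h1) (inv_mem h2)) h1, by
      simp only [isom_mul_apply, h4, map_smul, isom_inv_apply_eq.2 h5, h3, h5, smul_smul]
      rw [mul_comm, norm_of_smul (hO.unit _ (by omega)) h3, one_smul]⟩)

theorem OnS.conj_diag (H : i + 3 ≤ N) {δ δ' : D.isom} (h1 : δ ∈ SUb D (sp F e i (i + 3)))
    (h2 : δ' ∈ SUb D (sp F e i (i + 3))) {l μ : F} (h3 : δ.1 (e i) = l • e i)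
    (h4 : δ.1 (e (i + 1)) = μ • e (i + 1)) {j k m : ℕ} (h5 : δ'.1 (e j) = l • e j)
    (h6 : δ'.1 (e k) = μ • e k) (H' : i ≤ j ∧ i ≤ k ∧ i ≤ m ∧ j < i + 3 ∧ k < i + 3 ∧ m < i + 3 ∧
      j ≠ k ∧ j ≠ m ∧ k ≠ m) : ∃ t ∈ SUb D (sp F e i (i + 3)), t * δ * t⁻¹ = δ' := by
  obtain ⟨t, t1, t2, t3⟩ := trans_pair hD (hO.nd (i := i) H) (by rw [hO.finrank_eq H]; omega)
    (mem_sp e (k := i) (by omega) (by omega)) (mem_sp e (k := i + 1) (by omega) (by omega))
    (mem_sp e (k := j) (by omega) (by omega)) (mem_sp e (k := k) (by omega) (by omega))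
    (hO.unit _ (by omega)) (hO.unit _ (by omega)) (hO.unit _ (by omega)) (hO.unit _ (by omega))
    (hO.orth _ (by omega) _ (by omega) (by omega)) (hO.orth _ (by omega) _ (by omega) (by omega))
  refine ⟨t, t1, (inv_mul_eq_one.1 (hO.fix2 hD H (m := m)
    (mul_mem (inv_mem h2) (mul_mem (mul_mem t1 h1) (inv_mem t1))) (by omega) (by omega)
    fun r _ _ _ => ?_)).symm⟩
  rw [isom_mul_apply, isom_inv_apply_eq]
  obtain rfl | rfl : r = j ∨ r = k := by omega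
  · simp only [isom_mul_apply, isom_inv_apply_eq.2 t2, h3, map_smul, t2, h5]
  · simp only [isom_mul_apply, isom_inv_apply_eq.2 t3, h4, map_smul, t3, h6]

theorem Loc.inj' (H : i + 3 ≤ N) (L : Loc Γ e i U U' W) (hi : ∀ y ∈ U, y ∈ U' → y = 1)
    {s : D.isom} (hs : (1, s) ∈ Γ) : s = 1 := by
  obtain ⟨z, hz⟩ := L.ker s hs
  have z1 := norm_of_smul (hO.unit _ (by omega)) (hz 0 (by omega))
  obtain ⟨d, d1, d2, d3⟩ := hO.exists_diag (i := i) (by omega) z1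
  obtain ⟨y, y1, y2⟩ := L.exL hO hD H d1
  have a1 := pmul (pinv y2) hs
  rw [mul_one] at a1
  have a2 := hi _ (inv_mem y1) ((L.right _).2 ⟨_, a1, by
    rw [isom_mul_apply, isom_inv_apply_eq, d2]; exact (hz 0 (by omega)).symm⟩)
  rw [inv_eq_one] at a2
  rw [L.inj hO H (a2 ▸ y2) (k := 2) (by omega) ((hO.mem_last (by omega) H _).1 d1).2] at d2
  exact L.inj hO H hs (k := 0) (by omega) ((hz 0 (by omega)).trans d2.symm)

theorem Loc.cardW (H : i + 3 ≤ N) (L : Loc Γ e i U U' W) (hi : ∀ y ∈ U, y ∈ U' → y = 1) :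
    Nat.card W = Nat.card (SU 3 F q) := by
  obtain ⟨φ, -⟩ := L.gr.exists_equiv
  obtain ⟨ψ, -⟩ := Gr.exists_equiv (p := MonoidHom.fst _ _) (Γ := Γ) (A := W)
    ⟨fun x hx => (L.fst _).2 ⟨x.2, hx⟩, fun y hy => ((L.fst y).1 hy).elim fun s hs => ⟨_, hs, rfl⟩,
      fun x hx e' => Prod.ext e' (L.inj' hO hD H hi (by rw [← e']; exact hx))⟩
  rw [← (hO.card hD H).2]
  exact Nat.card_congr (ψ.symm.trans φ).toEquiv

theorem Loc.mem_sup (H : i + 3 ≤ N) (L : Loc Γ e i U U' W) {y : G} {s : D.isom} (h1 : (y, s) ∈ Γ)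
    (h2 : s ∈ SUb D (sp F e i (i + 2)) ⊔ SUb D (sp F e (i + 1) (i + 3))) : y ∈ U ⊔ U' := by
  obtain ⟨⟨y', _⟩, y1, rfl⟩ := (sup_le (fun s hs => by
    obtain ⟨y, y1, hy⟩ := L.exL hO hD H hs
    exact ⟨_, ⟨hy, Subgroup.mem_sup_left y1⟩, rfl⟩) (fun s hs => by
    obtain ⟨y, y1, hy⟩ := L.exR hO hD H hs
    exact ⟨_, ⟨hy, Subgroup.mem_sup_right y1⟩, rfl⟩) :
      _ ≤ (Γ ⊓ (U ⊔ U').comap (MonoidHom.fst _ _)).map (MonoidHom.snd _ _)) h2
  exact L.eq y1.1 h1 ▸ y1.2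

theorem OnS.fix_diag (hN : finrank F V = N) (H : 2 ≤ N) {x : D.isom} (h1 : x ∈ SUb D (sp F e 0 2))
    {l : F} (hl : l ≠ 1) (h2 : x.1 (e 0) = l • e 0) (h3 : x.1 (e 1) = σ l • e 1) {v : V} :
    x.1 v = v ↔ v ∈ sp F e 2 N := by
  rw [← hO.perp_eq hD hN H]
  refine ⟨fun H' => mem_perp_sp.2 fun k _ _ => ?_, h1.2 v⟩
  rw [← one_smul F v, map_smul, one_smul] at H'
  obtain rfl | rfl : k = 0 ∨ k = 1 := by omega
  · exact orth_eig h2 H' (by rw [mul_one, ← map_one σ]; exact σ.injective.ne hl)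
  · exact orth_eig h3 H' (by rwa [h.σσ, mul_one])

variable {V₄ : Type v} [AddCommGroup V₄] [Module F V₄] [FiniteDimensional F V₄] {D₄ : Form h.kind V₄}

omit hO hD in
/-- the ambient quotient of `SU₄` -/
structure Amb (Δ : Subgroup (G × D₄.isom)) (Y : Subgroup G) : Prop where
  nd : D₄.Nondeg
  dim : finrank F V₄ = 4
  gr : Gr (MonoidHom.snd _ _) Δ D₄.det.ker
  ker : ∀ s, (1, s) ∈ Δ → IsScal s
  fst : ∀ y ∈ Y, ∃ s, (y, s) ∈ Δ

variable {Δ : Subgroup (G × D₄.isom)} (p : ℕ) [Fact p.Prime] [CharP F p]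

omit hO hD [FiniteDimensional F V₄] in
theorem Amb.eq {Y : Subgroup G} (A : Amb Δ Y) {y y' : G} {s : D₄.isom} (h1 : (y, s) ∈ Δ)
    (h2 : (y', s) ∈ Δ) : y = y' := congrArg Prod.fst (A.gr.eq h1 h2 rfl)

omit hO hD [FiniteDimensional F V₄] in
theorem Amb.det {Y : Subgroup G} (A : Amb Δ Y) {y : G} {s : D₄.isom} (h1 : (y, s) ∈ Δ) :
    D₄.det s = 1 := A.gr.mem _ h1

omit hO hD in
variable (Γ Δ U U'' e i) in
/-- the starting configuration -/
def Start : Prop := ∃ y δ, ∃ κ : F, (y, δ) ∈ Γ ∧ κ ≠ 0 ∧ δ.1 (e i) = κ • e i ∧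
  ∃ (f : ℕ → V₄) (x : D₄.isom) (l : F), OnS D₄ f 4 ∧ (y, x) ∈ Δ ∧ l ≠ 1 ∧ x ∈ SUb D₄ (sp F f 0 2) ∧
    x.1 (f 0) = l • f 0 ∧ x.1 (f 1) = σ l • f 1 ∧ lift p Δ U'' ≤ SUb D₄ (sp F f 2 4)

variable (H : i + 4 ≤ N) (L : Loc Γ e i U U' W) (L' : Loc Γ' e (i + 1) U' U'' W') (hc : Cm U U'')
  (A : Amb Δ (W ⊔ W'))
include H L L' hc A

theorem start_two (hq : q = 2) : Start e i Γ U'' Δ p := by
  have H3 : i + 3 ≤ N := by omega
  have := h.finite
  have c2 : (2 : F) = 0 := by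
    obtain ⟨p, k, hp, hc, hk, e2⟩ := exists_prime_pow_of_card_eq_sq h.card
    obtain rfl : p = 2 := (Nat.prime_dvd_prime_iff_eq hp Nat.prime_two).1
      (hq ▸ e2 ▸ dvd_pow_self p (by omega))
    exact CharP.cast_eq_zero F 2
  have hk : ∀ {y s s'}, (y, s) ∈ Δ → (y, s') ∈ Δ → s = s' := fun {y s s'} h1 h2 => by
    have a1 := pmul (pinv h1) h2
    rw [inv_mul_cancel] at a1
    obtain ⟨z, hz⟩ := A.ker _ a1
    obtain ⟨u, u1, -⟩ := exists_unit A.nd (m := 0) (k := 0) (u := ![])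
      ⟨nofun, nofun⟩ ![] (by rw [A.dim]; omega)
    have a2 := norm_of_smul u1 (hz u)
    have a3 := det_of_smul hz
    rw [h.norm_eq, hq] at a2
    rw [A.det a1, A.dim, pow_succ, a2] at a3
    exact inv_mul_eq_one.1 (isom_ext fun x => by rw [hz, show z = 1 by simpa using a3.symm]; simp)
  have ex : ∀ {y s}, (y, s) ∈ Γ → ∃ x, (y, x) ∈ Δ := fun {y s} h1 =>
    A.fst y (Subgroup.mem_sup_left ((L.fst y).2 ⟨s, h1⟩))
  obtain ⟨l, l1, l2⟩ := exists_norm_one h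
  have l3 : l ≠ 1 := by rintro rfl; simp at l2
  have l4 : l ^ 3 = 1 := by rw [← l1, h.norm_eq, hq]
  have l5 : σ l = l ^ 2 := by rw [h.apply, hq]
  obtain ⟨δ, d1, d2, d3⟩ := hO.exists_diag (i := i) (by omega) l1
  have d4 := (hO.mem_last (by omega) H3 _).1 d1
  obtain ⟨y, y1, y2⟩ := L.exL hO hD H3 d1
  obtain ⟨x, x1⟩ := ex y2
  have y3 : y ≠ 1 := fun e' => l3 (smul_left_injective F (fun e0 : e i = 0 => by
    have := hO.unit i (by omega); rw [e0] at this; simp at this) (by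
      simpa [L.inj hO H3 (e' ▸ y2) (k := 2) (by omega) d4.2, isom_one_apply] using d2.symm))
  have x2 : x ^ 3 = 1 := hk (y := y ^ 3) (pow_mem x1 3) (by
    rw [show y ^ 3 = 1 from L.pow y2 (hO.eq_one (by omega) (pow_mem d1 3) fun m _ _ => by
      obtain rfl | rfl : m = i ∨ m = i + 1 := by omega
      · rw [pow_apply_of_smul d2, l4, one_smul]
      · rw [pow_apply_of_smul d3, ← map_pow, l4, map_one, one_smul])]
    exact one_mem Δ)
  have x3 : ∀ {x : D₄.isom}, x ^ 3 = 1 → ∀ v, x.1 (x.1 (x.1 v)) = v := fun H v => by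
    simpa [pow_succ, isom_mul_apply, isom_one_apply] using congrArg (fun s => s.1 v) H
  obtain ⟨c, c1, c3⟩ : ∃ v, v ≠ 0 ∧ x.1 v = (1 : F) • v := by
    by_contra H'
    push Not at H'
    have k : ∀ {y' δ' x' j k m}, (y', δ') ∈ Γ → (y', x') ∈ Δ → δ'.1 (e j) = l • e j →
        δ'.1 (e k) = σ l • e k → (i ≤ j ∧ i ≤ k ∧ i ≤ m ∧ j < i + 3 ∧ k < i + 3 ∧ m < i + 3 ∧
          j ≠ k ∧ j ≠ m ∧ k ≠ m) → ∀ v, x'.1 (x'.1 v) = -x'.1 v - v :=
      fun {y' δ' x' j k m} h1 h2 h3 h4 h5 v => by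
        obtain ⟨t, t1, rfl⟩ := hO.conj_diag hD H3 d4.1 (L.mem h1) d2 d3 h3 h4 h5
        obtain ⟨w, w1⟩ := L.ex t1
        obtain ⟨s, s1⟩ := ex w1
        obtain rfl := hk (L.eq (pconj w1 y2) h1 ▸ pconj s1 x1) h2
        by_contra c
        refine H' (x.1 (x.1 (s⁻¹.1 v)) + x.1 (s⁻¹.1 v) + s⁻¹.1 v) (fun e0 => c ?_) (by
          simp only [map_add, x3 x2, one_smul]; abel)
        have := congrArg s.1 e0
        simp only [map_add, isom_apply_inv, map_zero] at this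
        simp only [isom_mul_apply, isom_inv_apply]
        rw [← sub_eq_zero, ← this]; abel
    obtain ⟨δ', e1, e2, e3⟩ := hO.exists_diag (i := i + 1) H3 l1
    have e4 := (hO.mem_first (by omega) H3 _).1 e1
    obtain ⟨y', z1, z2⟩ := L.exR hO hD H3 e1
    obtain ⟨x', z3⟩ := ex z2
    have a1 : δ * δ' = δ' * δ := inv_mul_eq_one.1 (hO.fix2 hD H3 (m := i + 1) (mul_mem (inv_mem
      (mul_mem d4.1 e4.1)) (mul_mem e4.1 d4.1)) (by omega) (by omega) fun r _ _ _ => by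
        rw [isom_mul_apply, isom_inv_apply_eq]
        obtain rfl | rfl : r = i ∨ r = i + 1 + 1 := by omega
        · simp only [isom_mul_apply, e4.2, d2, map_smul]
        · simp only [isom_mul_apply, d4.2, e3, map_smul])
    have a2 := hk (L.eq (a1 ▸ pmul y2 z2) (pmul z2 y2) ▸ pmul x1 z3) (pmul z3 x1)
    have b1 := k (m := i + 2) y2 x1 d2 d3 (by omega)
    have b2 := k (m := i) z2 z3 e2 e3 (by omega)
    have b3 := k (j := i) (k := i + 2) (m := i + 1) (pmul y2 z2) (pmul x1 z3)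
      (by rw [isom_mul_apply, e4.2, d2]) (by rw [isom_mul_apply, e3, map_smul, d4.2]) (by omega)
    have b4 : x = x' := isom_ext fun v => by
      have b5 := b3 v
      rw [← isom_mul_apply, show x * x' * (x * x') = x * x * (x' * x') by
        rw [mul_assoc, ← mul_assoc x', ← a2]; simp only [mul_assoc]] at b5
      simp only [isom_mul_apply, b1, b2, map_sub, map_neg] at b5
      rw [← sub_eq_zero] at b5 ⊢
      rw [← b5, ← sub_eq_zero, ← zero_smul F (-x.1 (x'.1 v) - x'.1 v - v), ← c2]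
      module
    exact y3 (L'.cent' hO hD H (A.eq z3 (b4 ▸ x1) ▸ z1) fun y hy => hc _ y1 _ hy)
  obtain ⟨β, b1, b2⟩ := hO.swap hD (i := i) (j := i + 2) (k := i) (l := i + 1) (by omega) le_rfl
    le_rfl (by omega) (by omega) (by omega)
  obtain ⟨b, -, b3⟩ := L.exL hO hD H3 b1
  obtain ⟨s, s1⟩ := ex b3
  have a1 := pmul (pconj b3 y2) y2
  rw [hO.diag_swap hD (by omega) d1 b1 d2 d3 b2] at a1
  have a2 := pmul (pconj s1 x1) x1
  rw [L.eq a1 (one_mem Γ)] at a2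
  have a3 := hk a2 (one_mem Δ)
  have k : ∀ {v μ ν}, x.1 v = μ • v → μ * ν = (1 : F) → x.1 (s⁻¹.1 v) = ν • s⁻¹.1 v :=
    fun {v μ ν} h1 h2 => by
      have := congrArg (fun r : D₄.isom => s⁻¹.1 (r.1 v)) a3
      simp only [isom_mul_apply, h1, map_smul, isom_inv_apply, isom_one_apply] at this
      conv_rhs => rw [← this, smul_smul, mul_comm, h2, one_smul]
  obtain ⟨a, a4, a5⟩ : ∃ v, v ≠ 0 ∧ x.1 v = l • v := by
    obtain ⟨v, hv⟩ : ∃ v, x.1 v ≠ v := by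
      by_contra H; push Not at H
      exact y3 (A.eq x1 (by rw [show x = 1 from isom_ext H]; exact one_mem Δ))
    by_cases c : x.1 (x.1 v - v) - σ l • (x.1 v - v) = 0
    · exact ⟨_, (map_ne_zero_iff _ s⁻¹.1.injective).2 (sub_ne_zero.2 hv), k (sub_eq_zero.1 c) (by rwa [mul_comm])⟩
    refine ⟨_, c, ?_⟩
    have l6 : l ^ 2 + l + 1 = 0 := (mul_eq_zero.1 (by linear_combination l4)).resolve_left
      (sub_ne_zero.2 l3)
    simp only [map_sub, map_smul, x3 x2, l5]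
    match_scalars <;> first | linear_combination l4 | linear_combination -l4 |
      linear_combination -l6 | linear_combination l6 + l4 | linear_combination l6 - l4
  have c4 : ((3 : ℕ) : F) ≠ 0 := fun e => one_ne_zero (by linear_combination e - c2)
  obtain ⟨a, a4, a5⟩ := exists_unit_eig A.nd c4 x2 a4 l1 a5
  obtain ⟨c, c1, c3⟩ := exists_unit_eig A.nd c4 x2 c1 (by simp) c3
  have a6 := k a5 l1
  have l7 : σ l ≠ 1 := by rw [← map_one σ]; exact σ.injective.ne l3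
  obtain ⟨f, f1, f2, f3, f4⟩ := diag_frame A.nd A.dim (on_three a4 (by rwa [Q_isom]) c1
    (orth_eig a5 a6 fun e => l2 (mul_right_cancel₀ (right_ne_zero_of_mul_eq_one l1)
      (l1.trans e.symm))) (orth_eig a5 c3 (by simpa)) (orth_eig a6 c3 (by rwa [h.σσ, mul_one])))
    (A.det x1) a5 a6 (by simpa using c3)
  refine ⟨y, δ, l, y2, left_ne_zero_of_mul_eq_one l1, d2, f, x, l, f1, x1, l3, f2, f3, f4,
    lift_le fun s s1 y' z1 z2 => (f1.mem4 A.nd A.dim le_rfl).2 ⟨A.det z2, fun m _ _ => ?_⟩⟩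
  have := f1.fx_of_comm A.nd A.dim (j := 0) (by omega) f2 l2 f3 f4
    (comm_lift A.ker x1 (hc _ y1) (mem_lift s1 z1 z2))
  obtain rfl | rfl : m = 0 ∨ m = 1 := by omega
  exacts [s1.apply_eq this.1, s1.apply_eq this.2]

theorem start_three (hq : q = 3) : Start e i Γ U'' Δ p := by
  have H3 : i + 3 ≤ N := by omega
  have := h.finite
  have c2 : (2 : F) ≠ 0 := by
    obtain ⟨p, k, hp, hc, hk, e2⟩ := exists_prime_pow_of_card_eq_sq h.card
    obtain rfl : p = 3 := (Nat.prime_dvd_prime_iff_eq hp Nat.prime_three).1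
      (hq ▸ e2 ▸ dvd_pow_self p (by omega))
    exact fun e => one_ne_zero (by linear_combination (CharP.cast_eq_zero F 3) - e)
  have n2 : ∀ {M : Type v} [AddCommGroup M] [Module F M] {v : M}, -v = v → v = 0 := fun {M _ _ v} H =>
    (smul_eq_zero.1 (by rw [two_smul]; nth_rw 1 [← H]; simp)).resolve_left c2
  have ex : ∀ {y}, y ∈ U → ∃ x ∈ lift p Δ U, (y, x) ∈ Δ := ex_lift A.ker A.nd
    (fun K => L.genL hO hD p H3) fun y hy => A.fst y (Subgroup.mem_sup_left (L.leL hy))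
  obtain ⟨l, l1, l2⟩ := exists_norm_one h
  have l0 := left_ne_zero_of_mul_eq_one l1
  have l3 : l * l = -1 := by
    rw [h.apply, hq] at l1 l2
    exact eq_neg_of_add_eq_zero_left ((mul_eq_zero.1 (by linear_combination l * l1)).resolve_left
      (sub_ne_zero.2 l2.symm))
  obtain ⟨δ, d1, d2, d3⟩ := hO.exists_diag (i := i) (by omega) l1
  obtain ⟨y, y1, y2⟩ := L.exL hO hD H3 d1
  obtain ⟨x, x0, x1⟩ := ex y1
  obtain ⟨β, b1, b2⟩ := hO.swap hD (i := i) (j := i + 2) (k := i) (l := i + 1) (by omega) le_rfl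
    le_rfl (by omega) (by omega) (by omega)
  obtain ⟨b, b0, b3⟩ := L.exL hO hD H3 b1
  obtain ⟨s, s0, s1⟩ := ex b0
  have a1 := pmul (pconj b3 y2) y2
  rw [hO.diag_swap hD (by omega) d1 b1 d2 d3 b2] at a1
  have a2 := L.eq a1 (one_mem Γ)
  have d4 : ∀ v ∈ sp F e i (i + 2), (δ * δ).1 v = -v := fun v hv => by
    obtain ⟨a, b, rfl⟩ := Submodule.mem_span_pair.1 ((sp_two e i).ge hv)
    simp only [isom_mul_apply, map_add, map_smul, d2, d3, smul_smul, ← map_mul, l3, map_neg, map_one]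
    module
  have d5 : ∀ u ∈ U, y * y * u = u * (y * y) := fun u hu => by
    obtain ⟨r, r1, r2⟩ := (L.left u).1 hu
    have r3 := (hO.mem_last (by omega) H3 _).2 ⟨L.mem r1, r2⟩
    refine L.eq (pmul (pmul y2 y2) r1) ?_
    rw [show δ * δ * r = r * (δ * δ) from (hD.isOrthCompl (hO.nd (j := i + 2) (by omega))).isom_ext
      (fun w hw => by rw [isom_mul_apply, isom_mul_apply r, d4 w hw, d4 _ (SUb_maps hD r3 hw),
        map_neg]) fun w hw => by
          rw [isom_mul_apply, isom_mul_apply r, r3.2 w hw, (mul_mem d1 d1).2 w hw, r3.2 w hw]]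
    exact pmul r1 (pmul y2 y2)
  have z0 : x * s * x⁻¹ * s⁻¹ ∈ lift p Δ U := mul_mem (mul_mem (mul_mem x0 s0) (inv_mem x0))
    (inv_mem s0)
  have z1 := pmul (pconj x1 s1) (pinv s1)
  rw [show y * b * y⁻¹ * b⁻¹ = y * y by
    calc _ = y * (b * y * b⁻¹)⁻¹ := by group
      _ = _ := by rw [eq_inv_of_mul_eq_one_left a2, inv_inv]] at z1
  have z2 := fun t => comm_lift A.ker z1 d5 (s := t)
  have z3 := comm_lift A.ker (pmul x1 x1) d5 s0
  have z4 : x * s * x⁻¹ * s⁻¹ * (x * s * x⁻¹ * s⁻¹) = 1 := by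
    calc _ = x * s * x⁻¹ * s⁻¹ * x * s * x⁻¹ * s⁻¹ := by group
      _ = x * x * s * x⁻¹ * x⁻¹ * s⁻¹ := by rw [z2 x x0]; group
      _ = 1 := by rw [z3]; group
  generalize x * s * x⁻¹ * s⁻¹ = z at z0 z1 z2 z4
  have z5 : ¬ IsScal z := fun hz => by
    have := L.cent' hO hD H3 (mul_mem y1 y1) fun u hu => by
      obtain ⟨r, r1⟩ := A.fst u (Subgroup.mem_sup_left (L.leR hu))
      exact A.eq (pmul z1 r1) (hz.comm r ▸ pmul r1 z1)
    have a3 := d4 _ (mem_sp e (k := i) le_rfl (by omega))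
    rw [L.inj hO H3 (this ▸ pmul y2 y2) (k := 2) (by omega)
      ((hO.mem_last (by omega) H3 _).1 (mul_mem d1 d1)).2] at a3
    have a4 := hO.unit i (by omega)
    rw [show e i = 0 from (smul_eq_zero.1 (by
      rw [two_smul]; nth_rw 1 [show e i = -e i from a3]; simp)).resolve_left c2] at a4
    simp at a4
  have zz : ∀ v, z.1 (z.1 v) = v := fun v => by rw [← isom_mul_apply, z4]; rfl
  obtain ⟨a, b, a3, a4, a5, a6, a7⟩ := exists_two_neg A.nd c2 z4 (fun e => z5 (e ▸ isScal_one))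
    (A.det z1)
  obtain ⟨c, c1⟩ : ∃ v, z.1 v + v ≠ 0 := by
    by_contra H; push Not at H
    exact z5 ⟨-1, fun v => by simpa using eq_neg_of_add_eq_zero_left (H v)⟩
  obtain ⟨c, c1, c3⟩ := exists_unit_eig A.nd (n := 2) (by simpa) (by rwa [sq]) c1 (μ := 1) (by simp)
    (by simp [zz, add_comm])
  rw [← neg_one_smul F] at a6 a7
  have c4 : σ (-1) * 1 ≠ 1 := fun e => c2 (by simp only [map_neg, map_one] at e; linear_combination -e)
  obtain ⟨f, f1, f2, f3, f4⟩ := diag_frame A.nd A.dim (on_three a3 a4 c1 a5 (orth_eig a6 c3 c4)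
    (orth_eig a7 c3 c4)) (A.det z1) a6 (by simpa using a7) (by simpa using c3)
  refine ⟨y * y, δ * δ, -1, pmul y2 y2, by simp, by
    simpa using d4 _ (mem_sp e (k := i) le_rfl (by omega)), f, z, -1, f1, z1,
    fun e => c2 (by linear_combination -e), f2, f3, f4,
    lift_le fun s s1 y' z6 z7 => (f1.mem4 A.nd A.dim le_rfl).2 ⟨A.det z7, fun m _ _ => ?_⟩⟩
  have s2 := fun t => comm_lift A.ker z7 (fun u hu => (hc u hu _ z6).symm) (s := t)
  have m1 : ∀ v, v ∈ sp F f 0 2 ↔ z.1 v = -v := fun v => ⟨fun hv => by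
    obtain ⟨a, b, rfl⟩ := Submodule.mem_span_pair.1 ((sp_two f 0).ge hv)
    simp [f3, f4, add_comm], fun hv => by
      rw [← f1.perp_eq' A.nd A.dim (by omega)]
      exact mem_perp_sp.2 fun k k1 k2 => orth_eig (a := 1) (b := -1) (by
        simpa using ((f1.mem4 A.nd A.dim (by omega)).1 f2).2 k k2 (Or.inr k1)) (by simpa using hv)
        (by simpa using c4)⟩
  have m2 : ∀ {r : D₄.isom}, z * r = r * z → ∀ v ∈ sp F f 0 2, r.1 v ∈ sp F f 0 2 :=
    fun hr v hv => (m1 _).2 (by rw [← isom_mul_apply, hr, isom_mul_apply, (m1 v).1 hv, map_neg])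
  obtain ⟨v, v1, v2, v3⟩ := exists_fixed_mod p (isPGroup_of_unip (M := Subgroup.zpowers s) (by
    rintro _ ⟨n, rfl⟩
    exact s1.imp fun k hk => by rw [← zpow_natCast, zpow_comm, zpow_natCast, hk, _root_.one_zpow]))
    (rho _) (A := ⊥) (B := sp F f 0 2) (fun H => by
      have := f1.finrank_eq (i := 0) (j := 2) (by omega)
      rw [le_bot_iff.1 H] at this; simp at this) (by simp) (by
        rintro ⟨_, n, rfl⟩; exact m2 (Commute.zpow_right (s2 z z0).symm n))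
  have v4 : s.1 v = v := sub_eq_zero.1 (v3 ⟨s, Subgroup.mem_zpowers s⟩)
  let M := sp F f 0 2 ⊓ LinearMap.ker ((s.1 : V₄ →ₗ[F] V₄) - 1)
  have hM : ∀ v, v ∈ M ↔ v ∈ sp F f 0 2 ∧ s.1 v = v := fun v => by simp [M, sub_eq_zero]
  by_cases c : M = sp F f 0 2
  · exact ((hM _).1 (c.ge (mem_sp f (by omega) (by omega)))).2
  have v5 : (⟨v, (hM v).2 ⟨v1, v4⟩⟩ : M) ≠ 0 := fun e => v2 (congrArg Subtype.val e)
  have v6 := Submodule.finrank_lt_finrank_of_lt (lt_of_le_of_ne inf_le_left c)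
  rw [f1.finrank_eq (by omega)] at v6
  have v7 := (finrank_eq_one_iff_of_nonzero' (K := F) _ v5).1 (by
    have := (finrank_pos_iff_exists_ne_zero (R := F)).2 ⟨_, v5⟩
    change finrank F M < _ at v6; omega)
  have v8 := D₄.mem_fix_span.1 (lift_le (K := D₄.fix (F ∙ v)) (fun u u1 y y1 y2 =>
    D₄.mem_fix_span.2 fun _ e => by
      have u2 := mem_lift u1 y1 y2
      obtain ⟨c, hc⟩ := v7 ⟨u.1 v, (hM _).2 ⟨m2 (z2 u u2) v v1, by
        rw [← isom_mul_apply, s2 u u2, isom_mul_apply, v4]⟩⟩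
      rw [e]; exact u1.apply_eq ⟨c, (congrArg Subtype.val hc).symm⟩) z0) v rfl
  exact (v2 (n2 (((m1 v).1 v1).symm.trans v8))).elim

end Cfsg.Lib.Phan
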