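import Cfsg.Agent.Lib.Phan.Cov

/-!
The inductive step of Phan's theorem: extending a partial homomorphism from the stabilizer of
a unit vector.
-/

namespace Cfsg.Lib.Phan

open Module Cfsg.Lib.Forms Cfsg.Lib.Forms.Form

universe u
variable {F : Type*} [Field F] {σ : F →+* F} {q : ℕ} {h : IsConj σ q}
  {V : Type u} [AddCommGroup V] [Module F V] {D : Form h.kind V}

variable (D) in
/-- the special unitary group of a subspace -/
noncomputable def SUb (W : Submodule F V) : Subgroup D.isom := D.det.ker ⊓ D.fix (D.perp W)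

theorem mem_SUb {W : Submodule F V} {g : D.isom} :
    g ∈ SUb D W ↔ D.det g = 1 ∧ ∀ x ∈ D.perp W, g.1 x = x := Iff.rfl

theorem SUb_mono {W W' : Submodule F V} (H : W ≤ W') : SUb D W ≤ SUb D W' :=
  inf_le_inf_left _ (D.fix_anti (D.perp_anti H))

variable (D) in
/-- nondegenerate subspace -/
abbrev Nd (W : Submodule F V) : Prop := Disjoint W (D.perp W)

theorem On.restrict {ι : Type*} {u : ι → V} (hu : On D u) {Y : Submodule F V} (H : ∀ i, u i ∈ Y) :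
    On (D.restrict Y) (fun i => ⟨u i, H i⟩) := ⟨hu.unit, hu.orth⟩

theorem On.cons {m : ℕ} {u : Fin m → V} (hu : On D u) {a : V} (ha : D.Q a = 1)
    (H : ∀ i, D.B (u i) a = 0) : On D (Fin.cons a u : Fin (m + 1) → V) :=
  ⟨fun i => Fin.cases ha hu.unit i, fun i j => Fin.cases
    (Fin.cases (fun H => (H rfl).elim) (fun j _ => D.eq_zero_symm (H j)) j)
    (fun i => Fin.cases (fun _ => H i) (fun j H => hu.orth i j fun e => H (e ▸ rfl)) j) i⟩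

variable [FiniteDimensional F V] (hD : D.Nondeg)
include hD

theorem SUb_maps {Y : Submodule F V} {g : D.isom} (hg : g ∈ SUb D Y) {x : V} (hx : x ∈ Y) :
    g.1 x ∈ Y := by
  rw [← hD.perp_perp Y, D.mem_perp]
  intro w hw
  rw [← hg.2 w hw, B_isom]; exact D.mem_perp'.1 hw x hx |> D.eq_zero_symm |> D.eq_zero_symm

omit hD in
theorem exists_unit_in {Y : Submodule F V} (hY : Nd D Y) {m k : ℕ} {u : Fin m → V} (hu : On D u)
    (w : Fin k → V) (h1 : ∀ i, u i ∈ Y) (h2 : ∀ i, w i ∈ Y) (hd : m + 2 * k < finrank F Y) :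
    ∃ z ∈ Y, D.Q z = 1 ∧ (∀ i, D.B (u i) z = 0) ∧ ∀ j, D.B (w j) z = 0 := by
  obtain ⟨z, H⟩ := exists_unit (D.nondeg_restrict_iff.2 hY) (hu.restrict h1)
    (fun i => ⟨w i, h2 i⟩) hd
  exact ⟨z, z.2, H⟩

theorem trans {Y : Submodule F V} (hY : Nd D Y) {m : ℕ} {u : Fin m → V} (hu : On D u)
    (h1 : ∀ i, u i ∈ Y) (hd : m + 2 ≤ finrank F Y) {a b : V} (ha : a ∈ Y) (hb : b ∈ Y)
    (ua : D.Q a = 1) (ub : D.Q b = 1) (oa : ∀ i, D.B (u i) a = 0) (ob : ∀ i, D.B (u i) b = 0) :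
    ∃ g ∈ SUb D Y, g.1 a = b ∧ ∀ i, g.1 (u i) = u i := by
  set H := D.perp Y ⊔ Submodule.span F (Set.range u)
  have k : ∀ x ∈ Y, (∀ i, D.B (u i) x = 0) → ∀ y ∈ H, D.B y x = 0 := fun x hx ox =>
    D.mem_perp.1 (by
      rw [D.perp_sup, hD.perp_perp]; exact ⟨hx, mem_perp_range.2 ox⟩)
  obtain ⟨g, g1, g2⟩ := hD.exists_fix_map_top H (a := a) (b := b)
    (fun e => by simpa [B_self, ua] using k a ha oa a e)
    (fun e => by simpa [B_self, ub] using k b hb ob b e)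
    (fun y hy => by rw [k a ha oa y hy, k b hb ob y hy]) (by rw [ua, ub])
  obtain ⟨z, z0, z1, z2, -⟩ := exists_unit_in hY (hu.cons ub ob) ![]
    (fun i => Fin.cases hb h1 i) (by simp) (by omega)
  obtain ⟨c, hc, e⟩ := Herm.exists_rk1_det_eq z1 (u := ((D.det g)⁻¹ : Fˣ)) (by
    rw [← map_inv]; exact hD.det_mul_σ_det _)
  have z3 : ∀ y ∈ H, (D.rk1 z c hc).1 y = y := fun y hy =>
    D.rk1_apply_of_perp c hc (D.eq_zero_symm (k z z0 (fun i => z2 i.succ) y hy))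
  have z4 : ∀ y ∈ H, (D.rk1 z c hc * g).1 y = y := fun y hy => by
    rw [isom_mul_apply, g1 y hy, z3 y hy]
  refine ⟨D.rk1 z c hc * g, ⟨?_, fun x hx => z4 x (Submodule.mem_sup_left hx)⟩, ?_,
    fun i => z4 _ (Submodule.mem_sup_right (Submodule.subset_span ⟨i, rfl⟩))⟩
  · change D.det _ = 1
    rw [map_mul, Units.ext e, inv_mul_cancel]
  · rw [isom_mul_apply, g2]; exact D.rk1_apply_of_perp c hc (D.eq_zero_symm (z2 0))

theorem trans0 {Y : Submodule F V} (hY : Nd D Y) (hd : 2 ≤ finrank F Y) {a b : V} (ha : a ∈ Y)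
    (hb : b ∈ Y) (ua : D.Q a = 1) (ub : D.Q b = 1) : ∃ g ∈ SUb D Y, g.1 a = b := by
  obtain ⟨g, g1, g2, -⟩ := trans hD hY (u := ![]) ⟨by simp, by simp⟩ (by simp) hd ha hb ua ub
    (by simp) (by simp)
  exact ⟨g, g1, g2⟩

theorem trans1 {Y : Submodule F V} (hY : Nd D Y) (hd : 3 ≤ finrank F Y) {c a b : V} (hc : c ∈ Y)
    (ha : a ∈ Y) (hb : b ∈ Y) (uc : D.Q c = 1) (ua : D.Q a = 1) (ub : D.Q b = 1)
    (oa : D.B c a = 0) (ob : D.B c b = 0) : ∃ g ∈ SUb D Y, g.1 a = b ∧ g.1 c = c := by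
  obtain ⟨g, g1, g2, g3⟩ := trans hD hY (on_one uc) (by simpa) hd ha hb ua ub
    (by simpa) (by simpa)
  exact ⟨g, g1, g2, g3 0⟩

theorem trans_pair {Y : Submodule F V} (hY : Nd D Y) (hd : 3 ≤ finrank F Y) {c b c' b' : V}
    (hc : c ∈ Y) (hb : b ∈ Y) (hc' : c' ∈ Y) (hb' : b' ∈ Y) (uc : D.Q c = 1) (ub : D.Q b = 1)
    (uc' : D.Q c' = 1) (ub' : D.Q b' = 1) (o : D.B c b = 0) (o' : D.B c' b' = 0) :
    ∃ g ∈ SUb D Y, g.1 c = c' ∧ g.1 b = b' := by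
  obtain ⟨g, g1, g2⟩ := trans0 hD hY (by omega) hc hc' uc uc'
  obtain ⟨k, k1, k2, k3⟩ := trans1 hD hY hd hc' (SUb_maps hD g1 hb) hb' uc' (by simpa) ub'
    (by rw [← g2, B_isom, o]) o'
  exact ⟨k * g, mul_mem k1 g1, by rw [isom_mul_apply, g2, k3], by rw [isom_mul_apply, k2]⟩

theorem conn0 (hd : 4 ≤ finrank F V ∨ 3 ≤ finrank F V ∧ 3 ≤ q) {u v : V} (hu : D.Q u = 1)
    (hv : D.Q v = 1) :
    ∃ z z', D.Q z = 1 ∧ D.Q z' = 1 ∧ D.B u z = 0 ∧ D.B z z' = 0 ∧ D.B z' v = 0 := by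
  have : ∃ z, D.Q z = 1 ∧ D.B u z = 0 ∧ nb D v z ≠ 1 := by
    rcases hd with hd | ⟨hd, hq⟩
    · obtain ⟨z, a1, a2, a3⟩ := exists_unit hD (on_one hu) ![v] (by omega)
      exact ⟨z, a1, a2 0, nb_ne_one (a3 0)⟩
    · obtain ⟨z, a1, a2, a3⟩ := exists_col hD (on_one hu) (by omega) hq v
      exact ⟨z, a1, a2 0, a3⟩
  obtain ⟨z, a1, a2, a3⟩ := this
  obtain ⟨p, t, p1, p2, p3, -⟩ := exists_gs hv a1 a3
  obtain ⟨z', b1, b2, -⟩ := exists_unit hD (on_two hv p1 p2) ![] (by omega)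
  have c1 : D.B v z' = 0 := b2 0
  have c2 : D.B p z' = 0 := b2 1
  exact ⟨z, z', a1, b1, a2, by rw [p3]; simp [D.B_lin, c1, c2], D.eq_zero_symm c1⟩

theorem gen {Y : Submodule F V} (hY : Nd D Y) (hd : 4 ≤ finrank F Y ∨ 3 ≤ finrank F Y ∧ 3 ≤ q)
    {c : V} (hc : c ∈ Y) (uc : D.Q c = 1) {K : Subgroup D.isom}
    (h1 : ∀ s ∈ SUb D Y, s.1 c = c → s ∈ K) {g : D.isom} (g1 : g ∈ K) (g2 : g ∈ SUb D Y)
    (g3 : D.B c (g.1 c) = 0) : SUb D Y ≤ K := by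
  have k : ∀ u v, v ∈ Y → D.Q v = 1 → D.B u v = 0 → (∃ k ∈ K ⊓ SUb D Y, k.1 c = u) →
      ∃ k ∈ K ⊓ SUb D Y, k.1 c = v := by
    rintro _ v hv uv o ⟨k, k1, rfl⟩
    obtain ⟨s, s1, s2, s3⟩ := trans1 hD hY (by omega) hc (SUb_maps hD g2 hc)
      (SUb_maps hD (inv_mem k1.2) hv) uc (by simpa) (by rwa [Q_isom]) g3 (by rwa [← B_isom_left])
    refine ⟨k * s * g, mul_mem (mul_mem k1 ⟨h1 s s1 s3, s1⟩) ⟨g1, g2⟩, ?_⟩
    rw [isom_mul_apply, isom_mul_apply, s2, isom_apply_inv]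
  intro s hs
  obtain ⟨z, z', a1, a2, a3, a4, a5⟩ := conn0 (D.nondeg_restrict_iff.2 hY) hd (u := ⟨c, hc⟩)
    (v := ⟨s.1 c, SUb_maps hD hs hc⟩) uc (by simpa using uc)
  obtain ⟨k, k1, k2⟩ := k _ _ (SUb_maps hD hs hc) (by simpa using uc) a5
    (k _ _ z'.2 a2 a4 (k _ _ z.2 a1 a3 ⟨1, one_mem _, rfl⟩))
  have := h1 (k⁻¹ * s) (mul_mem (inv_mem k1.2) hs) (by rw [isom_mul_apply, ← k2, isom_inv_apply])
  simpa using mul_mem k1.1 this

omit hD [FiniteDimensional F V] in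
theorem nd_pair {b c : V} (ub : D.Q b = 1) (uc : D.Q c = 1) (o : D.B b c = 0) :
    Nd D (Submodule.span F {b, c}) ∧ finrank F (Submodule.span F {b, c}) = 2 := by
  have := on_two ub uc o
  have e : Set.range ![b, c] = {b, c} := by simp [Set.pair_comm]
  exact ⟨e ▸ this.disj, e ▸ this.finrank_eq⟩

omit hD [FiniteDimensional F V] in
theorem nd_triple {a b c : V} (H : On D ![a, b, c]) :
    Nd D (Submodule.span F {a, b, c}) ∧ finrank F (Submodule.span F {a, b, c}) = 3 := by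
  have e : Set.range ![a, b, c] = {a, b, c} := by
    ext; simp only [Matrix.range_cons, Matrix.range_empty]; simp; tauto
  exact ⟨e ▸ H.disj, e ▸ H.finrank_eq⟩

omit hD in
/-- the data of the inductive step -/
structure Dat {Ω : Type*} [Group Ω] (p : Ω →* D.isom) (Y W : Submodule F V) (H T : Subgroup Ω)
    (a b c : V) (g : Ω) : Prop where
  hD : D.Nondeg
  hY : Nd D Y
  hW : Nd D W
  le : W ≤ Y
  dY : 4 ≤ finrank F Y
  dW : 4 ≤ finrank F W ∨ 3 ≤ finrank F W ∧ 3 ≤ q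
  on : On D ![a, b, c]
  ha : a ∈ W
  hb : b ∈ W
  hc : c ∈ W
  hp : ∀ m, p m ∈ SUb D Y
  H1 : ∀ x ∈ H, (p x).1 c = c
  H2 : ∀ s ∈ SUb D Y, s.1 c = c → ∃ x ∈ H, p x = s
  T1 : ∀ t ∈ T, p t ∈ SUb D W
  T2 : ∀ s ∈ SUb D W, ∃ t ∈ T, p t = s
  T3 : ∀ t ∈ T, (p t).1 c = c → t ∈ H
  C2 : ∀ t ∈ T, p t ∈ SUb D (Submodule.span F {b, c}) → ∀ x ∈ H, (p x).1 b = b → t * x = x * t
  g1 : g ∈ T
  g2 : p g ∈ SUb D (Submodule.span F {b, c})
  g3 : (p g).1 c = b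

omit hD
namespace Dat

variable {Ω : Type*} [Group Ω] {p : Ω →* D.isom} {Y W : Submodule F V} {H T : Subgroup Ω}
    {a b c : V} {g : Ω} (d : Dat p Y W H T a b c g)
include d

theorem ua : D.Q a = 1 := d.on.unit 0
theorem ub : D.Q b = 1 := d.on.unit 1
theorem uc : D.Q c = 1 := d.on.unit 2
theorem cb : D.B c b = 0 := d.on.orth 2 1 (by decide)
theorem ca : D.B c a = 0 := d.on.orth 2 0 (by decide)
theorem ba : D.B b a = 0 := d.on.orth 1 0 (by decide)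
theorem dW3 : 3 ≤ finrank F W := by have := d.dW; omega

/-- the projection -/
noncomputable def π : Ω ⧸ H → Y := Quotient.lift (fun m => ⟨(p m).1 c, SUb_maps d.hD (d.hp m) (d.le d.hc)⟩)
  fun m m' e => Subtype.ext (by
    have := d.H1 _ (QuotientGroup.leftRel_apply.1 e)
    rw [map_mul, map_inv, isom_mul_apply, isom_inv_apply_eq] at this
    exact this)

theorem π_mk (m : Ω) : (d.π m : V) = (p m).1 c := rfl

theorem mk_T (m : Ω) {t t' : Ω} (h1 : t ∈ T) (h2 : t' ∈ T) (e : (p t).1 c = (p t').1 c) :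
    ((m * t : Ω) : Ω ⧸ H) = (m * t' : Ω) := by
  rw [QuotientGroup.eq, mul_inv_rev, mul_assoc, inv_mul_cancel_left]
  refine d.T3 _ (mul_mem (inv_mem h1) h2) ?_
  rw [map_mul, map_inv, isom_mul_apply, ← e, isom_inv_apply]

omit d in
variable (H g) in
/-- adjacency of cosets -/
def adj (x y : Ω ⧸ H) : Prop := ∃ m : Ω, x = m ∧ y = (m * g : Ω)

theorem adj_T (m : Ω) {t t' : Ω} (h1 : t ∈ T) (h2 : t' ∈ T)
    (e : D.B ((p t).1 c) ((p t').1 c) = 0) : adj H g (m * t : Ω) (m * t' : Ω) := by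
  obtain ⟨s, s1, s2, s3⟩ := trans_pair d.hD d.hW d.dW3 d.hc d.hb (SUb_maps d.hD (d.T1 t h1) d.hc)
    (SUb_maps d.hD (d.T1 t' h2) d.hc) d.uc d.ub (by simp [d.uc]) (by simp [d.uc]) d.cb e
  obtain ⟨k, k1, rfl⟩ := d.T2 s s1
  refine ⟨m * k, d.mk_T m h1 k1 s2.symm, ?_⟩
  rw [mul_assoc]
  exact d.mk_T m h2 (mul_mem k1 d.g1) (by rw [map_mul, isom_mul_apply, d.g3, s3])

omit d in
theorem adj_iff {m : Ω} {y : Ω ⧸ H} : adj H g m y ↔ ∃ k ∈ H, y = (m * k * g : Ω) :=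
  ⟨fun ⟨m', h1, h2⟩ => ⟨m⁻¹ * m', QuotientGroup.eq.1 h1, by simpa using h2⟩,
    fun ⟨k, h1, h2⟩ => ⟨m * k, (QuotientGroup.mk_mul_of_mem m h1).symm, h2⟩⟩

theorem mk_H (m : Ω) {k k' : Ω} (h1 : k ∈ H) (h2 : k' ∈ H) (e : (p k).1 b = (p k').1 b) :
    ((m * k * g : Ω) : Ω ⧸ H) = (m * k' * g : Ω) := by
  have h3 := mul_mem (inv_mem h1) h2
  have := d.C2 g d.g1 d.g2 _ h3 (by rw [map_mul, map_inv, isom_mul_apply, ← e, isom_inv_apply])
  rw [QuotientGroup.eq, show (m * k * g)⁻¹ * (m * k' * g) = g⁻¹ * (k⁻¹ * k' * g) by group, ← this]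
  simpa using h3

theorem π_nb (m k : Ω) : (d.π (m * k * g : Ω) : V) = (p m).1 ((p k).1 b) := by
  rw [π_mk, map_mul, map_mul, isom_mul_apply, isom_mul_apply, d.g3]

theorem uniq {x y y' : Ω ⧸ H} (h1 : adj H g x y) (h2 : adj H g x y') (e : d.π y = d.π y') :
    y = y' := by
  obtain ⟨m, rfl⟩ := QuotientGroup.mk_surjective x
  obtain ⟨k, k1, rfl⟩ := adj_iff.1 h1
  obtain ⟨k', k2, rfl⟩ := adj_iff.1 h2
  have := congrArg Subtype.val e
  rw [π_nb, π_nb] at this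
  exact d.mk_H m k1 k2 ((p m).1.injective this)

theorem symm {x y : Ω ⧸ H} (h1 : adj H g x y) : adj H g y x := by
  obtain ⟨m, rfl, rfl⟩ := h1
  simpa using d.adj_T m d.g1 (one_mem T) (by simpa [d.g3] using D.eq_zero_symm d.cb)

theorem orth {x y : Ω ⧸ H} (h1 : adj H g x y) : D.B (d.π x) (d.π y) = 0 := by
  obtain ⟨m, rfl, rfl⟩ := h1
  simp [π_mk, isom_mul_apply, d.g3, d.cb]

theorem key {m l k : Ω} {y : Ω ⧸ H} {a' : V} (h1 : adj H g m y) (l1 : l ∈ T) (a1 : a' ∈ W)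
    (a2 : D.Q a' = 1) (a3 : D.B c a' = 0) (a4 : D.B ((p l).1 c) a' = 0) (k1 : k ∈ H)
    (k2 : l * k = k * l) (e : (p m).1 ((p k).1 a') = d.π y) : adj H g (m * l : Ω) y := by
  obtain ⟨s, s1, s2, s3⟩ := trans1 d.hD d.hW d.dW3 d.hc d.hb a1 d.uc d.ub a2 d.cb a3
  obtain ⟨t, t1, rfl⟩ := d.T2 s s1
  have t2 := d.T3 t t1 s3
  have e1 : y = (m * k * (t * g) : Ω) := by
    refine d.uniq h1 (adj_iff.2 ⟨k * t, mul_mem k1 t2, by simp only [mul_assoc]⟩) (Subtype.ext ?_)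
    rw [← e, π_mk]; simp only [map_mul, isom_mul_apply, d.g3, s2]
  rw [e1, ← QuotientGroup.mk_mul_of_mem _ k1, mul_assoc m, k2, ← mul_assoc]
  exact d.adj_T _ l1 (mul_mem t1 d.g1) (by rwa [map_mul, isom_mul_apply, d.g3, s2])

theorem exists_H {n : ℕ} {u : Fin n → V} (hu : On D (Fin.cons c u : Fin (n + 1) → V))
    (h1 : ∀ i, u i ∈ Y) (hd : n + 3 ≤ finrank F Y) {a' : V} (m : Ω) {v : V} (ha : a' ∈ Y)
    (hv : v ∈ Y) (ua : D.Q a' = 1) (uv : D.Q v = 1) (oa : D.B c a' = 0)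
    (oa' : ∀ i, D.B (u i) a' = 0) (ov : D.B ((p m).1 c) v = 0)
    (ov' : ∀ i, D.B ((p m).1 (u i)) v = 0) :
    ∃ k ∈ H, (p m).1 ((p k).1 a') = v ∧ ∀ i, (p k).1 (u i) = u i := by
  obtain ⟨s, s1, s2, s3⟩ := trans d.hD d.hY hu (fun i => Fin.cases (d.le d.hc) h1 i) hd ha
    (SUb_maps d.hD (inv_mem (d.hp m)) hv) ua (by rwa [Q_isom]) (fun i => Fin.cases oa oa' i)
    (fun i => Fin.cases (by rwa [← B_isom_left]) (fun i => by rw [← B_isom_left]; exact ov' i) i)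
  obtain ⟨k, k1, rfl⟩ := d.H2 s s1 (s3 0)
  exact ⟨k, k1, by rw [s2, isom_apply_inv], fun i => s3 i.succ⟩

theorem exists_H0 (m : Ω) {v : V} (hv : v ∈ Y) (uv : D.Q v = 1) (ov : D.B ((p m).1 c) v = 0) :
    ∃ k ∈ H, (p m).1 ((p k).1 b) = v := by
  obtain ⟨k, k1, k2, -⟩ := d.exists_H (u := ![]) (on_one d.uc) (by simp) (by have := d.dY; omega) m
    (d.le d.hb) hv d.ub uv d.cb (by simp) ov (by simp)
  exact ⟨k, k1, k2⟩

theorem exists_H1 (m : Ω) {v : V} (hv : v ∈ Y) (uv : D.Q v = 1) (ov : D.B ((p m).1 c) v = 0)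
    (ov' : D.B ((p m).1 b) v = 0) : ∃ k ∈ H, (p m).1 ((p k).1 a) = v ∧ (p k).1 b = b := by
  obtain ⟨k, k1, k2, k3⟩ := d.exists_H (u := ![b]) (on_two d.uc d.ub d.cb)
    (by simpa using d.le d.hb) d.dY m (d.le d.ha) hv d.ua uv d.ca (by simpa using d.ba) ov
    (by simpa)
  exact ⟨k, k1, k2, k3 0⟩

/-- the cover -/
noncomputable def cov : Cov (D.restrict Y) (Ω ⧸ H) where
  π := d.π
  adj := adj H g
  unit x := by
    obtain ⟨m, rfl⟩ := QuotientGroup.mk_surjective x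
    simp [π_mk, d.uc]
  symm := d.symm
  orth := d.orth
  lift x v h1 h2 := by
    obtain ⟨m, rfl⟩ := QuotientGroup.mk_surjective x
    obtain ⟨k, k1, k2⟩ := d.exists_H0 m v.2 h1 h2
    exact ⟨_, adj_iff.2 ⟨k, k1, rfl⟩, Subtype.ext (by rw [π_nb, k2])⟩
  uniq := d.uniq
  tri {x y z} h1 h2 h3 := by
    obtain ⟨m, rfl, rfl⟩ := h1
    have uz : D.Q (d.π z) = 1 := by
      obtain ⟨m, rfl⟩ := QuotientGroup.mk_surjective z
      simp [π_mk, d.uc]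
    obtain ⟨k, k1, k2, k3⟩ := d.exists_H1 m (d.π z).2 uz (d.orth h2)
      (by simpa [π_mk, isom_mul_apply, d.g3] using h3)
    exact d.key h2 d.g1 d.ha d.ua d.ca (by rw [d.g3, d.ba]) k1 (d.C2 g d.g1 d.g2 k k1 k3) k2
  quad {x x' y y' v} h1 h2 h3 v1 v2 hx' v3 v4 := by
    obtain ⟨m₀, rfl⟩ := QuotientGroup.mk_surjective x
    obtain ⟨k₀, k1, k2⟩ := d.exists_H0 m₀ v.2 v1 v2
    rw [← QuotientGroup.mk_mul_of_mem m₀ k1] at h1 h2 hx'
    rw [← isom_mul_apply, ← map_mul] at k2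
    generalize m₀ * k₀ = m at h1 h2 hx' k2
    obtain ⟨s, t, e⟩ := hx'
    have e' : (d.π x' : V) = (p m).1 (s • c + t • b) := by
      rw [e, map_add, map_smul, map_smul, k2]; rfl
    have ux : ∀ z, D.Q (d.π z) = 1 := fun z => by
      obtain ⟨m, rfl⟩ := QuotientGroup.mk_surjective z
      simp [π_mk, d.uc]
    obtain ⟨n1, n2⟩ := nd_pair d.ub d.uc (D.eq_zero_symm d.cb)
    have mb : b ∈ Submodule.span F {b, c} := Submodule.subset_span (by simp)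
    have mc : c ∈ Submodule.span F {b, c} := Submodule.subset_span (by simp)
    obtain ⟨l, l1, l2⟩ := trans0 d.hD n1 n2.ge mc (add_mem (Submodule.smul_mem _ s mc)
      (Submodule.smul_mem _ t mb)) d.uc (by rw [← Q_isom (p m), ← e', ux])
    obtain ⟨l, l3, rfl⟩ := d.T2 l (SUb_mono (Submodule.span_le.2 (by
      rintro _ (rfl | rfl); exacts [d.hb, d.hc])) l1)
    have k : ∀ z, adj H g m z → D.B v (d.π z) = 0 → adj H g (m * l : Ω) z := fun z a1 a2 => by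
      obtain ⟨k, k1, k3, k4⟩ := d.exists_H1 m (d.π z).2 (ux z) (d.orth a1) (by rwa [k2])
      exact d.key a1 l3 d.ha d.ua d.ca (by simp [l2, D.B_lin, d.ca, d.ba]) k1
        (d.C2 l l3 l1 k k1 k4) k3
    rw [d.uniq h3 (d.symm (k y h1 v3)) (Subtype.ext (by
      rw [e', π_mk, map_mul, isom_mul_apply, l2]))]
    exact k y' h2 v4

theorem q3 (d5 : 5 ≤ finrank F Y) {a' : V} (a1 : a' ∈ W) (a2 : D.Q a' = 1) (a3 : D.B c a' = 0)
    (a4 : D.B b a' = 0) (a5 : D.B a a' = 0)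
    (C3 : ∀ t ∈ T, p t ∈ SUb D (Submodule.span F {a, b, c}) → ∀ x ∈ H, (p x).1 b = b →
      (p x).1 a = a → t * x = x * t) : d.cov.Q3 := by
  intro x x' y y' v v' h1 h2 h3 v1 v1' v2 v2' vv hx' v3 v4 v3' v4'
  obtain ⟨m₀, rfl⟩ := QuotientGroup.mk_surjective x
  obtain ⟨k₀, k1, k2⟩ := d.exists_H0 m₀ v.2 v1 v2
  rw [← isom_mul_apply, ← map_mul] at k2
  obtain ⟨k₁, k3, k4, k5⟩ := d.exists_H1 (m₀ * k₀) v'.2 v1' (by
    rw [map_mul, isom_mul_apply, d.H1 _ k1]; exact v2') (by rw [k2]; exact vv)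
  rw [← k5, ← isom_mul_apply, ← map_mul] at k2
  rw [← isom_mul_apply, ← map_mul] at k4
  rw [← QuotientGroup.mk_mul_of_mem m₀ k1, ← QuotientGroup.mk_mul_of_mem _ k3] at h1 h2 hx'
  generalize m₀ * k₀ * k₁ = m at h1 h2 hx' k2 k4
  obtain ⟨s, t, t', e⟩ := hx'
  have e' : (d.π x' : V) = (p m).1 (s • c + t • b + t' • a) := by
    change (d.cov.π x' : V) = _
    rw [e, map_add, map_add, map_smul, map_smul, map_smul, k2, k4]; rfl
  have ux : ∀ z, D.Q (d.π z) = 1 := d.cov.unit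
  obtain ⟨n1, n2⟩ := nd_triple d.on
  have ma : a ∈ Submodule.span F {a, b, c} := Submodule.subset_span (by simp)
  have mb : b ∈ Submodule.span F {a, b, c} := Submodule.subset_span (by simp)
  have mc : c ∈ Submodule.span F {a, b, c} := Submodule.subset_span (by simp)
  obtain ⟨l, l1, l2⟩ := trans0 d.hD n1 (by omega) mc (add_mem (add_mem (Submodule.smul_mem _ s mc)
    (Submodule.smul_mem _ t mb)) (Submodule.smul_mem _ t' ma)) d.uc
    (by rw [← Q_isom (p m), ← e', ux])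
  obtain ⟨l, l3, rfl⟩ := d.T2 l (SUb_mono (Submodule.span_le.2 (by
    rintro _ (rfl | rfl | rfl); exacts [d.ha, d.hb, d.hc])) l1)
  have k : ∀ z, adj H g m z → D.B v (d.π z) = 0 → D.B v' (d.π z) = 0 →
      adj H g (m * l : Ω) z := fun z b1 b2 b3 => by
    obtain ⟨k, k1, k3, k5⟩ := d.exists_H (u := ![b, a])
      (on_three d.uc d.ub d.ua d.cb d.ca d.ba) (by simpa using ⟨d.le d.hb, d.le d.ha⟩) d5 m
      (d.le a1) (d.π z).2 a2 (ux z) a3 (by simpa using ⟨a4, a5⟩) (d.orth b1)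
      (by simpa [k2, k4] using ⟨b2, b3⟩)
    exact d.key b1 l3 a1 a2 a3 (by simp [l2, D.B_lin, a3, a4, a5]) k1
      (C3 l l3 l1 k k1 (k5 0) (k5 1)) k3
  rw [d.uniq h3 (d.symm (k y h1 v3 v3')) (Subtype.ext (by
    rw [e', π_mk, map_mul, isom_mul_apply, l2]))]
  exact k y' h2 v4 v4'

theorem path {m : Ω} (hm : m ∈ H ⊔ T) :
    Relation.ReflTransGen d.cov.adj ((1 : Ω) : Ω ⧸ H) (m : Ω ⧸ H) := by
  let S : Subgroup Ω :=
    { carrier := {m | ∀ n : Ω, Relation.ReflTransGen d.cov.adj (n : Ω ⧸ H) (n * m : Ω)}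
      one_mem' := fun n => by rw [mul_one]
      mul_mem' := fun {x y} hx hy n => (hx n).trans (mul_assoc n x y ▸ hy (n * x))
      inv_mem' := fun {x} hx n => haveI : Std.Symm d.cov.adj := ⟨fun _ _ => d.symm⟩
        Relation.ReflTransGen.stdSymm.symm _ _ (by simpa using hx (n * x⁻¹)) }
  have h1 : H ≤ S := fun x hx n => by rw [QuotientGroup.mk_mul_of_mem n hx]
  have h2 : g ∈ S := fun n => .single ⟨n, rfl, rfl⟩
  have h3 : T ≤ S := fun t ht => by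
    obtain ⟨t', t1, e⟩ := gen d.hD d.hW d.dW d.hc d.uc (K := (T ⊓ S).map p) (fun s s1 s2 => by
      obtain ⟨k, k1, rfl⟩ := d.T2 s s1
      exact ⟨k, ⟨k1, h1 (d.T3 k k1 s2)⟩, rfl⟩) ⟨g, ⟨d.g1, h2⟩, rfl⟩ (d.T1 g d.g1)
      (by rw [d.g3, d.cb]) (d.T1 t ht)
    have := h1 (d.T3 (t'⁻¹ * t) (mul_mem (inv_mem t1.1) ht) (by simp [e, isom_one_apply]))
    simpa using mul_mem t1.2 this
  simpa using sup_le h1 h3 hm 1

theorem mem_H (H0 : 4 ≤ q ∨ 5 ≤ finrank F Y ∧ d.cov.Q3) {m : Ω} (hm : m ∈ H ⊔ T)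
    (e : (p m).1 c = c) : m ∈ H := by
  have h1 : d.cov.π ((1 : Ω) : Ω ⧸ H) = d.cov.π (m : Ω ⧸ H) :=
    Subtype.ext (by change (p 1).1 c = (p m).1 c; rw [e, map_one]; rfl)
  have hY := D.nondeg_restrict_iff.2 d.hY
  have := H0.elim (fun hq => Cov.inj_four hY d.dY hq (d.path hm) h1)
    fun H => Cov.inj_five hY H.1 H.2 (d.path hm) h1
  simpa using QuotientGroup.eq.1 this

end Dat

end Cfsg.Lib.Phan
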