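import Cfsg.Agent.Lib.Phan.Align
import Cfsg.Agent.S0281

/-!
Subgroups `SU₂(q)` of `SU₃(q)`.
-/

namespace Cfsg.Lib.Phan

open Module Cfsg.Lib.Forms Cfsg.Lib.Forms.Form Matrix CAut
open scoped commutatorElement

universe u
variable {F : Type*} [Field F] {σ : F →+* F} {q : ℕ} {h : IsConj σ q}
  {V : Type u} [AddCommGroup V] [Module F V] {D : Form h.kind V}

theorem card_fix (h : IsConj σ q) : Nat.card (σ.eqLocusField (RingHom.id F)) = q := h.card_fixed

theorem nonempty_sl2 (h : IsConj σ q) :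
    Nonempty (SU 2 F q ≃* SpecialLinearGroup (Fin 2) (σ.eqLocusField (RingHom.id F))) := by
  have := h.finite
  have := Fintype.ofFinite F
  have := Fintype.ofFinite (σ.eqLocusField (RingHom.id F))
  exact Cfsg.Agent.S0281.result (by rw [← Nat.card_eq_fintype_card, h.card])
    (by rw [← Nat.card_eq_fintype_card, card_fix h])

theorem su2_perfect (h : IsConj σ q) (hq : 4 ≤ q) : commutator (SU 2 F q) = ⊤ := by
  obtain ⟨j⟩ := nonempty_sl2 h
  rw [commutator_eq_comap_equiv j, Linear.sl_commutator_eq_top (Or.inr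
    (Linear.exists_sq_ne_one_of_four_le_card (by rwa [card_fix h]))), Subgroup.comap_top]

theorem fix_of_perfect {X : Type*} [Group X] (hX : commutator X = ⊤) (ρ : X →* D.isom) {u : V}
    (H : ∀ x, (ρ x).1 u ∈ F ∙ u) (x : X) : (ρ x).1 u = u := by
  have k : ∀ a b, (ρ (a * b)).1 u = (ρ (b * a)).1 u := fun a b => by
    obtain ⟨s, hs⟩ := Submodule.mem_span_singleton.1 (H a)
    obtain ⟨t, ht⟩ := Submodule.mem_span_singleton.1 (H b)
    simp only [map_mul, isom_mul_apply, ← hs, ← ht, map_smul, smul_smul, mul_comm]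
  have : commutator X ≤ (D.fix (F ∙ u)).comap ρ := by
    rw [commutator_def, Subgroup.commutator_le]
    intro a _ b _
    refine D.mem_fix_span.2 fun _ e => ?_
    rw [e, show ⁅a, b⁆ = a * b * (a⁻¹ * b⁻¹) by simp [commutatorElement_def, mul_assoc], map_mul,
      isom_mul_apply, k, ← isom_mul_apply, ← map_mul]
    simp [isom_one_apply]
  exact D.mem_fix_span.1 (this (hX ▸ Subgroup.mem_top x)) u rfl

theorem SUb_top : SUb D ⊤ = D.det.ker ⊓ D.fix (D.perp ⊤) := rfl

variable [FiniteDimensional F V] (hD : D.Nondeg)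
include hD

theorem mem_SUb_top {s : D.isom} : s ∈ SUb D ⊤ ↔ D.det s = 1 := by
  simp [mem_SUb, hD.perp_top]

theorem OnS.sp_top {e : ℕ → V} {N : ℕ} (hO : OnS D e N) (hN : finrank F V = N) :
    sp F e 0 N = ⊤ := Submodule.eq_top_of_finrank_eq (by rw [hO.finrank_eq le_rfl, hN]; rfl)

theorem exists_frame (h3 : finrank F V = 3) {u v : V} (hu : D.Q u = 1) (hv : D.Q v = 1)
    (o : D.B u v = 0) : ∃ e : ℕ → V, OnS D e 3 ∧ e 0 = u ∧ e 2 = v := by
  obtain ⟨w, w1, w2, -⟩ := exists_unit hD (on_two hu hv o) ![] (by omega)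
  have H := on_three hu w1 hv (w2 0) o (D.eq_zero_symm (w2 1))
  exact ⟨fun i => if H : i < 3 then ![u, w, v] ⟨i, H⟩ else 0, ⟨fun i hi => by
    simpa [hi] using H.unit ⟨i, hi⟩, fun i hi j hj c => by
      simpa [hi, hj] using H.orth ⟨i, hi⟩ ⟨j, hj⟩ (by simpa)⟩, rfl, rfl⟩

theorem fix_two (h3 : finrank F V = 3) {u v : V} (hu : D.Q u = 1) (hv : D.Q v = 1)
    (o : D.B u v = 0) {s : D.isom} (hs : D.det s = 1) (h1 : s.1 u = u) (h2 : s.1 v = v) :
    s = 1 := by
  obtain ⟨e, hO, rfl, rfl⟩ := exists_frame hD h3 hu hv o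
  exact hO.one hD (i := 1) (by omega) ((hO.mem_first (by omega) (by omega) _).2
    ⟨(hO.mem_last (by omega) le_rfl _).2 ⟨by rwa [hO.sp_top hD h3, mem_SUb_top hD], h2⟩, h1⟩)

theorem mem_span_of_perp (h3 : finrank F V = 3) {a b u x : V} (H : On D ![a, b, u])
    (h1 : D.B a x = 0) (h2 : D.B b x = 0) : x ∈ F ∙ u := by
  have := Submodule.eq_top_of_finrank_eq ((nd_triple H).2.trans h3.symm)
  obtain ⟨r, s, t, rfl⟩ := Submodule.mem_span_triple.1 (this ▸ Submodule.mem_top (x := x))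
  have a1 := H.B_sum ![r, s, t] 0
  have a2 := H.B_sum ![r, s, t] 1
  simp only [Fin.sum_univ_three, cons_val_zero, cons_val_one, cons_val] at a1 a2
  rw [a1.symm.trans h1, a2.symm.trans h2]
  simp [Submodule.smul_mem, Submodule.mem_span_singleton_self]

theorem witt_one (h3 : finrank F V = 3) {r r' : V} (h0 : r ≠ 0) (h1 : D.Q r = 0) (h2 : D.Q r' = 0)
    (o : D.B r r' = 0) : r' ∈ F ∙ r := by
  by_contra H
  have := ((isTS_span_singleton h1).sup_span h2 (D.mem_perp_span_singleton.2 o)).two_mul_finrank_le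
    hD
  have h4 := Submodule.finrank_lt_finrank_of_lt (show (F ∙ r) < (F ∙ r) ⊔ F ∙ r' from
    left_lt_sup.2 (by rwa [Submodule.span_singleton_le_iff_mem]))
  rw [finrank_span_singleton h0] at h4
  omega

omit [FiniteDimensional F V] in
theorem exists_unit_neg (h2 : (2 : F) ≠ 0) {t : D.isom} (ht : t * t = 1) {P : Submodule F V}
    (hP : ∀ x ∈ P, t.1 x ∈ P) (hP' : ∀ x ∈ P, x ≠ 0 → ∃ y ∈ P, D.B x y ≠ 0) {x : V} (hx : x ∈ P)
    (hx' : t.1 x ≠ x) : ∃ a ∈ P, D.Q a = 1 ∧ t.1 a = -a := by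
  have tt : ∀ x, t.1 (t.1 x) = x := fun x => by rw [← isom_mul_apply, ht]; rfl
  let M : Submodule F V := P ⊓ LinearMap.ker ((t.1 : V →ₗ[F] V) + 1)
  have hM : ∀ y, y ∈ M ↔ y ∈ P ∧ t.1 y = -y := fun y => by simp [M, add_eq_zero_iff_eq_neg]
  have k : ∀ y ∈ P, y - t.1 y ∈ M := fun y hy => (hM _).2 ⟨P.sub_mem hy (hP y hy), by simp [tt]⟩
  obtain ⟨y, y1, y2⟩ := hP' _ (k x hx).1 (sub_ne_zero.2 hx'.symm)
  obtain ⟨a, a1, a2⟩ := exists_unit_of (k x hx) (k y y1) (by
    have := B_isom t (x - t.1 x) (t.1 y)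
    rw [((hM _).1 (k x hx)).2, tt, D.B_neg_left] at this
    rw [D.B_sub_right, ← this, sub_neg_eq_add, ← two_mul]
    exact mul_ne_zero h2 y2)
  exact ⟨a, ((hM a).1 a1).1, a2, ((hM a).1 a1).2⟩

theorem invol_odd (h3 : finrank F V = 3) (h2 : (2 : F) ≠ 0) {t : D.isom} (ht : t * t = 1)
    (h1 : t ≠ 1) (hd : D.det t = 1) : ∃ u, D.Q u = 1 ∧ t.1 u = u ∧ ∀ x, t.1 x = x → x ∈ F ∙ u := by
  obtain ⟨x, hx⟩ : ∃ x, t.1 x ≠ x := by
    by_contra H; push Not at H; exact h1 (isom_ext H)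
  obtain ⟨a, -, a1, a2⟩ := exists_unit_neg hD h2 ht (P := ⊤) (by simp)
    (fun x _ H => by simpa using hD.exists_ne_zero H) trivial hx
  have n : ∀ {a x}, t.1 a = -a → t.1 x = x → D.B a x = 0 := fun {a x} e1 e2 => by
    have := B_isom t a x
    rw [e1, e2, D.B_neg_left] at this
    exact (mul_eq_zero.1 (by linear_combination -this)).resolve_left h2
  have ab : D.B a a ≠ 0 := by rw [B_self, a1]; exact one_ne_zero
  obtain ⟨y, y1, y2⟩ : ∃ y ∈ D.perp (F ∙ a), t.1 y ≠ y := by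
    by_contra H; push Not at H
    have r : D.IsRk1 a (-2) := (Herm.isRk1_iff_of_Q_eq_one a1).2 (by
      rw [show (1 : F) + -2 = -1 by ring]; simp)
    have : t = D.rk1 a _ r := (isOrthCompl_span_singleton ab).isom_ext (fun w hw => by
      obtain ⟨c, rfl⟩ := Submodule.mem_span_singleton.1 hw
      simp only [map_smul, a2, rk1_apply, B_self, a1]; congr 1; module) fun w hw => by
        rw [H w hw, D.rk1_apply_of_perp _ _ (D.mem_perp_span_singleton.1 hw)]
    have e := congrArg Units.val hd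
    rw [this, det_rk1, B_self, a1] at e
    rw [Units.val_one] at e
    exact h2 (by linear_combination -e)
  obtain ⟨b, b0, b1, b2⟩ := exists_unit_neg hD h2 ht (P := D.perp (F ∙ a)) (fun x hx => by
    rw [D.mem_perp_span_singleton] at hx ⊢
    rw [← neg_neg a, D.B_neg_left, ← a2, B_isom, hx, neg_zero]) (fun x hx H => by
      obtain ⟨y, hy⟩ := (nondeg_perp_singleton hD ab).exists_ne_zero (x := ⟨x, hx⟩)
        (by simpa using H)
      exact ⟨y, y.2, hy⟩) y1 y2
  have o := D.mem_perp_span_singleton.1 b0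
  obtain ⟨u, u1, u2, -⟩ := exists_unit hD (on_two a1 b1 o) ![] (by omega)
  obtain ⟨d, d1, d2, d3⟩ := exists_diag a1 b1 o (l := -1) (by simp)
  have : d⁻¹ * t = 1 := fix_two hD h3 a1 b1 o (by simp [hd, (mem_SUb.1 d1).1])
    (by rw [isom_mul_apply, isom_inv_apply_eq, d2, a2]; simp)
    (by rw [isom_mul_apply, isom_inv_apply_eq, d3, b2]; simp)
  refine ⟨u, u1, ?_, fun x hx => mem_span_of_perp hD h3 (on_three a1 b1 u1 o (u2 0) (u2 1))
    (n a2 hx) (n b2 hx)⟩
  rw [← inv_mul_eq_one.1 this]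
  exact d1.2 u (D.mem_perp_span_pair.2 ⟨u2 0, u2 1⟩)

theorem invol_even (h3 : finrank F V = 3) (h2 : (2 : F) = 0) {t : D.isom} (ht : t * t = 1)
    (h1 : t ≠ 1) : ∃ r, r ≠ 0 ∧ D.Q r = 0 ∧ (∀ x, t.1 x = x ↔ D.B r x = 0) ∧
      ∀ x, t.1 x - x ∈ F ∙ r := by
  have tt : ∀ x, t.1 (t.1 x) = x := fun x => by rw [← isom_mul_apply, ht]; rfl
  obtain ⟨x, hx⟩ : ∃ x, t.1 x ≠ x := by
    by_contra H; push Not at H; exact h1 (isom_ext H)
  have k1 : ∀ x y, D.B (t.1 x - x) y = D.B x (t.1 y - y) := fun x y => by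
    rw [D.B_sub_left, D.B_sub_right, ← B_isom t x (t.1 y), tt]
  have k2 : ∀ x, t.1 (t.1 x - x) = t.1 x - x := fun x => by
    rw [map_sub, tt, ← sub_eq_zero, show x - t.1 x - (t.1 x - x) = (2 : F) • (x - t.1 x) by module,
      h2, zero_smul]
  have k3 : ∀ x y, D.B (t.1 x - x) (t.1 y - y) = 0 := fun x y => by
    rw [k1, k2, sub_self, D.B_zero_right]
  have k4 : ∀ y, t.1 y - y ∈ F ∙ (t.1 x - x) := fun y => witt_one hD h3 (sub_ne_zero.2 hx)
    (by rw [← B_self, k3]) (by rw [← B_self, k3]) (k3 _ _)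
  refine ⟨_, sub_ne_zero.2 hx, by rw [← B_self, k3], fun y => ⟨fun H => by
    rw [k1, H, sub_self, D.B_zero_right], fun H => ?_⟩, k4⟩
  obtain ⟨z, hz⟩ := hD.exists_ne_zero (sub_ne_zero.2 hx)
  obtain ⟨c, hc⟩ := Submodule.mem_span_singleton.1 (k4 z)
  obtain ⟨d, hd⟩ := Submodule.mem_span_singleton.1 (k4 y)
  rw [k1, ← hc, D.B_smul_right] at hz
  rw [k1, ← hd, D.B_smul_right] at H
  rw [← sub_eq_zero, ← hd, (mul_eq_zero.1 H).resolve_right (right_ne_zero_of_mul hz), zero_smul]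

theorem exists_fixed (h3 : finrank F V = 3) (hq : 4 ≤ q) (ρ : SU 2 F q →* D.isom)
    (hρ : Function.Injective ρ) (hd : ∀ x, D.det (ρ x) = 1) :
    ∃ u, D.Q u = 1 ∧ ∀ x, (ρ x).1 u = u := by
  by_cases h2 : (2 : F) = 0
  · obtain ⟨j⟩ := nonempty_sl2 h
    set K := σ.eqLocusField (RingHom.id F)
    have h2' : (2 : K) = 0 := K.subtype.injective (by rw [map_ofNat, h2, map_zero])
    let φ := ρ.comp j.symm.toMonoidHom
    have hφ : Function.Injective φ := hρ.comp j.symm.injective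
    have k : ∀ {i j : Fin 2} (hij : i ≠ j), ∃ r, r ≠ 0 ∧ D.Q r = 0 ∧ ∀ (c : K) x, D.B r x = 0 →
        (φ (SpecialLinearGroup.transvection hij c)).1 x = x := fun {i j} hij => by
      have sq : ∀ c : K, φ (SpecialLinearGroup.transvection hij c) *
          φ (SpecialLinearGroup.transvection hij c) = 1 := fun c => by
        rw [← map_mul, ← SpecialLinearGroup.transvection_add, ← two_mul, h2', zero_mul,
          SpecialLinearGroup.transvection_coeff_zero, map_one]
      obtain ⟨r, r1, r2, r3, -⟩ := invol_even hD h3 h2 (sq 1) (fun e => one_ne_zero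
        (Linear.transvection_eq_one.1 (hφ (e.trans (map_one φ).symm))))
      refine ⟨r, r1, r2, fun c x hx => ?_⟩
      by_cases c0 : φ (SpecialLinearGroup.transvection hij c) = 1
      · rw [c0]; rfl
      obtain ⟨s, s1, s2, s3, s4⟩ := invol_even hD h3 h2 (sq c) c0
      have a1 : (φ (SpecialLinearGroup.transvection hij c)).1 r = r := by
        obtain ⟨a, ha⟩ := Submodule.mem_span_singleton.1 (witt_one hD h3 r1 r2
          (r' := (φ (SpecialLinearGroup.transvection hij c)).1 r) (by simpa) ((r3 _).1 (by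
            rw [← isom_mul_apply, ← map_mul, ← SpecialLinearGroup.transvection_add, add_comm,
              SpecialLinearGroup.transvection_add, map_mul, isom_mul_apply,
              (r3 r).2 (by rw [B_self, r2])])))
        have := congrArg (fun g : D.isom => g.1 r) (sq c)
        simp only [isom_mul_apply, ← ha, map_smul, smul_smul, isom_one_apply] at this
        have a2 : a * a = 1 := smul_left_injective F r1 (by simpa using this)
        rw [← ha, show a = 1 from (mul_self_eq_one_iff.1 a2).elim id fun e => by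
          rw [e]; linear_combination -h2, one_smul]
      obtain ⟨a, rfl⟩ := Submodule.mem_span_singleton.1 (witt_one hD h3 r1 r2 s2
        (D.eq_zero_symm ((s3 r).1 a1)))
      exact (s3 x).2 (by rw [D.B_smul_left, hx, mul_zero])
    obtain ⟨r, r1, r2, r3⟩ := k (i := 0) (j := 1) (by decide)
    obtain ⟨s, s1, s2, s3⟩ := k (i := 1) (j := 0) (by decide)
    obtain ⟨u, u1, u2⟩ := exists_unit_perp hD (W := Submodule.span F {r, s}) fun H => by
      have a1 : D.B r s ≠ 0 := fun e => by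
        obtain ⟨a, rfl⟩ := Submodule.mem_span_singleton.1 (witt_one hD h3 r1 r2 s2 e)
        have := comm_of_mem_fix_perp hD (isTS_span_singleton r2)
          (g := φ (SpecialLinearGroup.transvection (by decide : (0 : Fin 2) ≠ 1) 1))
          (h := φ (SpecialLinearGroup.transvection (by decide : (1 : Fin 2) ≠ 0) 1))
          (fun x hx => r3 1 x (D.mem_perp_span_singleton.1 hx)) fun x hx => s3 1 x (by
            rw [D.B_smul_left, D.mem_perp_span_singleton.1 hx, mul_zero])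
        rw [← map_mul, ← map_mul] at this
        have := congrFun (congrFun (congrArg Subtype.val (hφ this)) 0) 0
        simp [SpecialLinearGroup.transvection_coe, Matrix.mul_apply, Fin.sum_univ_two] at this
      have a2 := exists_isHyp_smul r2 s2 a1
      have a3 := a2.finrank_hp
      obtain ⟨w, w1, w2⟩ := (Submodule.ne_bot_iff (D.hp r ((D.B r s)⁻¹ • s))).1 fun e => by
        rw [e, finrank_bot] at a3; omega
      obtain ⟨b1, b2⟩ := D.mem_hp.1 w1
      have b3 : D.B s w = 0 := by simpa [D.B_smul_left, a1] using b2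
      obtain ⟨x, y, rfl⟩ := Submodule.mem_span_pair.1 (H (D.mem_perp_span_pair.2 ⟨b1, b3⟩))
      simp [D.B_lin, B_self, r2, s2, a1, D.ne_zero_symm a1] at b1 b3
      simp [b1, b3] at w2
    obtain ⟨u3, u4⟩ := D.mem_perp_span_pair.1 u1
    have := Linear.sl_eq_top_of_transvection_mem ((D.fix (F ∙ u)).comap φ) fun i j hij c =>
      D.mem_fix_span.2 fun _ e => by
        rw [e]
        fin_cases i <;> fin_cases j
        exacts [(hij rfl).elim, r3 c u u3, s3 c u u4, (hij rfl).elim]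
    refine ⟨u, u2, fun x => ?_⟩
    simpa [φ] using D.mem_fix_span.1 (this.ge (Subgroup.mem_top (j x))) u rfl
  · obtain ⟨z, z1, z2⟩ := exists_su2 h (a := -1) (b := 0) (by simp)
    obtain ⟨z3, z4, -⟩ := su2_entries h z
    have z5 : z.1.1 = -1 := by
      ext i j; fin_cases i <;> fin_cases j <;> simp_all
    have z6 : ∀ x, z * x = x * z := fun x => Subtype.ext (Subtype.ext (by
      change z.1.1 * x.1.1 = x.1.1 * z.1.1
      simp [z5]))
    obtain ⟨u, u1, u2, u3⟩ := invol_odd hD h3 h2 (t := ρ z) (by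
      rw [← map_mul, show z * z = 1 from Subtype.ext (Subtype.ext (by
        change z.1.1 * z.1.1 = 1
        simp [z5])), map_one]) (fun e => h2 (by
          rw [hρ (e.trans (map_one ρ).symm)] at z1
          have : (1 : F) = -1 := by simpa using z1
          linear_combination this)) (hd z)
    exact ⟨u, u1, fix_of_perfect (su2_perfect h hq) ρ fun x => u3 _ (by
      rw [← isom_mul_apply, ← map_mul, z6, map_mul, isom_mul_apply, u2])⟩

theorem fix_cyc (h3 : finrank F V = 3) {d : D.isom} (hd : D.det d = 1) (ho : orderOf d = q + 1)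
    {u : V} (hu : D.Q u = 1) (h1 : d.1 u = u) {x : V} (hx : d.1 x = x) : x ∈ F ∙ u := by
  have := h.finite
  have := h.two_le
  have d1 : d ≠ 1 := fun e => by rw [e, orderOf_one] at ho; omega
  have w1 := B_gs hu x
  have w2 : d.1 (x - D.B u x • u) = x - D.B u x • u := by rw [map_sub, map_smul, h1, hx]
  suffices x - D.B u x • u = 0 from Submodule.mem_span_singleton.2 ⟨_, (sub_eq_zero.1 this).symm⟩
  generalize x - D.B u x • u = w at w1 w2
  by_contra w0
  by_cases w3 : D.Q w = 0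
  · obtain ⟨p, k, hp, hc, hk, rfl⟩ := exists_prime_pow_of_card_eq_sq h.card
    have := Fact.mk hp
    have a1 : Submodule.span F (Set.range ![u, w]) = D.perp (F ∙ w) := by
      refine Submodule.eq_of_le_of_finrank_eq (Submodule.span_le.2 ?_) ?_
      · rintro _ ⟨i, rfl⟩
        fin_cases i
        exacts [D.mem_perp_span_singleton.2 (D.eq_zero_symm w1),
          D.mem_perp_span_singleton.2 (by rw [← w3]; exact B_self w)]
      · have := hD.finrank_perp (F ∙ w)
        rw [finrank_span_singleton w0] at this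
        rw [finrank_span_eq_card (LinearIndependent.pair_iff.2 fun s t e => ?_)]
        · simp; omega
        · have a := congrArg (D.B u) e
          simp only [D.B_lin, B_self, hu, w1] at a
          simp_all
    obtain ⟨m, hm⟩ := unip_of_mem (isPGroup_RU p (F ∙ w)) (fix_perp_le_RU (isTS_span_singleton w3)
      (show d ∈ D.fix _ by
        rw [← a1, D.mem_fix_span]; rintro _ ⟨i, rfl⟩; fin_cases i; exacts [h1, w2]))
    have a2 := orderOf_dvd_of_pow_eq_one hm
    rw [ho, Nat.dvd_prime_pow hp] at a2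
    obtain ⟨l, -, hl⟩ := a2
    have a3 : p ∣ p ^ k + 1 := hl ▸ dvd_pow_self p (by rintro rfl; rw [pow_zero] at hl; omega)
    exact hp.one_lt.ne' (Nat.dvd_one.1 ((Nat.dvd_add_right (dvd_pow_self p (by omega))).1 a3))
  · obtain ⟨t, -, ht⟩ := exists_unit_smul w3
    exact d1 (fix_two hD h3 hu ht (by rw [D.B_smul_right, w1, mul_zero]) hd h1
      (by rw [map_smul, w2]))

theorem range_eq {e : ℕ → V} {N i m : ℕ} (hO : OnS D e N) (H : i + m ≤ N) (ρ : SU m F q →* D.isom)
    (hρ : Function.Injective ρ) (hd : ∀ x, ρ x ∈ SUb D (sp F e i (i + m))) :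
    ρ.range = SUb D (sp F e i (i + m)) := by
  have := h.finite
  have : Finite V := Module.finite_of_finite F
  have := finite_isom (D := D)
  obtain ⟨j, -⟩ := hO.exists_equiv hD H
  refine Subgroup.eq_of_le_of_card_ge (by rintro _ ⟨x, rfl⟩; exact hd x) ?_
  rw [← Nat.card_congr j.toEquiv, ← Nat.card_congr (MonoidHom.ofInjective hρ).toEquiv]

theorem fix_iff {e : ℕ → V} {N i m : ℕ} (hO : OnS D e N) (H : i + m ≤ N) {s : D.isom}
    {x : SU m F q} (hj : ∀ k : Fin m, s.1 (e (i + k)) = ∑ l : Fin m, x.1 l k • e (i + l))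
    (k : Fin m) : s.1 (e (i + k)) = e (i + k) ↔ x.1.1 *ᵥ Pi.single k 1 = Pi.single k 1 := by
  rw [hj]
  refine ⟨fun H' => funext fun l => ?_, fun H' => ?_⟩
  · have := (hO.onFin H).B_sum (fun l => x.1 l k) l
    rw [H', (hO.onFin H).B_eq] at this
    simpa [Pi.single_apply] using this.symm
  · have a1 : ∀ l, x.1 l k = (Pi.single k (1 : F) : Fin m → F) l := fun l => by
      simpa using congrFun H' l
    simp [a1, Pi.single_apply]

omit hD [FiniteDimensional F V] in
theorem std_of_hom {G : Type*} [Group G] (ψ : SU 3 F q →* G) (hψ : Function.Injective ψ) :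
    IsStandardUnitaryPair ψ.range ((suBlock 3 F q {0, 1}).map ψ) ((suBlock 3 F q {1, 2}).map ψ)
      F q := Or.inl ⟨MonoidHom.ofInjective hψ, rfl, rfl⟩

omit hD [FiniteDimensional F V] in
theorem std_of_tori (h : IsConj σ q) (hq : 4 ≤ q) {G : Type*} [Group G] {A B DA DB : Subgroup G}
    (a : SU 2 F q ≃* A) (b : SU 2 F q ≃* B) (θ : ↥(A ⊔ B) ≃* SU 3 F q)
    (hA : DA ≤ A ∧ IsCyclic DA ∧ Nat.card DA = q + 1)
    (hB : DB ≤ B ∧ IsCyclic DB ∧ Nat.card DB = q + 1) (hc : Cm DA DB) :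
    IsStandardUnitaryPair (A ⊔ B) A B F q := by
  have hD := stdHerm_nondeg h (Fin 3)
  have h3 : finrank F (Fin 3 → F) = 3 := by simp
  set D := stdHerm h (Fin 3)
  let χ : ↥(A ⊔ B) →* D.isom := (Subgroup.subtype _).comp (θ.trans (suEquiv h 3)).toMonoidHom
  have hχ : Function.Injective χ := Subtype.val_injective.comp (MulEquiv.injective _)
  have dχ : ∀ x, D.det (χ x) = 1 := fun x => (θ.trans (suEquiv h 3) x).2
  have sχ : ∀ s, D.det s = 1 → ∃ x, χ x = s := fun s hs => by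
    obtain ⟨x, hx⟩ := (θ.trans (suEquiv h 3)).surjective ⟨s, hs⟩
    exact ⟨x, congrArg Subtype.val hx⟩
  have k : ∀ {A' D' : Subgroup G} (le : A' ≤ A ⊔ B) (_ : SU 2 F q ≃* A')
      (_ : D' ≤ A' ∧ IsCyclic D' ∧ Nat.card D' = q + 1), ∃ u, D.Q u = 1 ∧
      (∀ x, (χ x).1 u = u ↔ x.1 ∈ A') ∧
        ∃ d : ↥(A ⊔ B), d.1 ∈ D' ∧ ∀ x, (χ d).1 x = x → x ∈ F ∙ u := fun {A' D'} le a hA => by
    let ρ := χ.comp ((Subgroup.inclusion le).comp a.toMonoidHom)
    have hρ : Function.Injective ρ := hχ.comp ((Subgroup.inclusion_injective le).comp a.injective)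
    obtain ⟨u, u1, u2⟩ := exists_fixed hD h3 hq ρ hρ fun x => dχ _
    have u3 : ∀ x : ↥(A ⊔ B), x.1 ∈ A' → (χ x).1 u = u := fun x hx => by
      have := u2 (a.symm ⟨x, hx⟩)
      simp only [ρ, MonoidHom.comp_apply, MulEquiv.coe_toMonoidHom,
        MulEquiv.apply_symm_apply] at this
      exact this
    refine ⟨u, u1, fun x => ⟨fun H => ?_, u3 x⟩, ?_⟩
    · obtain ⟨w, w1, w2, -⟩ := exists_unit hD (on_one u1) ![] (by omega)
      obtain ⟨e, hO, rfl, rfl⟩ := exists_frame hD h3 w1 u1 (D.eq_zero_symm (w2 0))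
      have m : ∀ s, s ∈ SUb D (sp F e 0 2) ↔ D.det s = 1 ∧ s.1 (e 2) = e 2 := fun s => by
        rw [hO.mem_last (by omega) le_rfl, hO.sp_top hD h3, mem_SUb_top hD]
      obtain ⟨y, hy⟩ := (range_eq hD hO (i := 0) (by omega) ρ hρ
        fun x => (m _).2 ⟨dχ _, u2 x⟩).ge ((m _).2 ⟨dχ x, H⟩)
      rw [← hχ hy]; exact (a y).2
    · have := hA.2.1
      obtain ⟨d, hd⟩ := IsCyclic.exists_ofOrder_eq_natCard (α := D')
      refine ⟨⟨d, le (hA.1 d.2)⟩, d.2, fun x => fix_cyc hD h3 (dχ _) ?_ u1 (u3 _ (hA.1 d.2))⟩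
      rw [orderOf_injective χ hχ, ← Subgroup.orderOf_coe, Subgroup.orderOf_coe d, hd, hA.2.2]
  obtain ⟨u, u1, u2, d, d1, d2⟩ := k le_sup_left a hA
  obtain ⟨v, v1, v2, d', d1', d2'⟩ := k le_sup_right b hB
  have o : D.B v u = 0 := by
    by_contra o
    have c : d * d' = d' * d := Subtype.ext (hc _ d1 _ d1')
    obtain ⟨l, hl⟩ := Submodule.mem_span_singleton.1 (d2 ((χ d').1 u) (by
      rw [← isom_mul_apply, ← map_mul, c, map_mul, isom_mul_apply, (u2 d).2 (hA.1 d1)]))
    have a1 := B_isom (χ d') v u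
    rw [(v2 d').2 (hB.1 d1'), ← hl, D.B_smul_right, mul_eq_right₀ o] at a1
    obtain ⟨m, hm⟩ := Submodule.mem_span_singleton.1 (d2' u (by rw [← hl, a1, one_smul]))
    have a2 : B ≤ A := fun g hg => (u2 ⟨g, Subgroup.mem_sup_right hg⟩).1 (by
      rw [← hm, map_smul, (v2 ⟨g, _⟩).2 hg])
    obtain ⟨w, w1, w2, -⟩ := exists_unit hD (on_one u1) ![] (by omega)
    obtain ⟨s, s1, s2⟩ := trans0 hD (Y := ⊤) (by simp [hD.perp_top]) (by simp) trivial trivial u1 w1
    obtain ⟨x, rfl⟩ := sχ s s1.1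
    have := w2 0
    rw [← s2, (u2 x).2 (sup_le le_rfl a2 x.2)] at this
    simp [B_self, u1] at this
  obtain ⟨e, hO, rfl, rfl⟩ := exists_frame hD h3 v1 u1 o
  obtain ⟨j, hj⟩ := hO.exists_equiv hD (i := 0) (m := 3) le_rfl
  have m : ∀ s, s ∈ SUb D (sp F e 0 3) ↔ D.det s = 1 := fun s => by
    rw [hO.sp_top hD h3, mem_SUb_top hD]
  let ψ : SU 3 F q ≃* ↥(A ⊔ B) := j.trans ((MulEquiv.subgroupCongr (Subgroup.ext m)).trans
    (θ.trans (suEquiv h 3)).symm)
  have hψ : ∀ x, χ (ψ x) = (j x).1 := fun x =>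
    congrArg Subtype.val ((θ.trans (suEquiv h 3)).apply_symm_apply _)
  have f : ∀ {S : Set (Fin 3)} {k : Fin 3} {A' : Subgroup G}, A' ≤ A ⊔ B → (∀ l, l ∉ S ↔ l = k) →
      (∀ x, (χ x).1 (e k) = e k ↔ x.1 ∈ A') →
      (suBlock 3 F q S).map ((A ⊔ B).subtype.comp ψ.toMonoidHom) = A' :=
    fun {S k A'} le h1 h2 => by
      have : ∀ x, x ∈ suBlock 3 F q S ↔ (ψ x).1 ∈ A' := fun x => by
        rw [mem_suBlock h h1, ← fix_iff hD hO le_rfl (hj x), zero_add (k : ℕ), ← h2, hψ]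
      ext g
      refine ⟨by rintro ⟨x, hx, rfl⟩; exact (this x).1 hx, fun hg => ?_⟩
      obtain ⟨x, hx⟩ := ψ.surjective ⟨g, le hg⟩
      exact ⟨x, (this x).2 (by rwa [hx]), congrArg Subtype.val hx⟩
  exact Or.inl ⟨ψ, f (k := 2) le_sup_left (by decide) u2, f (k := 0) le_sup_right (by decide) v2⟩

end Cfsg.Lib.Phan
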